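import Mathlib
import Cfsg.Prelude.Def_LieExceptional

set_option autoImplicit false

/-!
# Basic facts on Zassenhaus groups (helper59)
-/

namespace Cfsg.Agent.Lib.Helper59

open MulAction

section Zass

variable {G Ω : Type*} [Group G] [MulAction G Ω]

theorem mem_stab2 {a b : Ω} {g : G} :
    g ∈ stabilizer G a ⊓ stabilizer G b ↔ g • a = a ∧ g • b = b := by
  rw [Subgroup.mem_inf, mem_stabilizer_iff, mem_stabilizer_iff]

theorem zass_two_trans (hZ : Cfsg.IsZassenhausGroup G Ω) (a b c d : Ω) (hab : a ≠ b)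
    (hcd : c ≠ d) : ∃ g : G, g • a = c ∧ g • b = d :=
  (is_two_pretransitive_iff.mp hZ.2.1) hab hcd

theorem zass_three (hZ : Cfsg.IsZassenhausGroup G Ω) (g : G) (a b c : Ω) (hab : a ≠ b)
    (hbc : b ≠ c) (hac : a ≠ c) (ha : g • a = a) (hb : g • b = b) (hc : g • c = c) : g = 1 :=
  hZ.2.2.1 g a b c hab hbc hac ha hb hc

/-- two-point stabilizers are nontrivial -/
theorem zass_stab2_ne_bot (hZ : Cfsg.IsZassenhausGroup G Ω) {a b : Ω} (hab : a ≠ b) :
    ∃ x : G, x ≠ 1 ∧ x • a = a ∧ x • b = b := by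
  obtain ⟨g₀, hg₀, a₀, b₀, hab₀, ha₀, hb₀⟩ := hZ.2.2.2.1
  obtain ⟨h, hha, hhb⟩ := zass_two_trans hZ a₀ b₀ a b hab₀ hab
  refine ⟨h * g₀ * h⁻¹, ?_, ?_, ?_⟩
  · intro h1
    apply hg₀
    have : g₀ = h⁻¹ * (h * g₀ * h⁻¹) * h := by group
    rw [this, h1]; group
  · rw [mul_smul, mul_smul, ← hha, inv_smul_smul, ha₀]
  · rw [mul_smul, mul_smul, ← hhb, inv_smul_smul, hb₀]

/-- a non-identity element fixing `a ≠ b` fixes nothing else -/
theorem zass_fixed_mem (hZ : Cfsg.IsZassenhausGroup G Ω) {a b c : Ω} (hab : a ≠ b) {x : G}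
    (hx1 : x ≠ 1) (hxa : x • a = a) (hxb : x • b = b) (hxc : x • c = c) : c = a ∨ c = b := by
  by_contra hcon
  push Not at hcon
  exact hx1 (zass_three hZ x a b c hab (Ne.symm hcon.2) (Ne.symm hcon.1) hxa hxb hxc)

/-- if `x ≠ 1` and `g x g⁻¹` both fix `a ≠ b`, then `g` preserves `{a, b}` -/
theorem zass_conj (hZ : Cfsg.IsZassenhausGroup G Ω) {a b : Ω} (hab : a ≠ b) {x g : G}
    (hx1 : x ≠ 1) (hxa : x • a = a) (hxb : x • b = b)
    (hga : (g * x * g⁻¹) • a = a) (hgb : (g * x * g⁻¹) • b = b) :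
    (g • a = a ∧ g • b = b) ∨ (g • a = b ∧ g • b = a) := by
  have hy1 : g * x * g⁻¹ ≠ 1 := by
    intro h1
    apply hx1
    have : x = g⁻¹ * (g * x * g⁻¹) * g := by group
    rw [this, h1]; group
  have h1 : (g * x * g⁻¹) • (g • a) = g • a := by
    rw [mul_smul, mul_smul, inv_smul_smul, hxa]
  have h2 : (g * x * g⁻¹) • (g • b) = g • b := by
    rw [mul_smul, mul_smul, inv_smul_smul, hxb]
  have hne : g • a ≠ g • b := fun h => hab ((MulAction.injective g) h)
  rcases zass_fixed_mem hZ hab hy1 hga hgb h1 with ha | ha <;>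
  rcases zass_fixed_mem hZ hab hy1 hga hgb h2 with hb | hb
  · exact absurd (ha.trans hb.symm) hne
  · exact Or.inl ⟨ha, hb⟩
  · exact Or.inr ⟨ha, hb⟩
  · exact absurd (ha.trans hb.symm) hne

/-- an element preserving `{a,b}` normalizes the two-point stabilizer -/
theorem mem_normalizer_stab2 {a b : Ω} {g : G}
    (hg : (g • a = a ∧ g • b = b) ∨ (g • a = b ∧ g • b = a)) :
    g ∈ Subgroup.normalizer ((stabilizer G a ⊓ stabilizer G b : Subgroup G) : Set G) := by
  rw [Subgroup.mem_set_normalizer_iff]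
  intro h
  rw [SetLike.mem_coe, SetLike.mem_coe, mem_stab2, mem_stab2]
  rcases hg with ⟨ha, hb⟩ | ⟨ha, hb⟩
  · have ha' : g⁻¹ • a = a := by rw [inv_smul_eq_iff, ha]
    have hb' : g⁻¹ • b = b := by rw [inv_smul_eq_iff, hb]
    constructor
    · rintro ⟨h1, h2⟩
      refine ⟨?_, ?_⟩
      · rw [mul_smul, mul_smul, ha', h1, ha]
      · rw [mul_smul, mul_smul, hb', h2, hb]
    · rintro ⟨h1, h2⟩
      rw [mul_smul, mul_smul, ha'] at h1
      rw [mul_smul, mul_smul, hb'] at h2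
      refine ⟨?_, ?_⟩
      · exact MulAction.injective g (h1.trans ha.symm)
      · exact MulAction.injective g (h2.trans hb.symm)
  · have ha' : g⁻¹ • a = b := by rw [inv_smul_eq_iff, hb]
    have hb' : g⁻¹ • b = a := by rw [inv_smul_eq_iff, ha]
    constructor
    · rintro ⟨h1, h2⟩
      refine ⟨?_, ?_⟩
      · rw [mul_smul, mul_smul, ha', h2, hb]
      · rw [mul_smul, mul_smul, hb', h1, ha]
    · rintro ⟨h1, h2⟩
      rw [mul_smul, mul_smul, ha'] at h1
      rw [mul_smul, mul_smul, hb'] at h2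
      refine ⟨?_, ?_⟩
      · exact MulAction.injective g (h2.trans ha.symm)
      · exact MulAction.injective g (h1.trans hb.symm)

/-- in a Zassenhaus group, the normalizer of a two-point stabilizer preserves the two points -/
theorem zass_of_mem_normalizer (hZ : Cfsg.IsZassenhausGroup G Ω) {a b : Ω} (hab : a ≠ b) {g : G}
    (hg : g ∈ Subgroup.normalizer ((stabilizer G a ⊓ stabilizer G b : Subgroup G) : Set G)) :
    (g • a = a ∧ g • b = b) ∨ (g • a = b ∧ g • b = a) := by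
  obtain ⟨x, hx1, hxa, hxb⟩ := zass_stab2_ne_bot hZ hab
  have hx : x ∈ ((stabilizer G a ⊓ stabilizer G b : Subgroup G) : Set G) :=
    mem_stab2.mpr ⟨hxa, hxb⟩
  have := (Subgroup.mem_set_normalizer_iff.mp hg x).mp hx
  rw [SetLike.mem_coe, mem_stab2] at this
  exact zass_conj hZ hab hx1 hxa hxb this.1 this.2

end Zass

end Cfsg.Agent.Lib.Helper59
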