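import Mathlib

set_option autoImplicit false

/-!
# Sharply 2-transitive finite groups: the regular normal subgroup (helper59)

`G` finite, acting transitively on `Ω` with `|G| = n (n - 1)`, `n = |Ω| ≥ 2`, and such that only the
identity fixes two distinct points. Then the identity together with the fixed-point-free elements
form a normal elementary abelian subgroup of order `n` (no Frobenius theorem needed:
`C_G(x)` is semiregular for a derangement `x`, so `|x^G| ≥ n - 1 =` number of derangements).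
-/

namespace Cfsg.Agent.Lib.Helper59

open MulAction

section SharpTwo

variable {G : Type*} {Ω : Type*} [Group G] [MulAction G Ω]

/-- The identity together with the fixed-point-free elements. -/
def derSet (G : Type*) (Ω : Type*) [Group G] [MulAction G Ω] : Set G :=
  {g | g = 1 ∨ ∀ a : Ω, g • a ≠ a}

theorem mem_derSet {g : G} : g ∈ derSet G Ω ↔ g = 1 ∨ ∀ a : Ω, g • a ≠ a := Iff.rfl

theorem one_mem_derSet : (1 : G) ∈ derSet G Ω := Or.inl rfl

theorem conj_mem_derSet {x : G} (hx : x ∈ derSet G Ω) (g : G) : g * x * g⁻¹ ∈ derSet G Ω := by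
  rcases hx with h | h
  · left; rw [h]; group
  · right
    intro a ha
    apply h (g⁻¹ • a)
    rw [mul_smul, mul_smul] at ha
    rw [eq_inv_smul_iff]
    exact ha

theorem mem_derSet_of_commute
    (hfix2 : ∀ (g : G) (a b : Ω), a ≠ b → g • a = a → g • b = b → g = 1)
    {x g : G} (hx : x ∈ derSet G Ω) (hx1 : x ≠ 1) (hg : g * x = x * g) : g ∈ derSet G Ω := by
  by_contra hgK
  simp only [derSet, Set.mem_ofPred_eq, not_or, not_forall, not_not] at hgK
  obtain ⟨hg1, a, ha⟩ := hgK
  have hxa : x • a ≠ a := by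
    rcases hx with h | h
    · exact absurd h hx1
    · exact h a
  apply hg1
  apply hfix2 g (x • a) a hxa _ ha
  rw [← mul_smul, hg, mul_smul, ha]

/-- pointwise identity behind the count of `derSet` -/
theorem card_fixedBy_add_indicator [Finite Ω] [DecidablePred (· ∈ derSet G Ω)] [DecidableEq G]
    (hfix2 : ∀ (g : G) (a b : Ω), a ≠ b → g • a = a → g • b = b → g = 1) [Nonempty Ω] (g : G) :
    Nat.card (fixedBy Ω g) + (if g ∈ derSet G Ω then 1 else 0)
      = 1 + (if g = 1 then Nat.card Ω else 0) := by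
  by_cases hg1 : g = 1
  · subst hg1
    rw [if_pos one_mem_derSet, if_pos rfl, add_comm]
    congr 1
    have h1 : fixedBy Ω (1 : G) = Set.univ := by
      ext a
      simp
    rw [h1, Nat.card_congr (Equiv.Set.univ Ω)]
  · rw [if_neg hg1, add_zero]
    by_cases hK : g ∈ derSet G Ω
    · rw [if_pos hK]
      have hd : ∀ a : Ω, g • a ≠ a := by
        rcases hK with h | h
        · exact absurd h hg1
        · exact h
      have : IsEmpty (fixedBy Ω g) := ⟨fun a => hd a.1 a.2⟩
      rw [Nat.card_of_isEmpty]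
    · rw [if_neg hK, add_zero]
      simp only [derSet, Set.mem_ofPred_eq, not_or, not_forall, not_not] at hK
      obtain ⟨_, a, ha⟩ := hK
      rw [Nat.card_eq_one_iff_unique]
      refine ⟨⟨fun b c => ?_⟩, ⟨⟨a, ha⟩⟩⟩
      by_contra hbc
      apply hg1
      apply hfix2 g b.1 c.1 (fun h => hbc (Subtype.ext h)) b.2 c.2

theorem card_derSet [Finite G] [Finite Ω] [IsPretransitive G Ω] [Nonempty Ω]
    (hfix2 : ∀ (g : G) (a b : Ω), a ≠ b → g • a = a → g • b = b → g = 1) :
    Nat.card (derSet G Ω) = Nat.card Ω := by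
  classical
  have : Fintype G := Fintype.ofFinite G
  have hB : ∑ g : G, Nat.card (fixedBy Ω g) = Nat.card G := by
    have : Fintype Ω := Fintype.ofFinite Ω
    have h := sum_card_fixedBy_eq_card_orbits_mul_card_group G Ω
    have h1 : Subsingleton (orbitRel.Quotient G Ω) :=
      (pretransitive_iff_subsingleton_quotient G Ω).1 inferInstance
    have h2 : Nonempty (orbitRel.Quotient G Ω) := ⟨Quotient.mk'' (Classical.arbitrary Ω)⟩
    have h3 : Fintype.card (orbitRel.Quotient G Ω) = 1 := by
      rw [← Nat.card_eq_fintype_card]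
      exact Nat.card_eq_one_iff_unique.mpr ⟨h1, h2⟩
    rw [h3, one_mul] at h
    rw [Nat.card_eq_fintype_card, ← h]
    apply Finset.sum_congr rfl
    intro g _
    rw [Nat.card_eq_fintype_card]
  have hsum := Finset.sum_congr (s₁ := (Finset.univ : Finset G)) rfl
    (fun g _ => card_fixedBy_add_indicator (Ω := Ω) hfix2 g)
  rw [Finset.sum_add_distrib, Finset.sum_add_distrib, hB, Finset.sum_const, Finset.card_univ,
    smul_eq_mul, mul_one, Finset.sum_ite_eq' Finset.univ (1 : G) (fun _ => Nat.card Ω),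
    if_pos (Finset.mem_univ _), ← Nat.card_eq_fintype_card] at hsum
  have hK : ∑ g : G, (if g ∈ derSet G Ω then 1 else 0) = Nat.card (derSet G Ω) := by
    rw [Finset.sum_boole, Nat.card_eq_fintype_card, Fintype.card_subtype]
    simp
  rw [hK] at hsum
  omega

/-- For a non-identity `x` in `derSet`: its centralizer is `derSet`, and its conjugacy class is
`derSet \ {1}`. -/
theorem centralizer_eq_derSet [Finite G] [Finite Ω] [IsPretransitive G Ω]
    (hfix2 : ∀ (g : G) (a b : Ω), a ≠ b → g • a = a → g • b = b → g = 1)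
    (hn : 2 ≤ Nat.card Ω) (hcard : Nat.card G = Nat.card Ω * (Nat.card Ω - 1))
    {x : G} (hx : x ∈ derSet G Ω) (hx1 : x ≠ 1) :
    ((Subgroup.centralizer {x} : Subgroup G) : Set G) = derSet G Ω ∧
      ∀ y ∈ derSet G Ω, y ≠ 1 → ∃ c : G, c * x * c⁻¹ = y := by
  have hne : Nonempty Ω := (Nat.card_pos_iff.mp (by omega)).1
  have hK := card_derSet (G := G) (Ω := Ω) hfix2
  have hKfin : (derSet G Ω).Finite := Set.toFinite _
  have hsub : ((Subgroup.centralizer {x} : Subgroup G) : Set G) ⊆ derSet G Ω := by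
    intro g hg
    have hg' := (Subgroup.mem_centralizer_iff.mp hg) x rfl
    exact mem_derSet_of_commute hfix2 hx hx1 hg'.symm
  have hOsub : orbit (ConjAct G) x ⊆ derSet G Ω \ {1} := by
    intro z hz
    rw [ConjAct.mem_orbit_conjAct, isConj_iff] at hz
    obtain ⟨c, hc⟩ := hz
    have hz' : z = c⁻¹ * x * c⁻¹⁻¹ := by rw [← hc]; group
    refine ⟨?_, ?_⟩
    · rw [hz']
      exact conj_mem_derSet hx _
    · intro h1
      rw [Set.mem_singleton_iff] at h1
      apply hx1
      rw [← hc, h1]
      group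
  have hprod : Nat.card (Subgroup.centralizer {x} : Subgroup G) * (orbit (ConjAct G) x).ncard
      = Nat.card G := by
    rw [← MulAction.index_stabilizer, Subgroup.nat_card_centralizer_nat_card_stabilizer,
      Subgroup.card_mul_index]
    rfl
  have hC : Nat.card (Subgroup.centralizer {x} : Subgroup G) ≤ Nat.card Ω := by
    rw [← hK]
    exact Nat.card_mono hKfin hsub
  have hKd : (derSet G Ω \ {1}).ncard = Nat.card Ω - 1 := by
    rw [Set.ncard_sdiff_singleton_of_mem one_mem_derSet, ← hK, Nat.card_coe_set_eq]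
  have hO : (orbit (ConjAct G) x).ncard ≤ Nat.card Ω - 1 := by
    rw [← hKd]
    exact Set.ncard_le_ncard hOsub (hKfin.subset Set.sdiff_subset)
  obtain ⟨m, hm⟩ : ∃ m, Nat.card Ω = m + 2 := ⟨Nat.card Ω - 2, by omega⟩
  rw [hcard] at hprod
  rw [hm] at hC hO hprod
  simp only [show m + 2 - 1 = m + 1 by omega] at hO hprod
  have hC' : Nat.card (Subgroup.centralizer {x} : Subgroup G) = m + 2 := by
    by_contra hlt
    have h1 : Nat.card (Subgroup.centralizer {x} : Subgroup G) ≤ m + 1 := by omega
    have h2 := Nat.mul_le_mul h1 hO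
    rw [hprod] at h2
    nlinarith
  have hO' : (orbit (ConjAct G) x).ncard = m + 1 := by
    rw [hC'] at hprod
    have : 0 < m + 2 := by omega
    exact Nat.eq_of_mul_eq_mul_left this hprod
  refine ⟨?_, ?_⟩
  · apply Set.eq_of_subset_of_ncard_le hsub _ hKfin
    rw [← Nat.card_coe_set_eq, ← Nat.card_coe_set_eq, hK, hm]
    exact hC'.ge
  · intro y hy hy1
    have hOeq : orbit (ConjAct G) x = derSet G Ω \ {1} := by
      apply Set.eq_of_subset_of_ncard_le hOsub _ (hKfin.subset Set.sdiff_subset)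
      rw [hKd, hO', hm]
      omega
    have hyO : y ∈ orbit (ConjAct G) x := by
      rw [hOeq]
      exact ⟨hy, hy1⟩
    rw [ConjAct.mem_orbit_conjAct, isConj_comm, isConj_iff] at hyO
    exact hyO

/-- **Sharply 2-transitive groups**: the identity and the derangements form a normal elementary
abelian subgroup of order `|Ω|`. -/
theorem exists_regular_normal [Finite G] [Finite Ω] [IsPretransitive G Ω]
    (hfix2 : ∀ (g : G) (a b : Ω), a ≠ b → g • a = a → g • b = b → g = 1)
    (hn : 2 ≤ Nat.card Ω) (hcard : Nat.card G = Nat.card Ω * (Nat.card Ω - 1)) :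
    ∃ N : Subgroup G, N.Normal ∧ (∀ g : G, g ∈ N ↔ g = 1 ∨ ∀ a : Ω, g • a ≠ a) ∧
      Nat.card N = Nat.card Ω ∧ (∀ x ∈ N, ∀ y ∈ N, x * y = y * x) ∧
      ∃ p : ℕ, p.Prime ∧ p ∣ Nat.card Ω ∧ ∀ x ∈ N, x ^ p = 1 := by
  have hne : Nonempty Ω := (Nat.card_pos_iff.mp (by omega)).1
  have hK := card_derSet (G := G) (Ω := Ω) hfix2
  have hKfin : (derSet G Ω).Finite := Set.toFinite _
  obtain ⟨x₀, hx₀, hx₀1⟩ : ∃ x₀ ∈ derSet G Ω, x₀ ≠ 1 := by
    apply Set.exists_ne_of_one_lt_ncard
    rw [← Nat.card_coe_set_eq, hK]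
    omega
  have key := fun {x : G} (hx : x ∈ derSet G Ω) (hx1 : x ≠ 1) =>
    centralizer_eq_derSet hfix2 hn hcard hx hx1
  have hmem : ∀ g : G, g ∈ Subgroup.centralizer {x₀} ↔ g ∈ derSet G Ω := by
    intro g
    rw [← (key hx₀ hx₀1).1]
    rfl
  have hcardN : Nat.card (Subgroup.centralizer {x₀} : Subgroup G) = Nat.card Ω := by
    rw [← hK]
    apply Nat.card_congr
    exact Equiv.subtypeEquivRight hmem
  refine ⟨Subgroup.centralizer {x₀}, ⟨?_⟩, hmem, hcardN, ?_, ?_⟩
  · intro n hn' g
    rw [hmem] at hn' ⊢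
    exact conj_mem_derSet hn' g
  · intro x hx y hy
    rw [hmem] at hx hy
    by_cases hx1 : x = 1
    · rw [hx1, one_mul, mul_one]
    · have hy' : y ∈ ((Subgroup.centralizer {x} : Subgroup G) : Set G) := by
        rw [(key hx hx1).1]; exact hy
      exact (Subgroup.mem_centralizer_iff.mp hy') x rfl
  · have hp : (Nat.card Ω).minFac.Prime := Nat.minFac_prime (by omega)
    have : Fact (Nat.card Ω).minFac.Prime := ⟨hp⟩
    have hdvd : (Nat.card Ω).minFac ∣ Nat.card (Subgroup.centralizer {x₀} : Subgroup G) := by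
      rw [hcardN]
      exact Nat.minFac_dvd _
    obtain ⟨y, hy⟩ := exists_prime_orderOf_dvd_card' (Nat.card Ω).minFac hdvd
    have hyK : (y : G) ∈ derSet G Ω := (hmem _).mp y.2
    have hy1 : (y : G) ≠ 1 := by
      intro h
      have : y = 1 := Subtype.ext h
      rw [this, orderOf_one] at hy
      exact hp.one_lt.ne hy
    have hyp : (y : G) ^ (Nat.card Ω).minFac = 1 := by
      have := pow_orderOf_eq_one y
      rw [hy] at this
      exact_mod_cast congrArg Subtype.val this
    refine ⟨_, hp, Nat.minFac_dvd _, ?_⟩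
    intro x hx
    rw [hmem] at hx
    by_cases hx1 : x = 1
    · rw [hx1, one_pow]
    · obtain ⟨c, hc⟩ := (key hyK hy1).2 x hx hx1
      rw [← hc, conj_pow, hyp]
      group

end SharpTwo

end Cfsg.Agent.Lib.Helper59
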