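import Mathlib
import Cfsg.Agent.Lib.Helper59.Zassenhaus
import Cfsg.Agent.Lib.Helper59.SharpTwo

set_option autoImplicit false

/-!
# The Frobenius kernel of a point stabilizer of a Zassenhaus group, as a set (helper59)
-/

namespace Cfsg.Agent.Lib.Helper59

open MulAction

section ZassKernel

variable {G Ω : Type*} [Group G] [MulAction G Ω]

/-- the identity together with the elements fixing `a` and nothing else -/
def zassKernel (G : Type*) {Ω : Type*} [Group G] [MulAction G Ω] (a : Ω) : Set G :=
  {x : G | x • a = a ∧ (x = 1 ∨ ∀ c : Ω, x • c = c → c = a)}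

theorem conj_mem_zassKernel {a : Ω} {x g : G} (hx : x ∈ zassKernel G a) (hg : g • a = a) :
    g * x * g⁻¹ ∈ zassKernel G a := by
  have hg' : g⁻¹ • a = a := by rw [inv_smul_eq_iff, hg]
  refine ⟨?_, ?_⟩
  · rw [mul_smul, mul_smul, hg', hx.1, hg]
  · rcases hx.2 with h | h
    · left; rw [h]; group
    · right
      intro c hc
      rw [mul_smul, mul_smul] at hc
      have h1 : x • g⁻¹ • c = g⁻¹ • c := by
        rw [eq_inv_smul_iff]; exact hc
      have := h _ h1
      rw [inv_smul_eq_iff, hg] at this
      exact this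

/-- In a Zassenhaus group of degree `n + 1`, the kernel set has `n` elements. -/
theorem zass_card_kernel [Finite G] [Finite Ω] (hZ : Cfsg.IsZassenhausGroup G Ω) (a : Ω) :
    (zassKernel G a).ncard + 1 = Nat.card Ω := by
  classical
  have hpt : IsPretransitive (stabilizer G a) (SubMulAction.ofStabilizer G a) := by
    refine ⟨fun x y => ?_⟩
    have hx : (x : Ω) ≠ a := SubMulAction.neq_of_mem_ofStabilizer G a
    have hy : (y : Ω) ≠ a := SubMulAction.neq_of_mem_ofStabilizer G a
    obtain ⟨g, hga, hgx⟩ := zass_two_trans hZ a x a y (Ne.symm hx) (Ne.symm hy)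
    exact ⟨⟨g, hga⟩, Subtype.ext hgx⟩
  obtain ⟨x₀, hx₀1, b₀, c₀, hbc₀, hxb₀, hxc₀⟩ := hZ.2.2.2.1
  have hne : Nonempty (SubMulAction.ofStabilizer G a) := by
    by_cases hb : b₀ = a
    · exact ⟨⟨c₀, (SubMulAction.mem_ofStabilizer_iff G a).mpr (fun h => hbc₀ (hb.trans h.symm))⟩⟩
    · exact ⟨⟨b₀, (SubMulAction.mem_ofStabilizer_iff G a).mpr hb⟩⟩
  have hfix2 : ∀ (g : stabilizer G a) (x y : SubMulAction.ofStabilizer G a), x ≠ y →
      g • x = x → g • y = y → g = 1 := by
    intro g x y hxy hgx hgy
    have hx : (x : Ω) ≠ a := SubMulAction.neq_of_mem_ofStabilizer G a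
    have hy : (y : Ω) ≠ a := SubMulAction.neq_of_mem_ofStabilizer G a
    have hxy' : (x : Ω) ≠ y := fun h => hxy (Subtype.ext h)
    apply Subtype.ext
    exact zass_three hZ (g : G) a x y (Ne.symm hx) hxy' (Ne.symm hy) g.2
      (congrArg Subtype.val hgx) (congrArg Subtype.val hgy)
  have hcard := card_derSet (G := stabilizer G a) (Ω := SubMulAction.ofStabilizer G a) hfix2
  have himg : zassKernel G a =
      Subtype.val '' (derSet (stabilizer G a) (SubMulAction.ofStabilizer G a)) := by
    ext x
    constructor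
    · rintro ⟨hxa, hx⟩
      refine ⟨⟨x, hxa⟩, ?_, rfl⟩
      rcases hx with h | h
      · left; exact Subtype.ext h
      · right
        intro y hy
        have := h y (congrArg Subtype.val hy)
        exact (SubMulAction.neq_of_mem_ofStabilizer G a) this
    · rintro ⟨g, hg, rfl⟩
      refine ⟨g.2, ?_⟩
      rcases hg with h | h
      · left; rw [h]; rfl
      · right
        intro c hc
        by_contra hca
        exact h ⟨c, (SubMulAction.mem_ofStabilizer_iff G a).mpr hca⟩ (Subtype.ext hc)
  rw [himg, Set.ncard_image_of_injective _ Subtype.val_injective, ← Nat.card_coe_set_eq, hcard,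
    SubMulAction.nat_card_ofStabilizer_add_one_eq]

/-- A subgroup of order `n` of the point stabilizer all of whose non-identity elements fix only
`a` is the kernel set. -/
theorem eq_zassKernel [Finite G] [Finite Ω] (hZ : Cfsg.IsZassenhausGroup G Ω) (a : Ω)
    (H : Subgroup G) (hHa : H ≤ stabilizer G a) (hHcard : Nat.card H + 1 = Nat.card Ω)
    (hHfix : ∀ u ∈ H, u ≠ 1 → ∀ c : Ω, u • c = c → c = a) : (H : Set G) = zassKernel G a := by
  apply Set.eq_of_subset_of_ncard_le _ _ (Set.toFinite _)
  · intro u hu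
    refine ⟨hHa hu, ?_⟩
    by_cases hu1 : u = 1
    · exact Or.inl hu1
    · exact Or.inr (hHfix u hu hu1)
  · have := zass_card_kernel hZ a
    have h2 : (H : Set G).ncard = Nat.card H := (Nat.card_coe_set_eq _).symm
    omega

end ZassKernel

end Cfsg.Agent.Lib.Helper59
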