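import Mathlib
import Cfsg.Agent.Lib.Helper26.PFEightC
import Cfsg.Agent.S3745

/-!
# Peterfalvi 13.15-type statement S1549, module M2 (helper33 #2751)

If `S` is of type P with data `W₁, U, W₂`, `S` is solvable, `N_G(U) ≰ S` and `N_G(U) ≤ L`,
then `L` is not conjugate to `S`.
-/

set_option autoImplicit false

namespace Cfsg.Agent.Lib.Helper59.PFThirteenM2

open Cfsg

/-- The index of `U` in `S` for type-P data: `|S : U| = |S_F| * |W₁|`. -/
theorem relIndex_U {G : Type*} [Group G] [Finite G] {S W₁ U W₂ : Subgroup G}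
    (hSP : Cfsg.IsTypePWith S W₁ U W₂) :
    U.relIndex S = Nat.card ↥(fittingHallOf S) * Nat.card ↥W₁ := by
  have h1 := Cfsg.Agent.Lib.Helper23.card_of_isComplIn hSP.W₁_compl
  have h2 := Cfsg.Agent.Lib.Helper23.card_of_isComplIn hSP.U_compl
  have hUS : U ≤ S := hSP.U_compl.2.1.trans hSP.W₁_compl.1
  have h3 := Cfsg.Agent.Lib.Helper23.card_mul_relIndex_of_le hUS
  have hpos : 0 < Nat.card ↥U := Nat.card_pos
  have : Nat.card ↥U * U.relIndex S
      = Nat.card ↥U * (Nat.card ↥(fittingHallOf S) * Nat.card ↥W₁) := by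
    rw [h3, h1, h2]; ring
  exact Nat.eq_of_mul_eq_mul_left hpos this

theorem not_conj_S {G : Type*} [Group G] [Finite G] {S W₁ U W₂ : Subgroup G}
    (hSP : Cfsg.IsTypePWith S W₁ U W₂) (hSsolv : Group.IsSolvable ↥S)
    (hNU : ¬ Subgroup.normalizer (U : Set G) ≤ S) (L : Subgroup G)
    (hNUL : Subgroup.normalizer (U : Set G) ≤ L) (g : G) :
    L ≠ S.map (MulAut.conj g).toMonoidHom := by
  intro hL
  have hUS : U ≤ S := hSP.U_compl.2.1.trans hSP.W₁_compl.1
  have hcop := Cfsg.Agent.Lib.Helper23.typeP_coprime hSP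
  -- membership in `L`
  have hmemL : ∀ x : G, x ∈ L ↔ g⁻¹ * x * g ∈ S := by
    intro x
    rw [hL]
    constructor
    · rintro ⟨s, hs, rfl⟩
      have e : g⁻¹ * ((MulAut.conj g).toMonoidHom s) * g = s := by
        simp only [MulEquiv.toMonoidHom_eq_coe, MonoidHom.coe_coe, MulAut.conj_apply]
        group
      rw [e]; exact hs
    · intro h
      refine ⟨g⁻¹ * x * g, h, ?_⟩
      simp [MulAut.conj_apply, mul_assoc]
  -- the conjugate `U₁ = g⁻¹ U g`
  set U₁ : Subgroup G := U.map (MulAut.conj g⁻¹).toMonoidHom with hU₁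
  have hU₁S : U₁ ≤ S := by
    rintro _ ⟨u, hu, rfl⟩
    have huL : u ∈ L := hNUL (Subgroup.le_normalizer hu)
    have := (hmemL u).1 huL
    simpa [MulAut.conj_apply] using this
  have hcardU₁ : Nat.card ↥U₁ = Nat.card ↥U := by
    rw [hU₁]
    exact Nat.card_congr
      (U.equivMapOfInjective (MulAut.conj g⁻¹).toMonoidHom (MulAut.conj g⁻¹).injective).toEquiv.symm
  let π : Set ℕ := {p | p ∣ Nat.card ↥U}
  have hidx : (Nat.card ↥U).Coprime (Nat.card ↥(fittingHallOf S) * Nat.card ↥W₁) :=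
    Nat.Coprime.mul_right hcop.1.symm hcop.2.symm
  have hHallU : IsPiHallOf π U S := by
    refine ⟨hUS, fun p _ hp => hp, fun p hp hpπ hdvd => ?_⟩
    rw [relIndex_U hSP] at hdvd
    exact hp.one_lt.ne' (Nat.eq_one_of_dvd_coprimes hidx hpπ hdvd)
  have hrel : U₁.relIndex S = U.relIndex S := by
    have h3 := Cfsg.Agent.Lib.Helper23.card_mul_relIndex_of_le hUS
    have h4 := Cfsg.Agent.Lib.Helper23.card_mul_relIndex_of_le hU₁S
    rw [hcardU₁, ← h3] at h4
    exact Nat.eq_of_mul_eq_mul_left Nat.card_pos h4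
  have hHallU₁ : IsPiHallOf π U₁ S := by
    refine ⟨hU₁S, fun p _ hp => ?_, fun p hp hpπ hdvd => ?_⟩
    · show p ∣ Nat.card ↥U
      rw [← hcardU₁]; exact hp
    · rw [hrel] at hdvd
      exact hHallU.2.2 p hp hpπ hdvd
  have h := Cfsg.Agent.S3745.result (⊥ : Subgroup G) S bot_le
    (by rw [Subgroup.card_bot]; exact Nat.coprime_one_left _) hSsolv π
  obtain ⟨c, hc, hcU⟩ := h.2.1 U U₁ hHallU bot_le hHallU₁ bot_le
  have hcS : c ∈ S := hc.1
  -- `g * c` normalizes `U`
  have hgc : g * c ∈ Subgroup.normalizer (U : Set G) := by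
    have hmap : U.map (MulAut.conj (g * c)).toMonoidHom = U := by
      have h1 : U.map (MulAut.conj (g * c)).toMonoidHom
          = (U.map (MulAut.conj c).toMonoidHom).map (MulAut.conj g).toMonoidHom := by
        rw [Subgroup.map_map]
        congr 1
        ext x
        simp [MulAut.conj_apply, mul_assoc]
      rw [h1, ← hcU, hU₁, Subgroup.map_map]
      have : ((MulAut.conj g).toMonoidHom.comp (MulAut.conj g⁻¹).toMonoidHom) = MonoidHom.id G := by
        ext x
        simp [MulAut.conj_apply, mul_assoc]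
      rw [this, Subgroup.map_id]
    rw [Subgroup.mem_normalizer_iff]
    intro x
    constructor
    · intro hx
      have : (MulAut.conj (g * c)).toMonoidHom x ∈ U.map (MulAut.conj (g * c)).toMonoidHom :=
        Subgroup.mem_map_of_mem _ hx
      rw [hmap] at this
      simpa only [MulEquiv.toMonoidHom_eq_coe, MonoidHom.coe_coe, MulAut.conj_apply] using this
    · intro hx
      have hx' : g * c * x * (g * c)⁻¹ ∈ U.map (MulAut.conj (g * c)).toMonoidHom := by
        rw [hmap]; exact hx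
      obtain ⟨y, hy, hyx⟩ := hx'
      have : y = x := by
        have := hyx
        simp only [MulEquiv.toMonoidHom_eq_coe, MonoidHom.coe_coe, MulAut.conj_apply] at this
        have h2 : (g * c)⁻¹ * (g * c * y * (g * c)⁻¹) * (g * c)
            = (g * c)⁻¹ * (g * c * x * (g * c)⁻¹) * (g * c) := by rw [this]
        have e1 : (g * c)⁻¹ * (g * c * y * (g * c)⁻¹) * (g * c) = y := by group
        have e2 : (g * c)⁻¹ * (g * c * x * (g * c)⁻¹) * (g * c) = x := by group
        rw [e1, e2] at h2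
        exact h2
      rw [← this]; exact hy
  have hgcL : g⁻¹ * (g * c) * g ∈ S := (hmemL _).1 (hNUL hgc)
  have e : g⁻¹ * (g * c) * g = c * g := by group
  rw [e] at hgcL
  have hgS : g ∈ S := by
    have := S.mul_mem (S.inv_mem hcS) hgcL
    have e2 : c⁻¹ * (c * g) = g := by group
    rwa [e2] at this
  -- hence `L = S`
  have hLS : L ≤ S := by
    intro x hx
    have h1 := (hmemL x).1 hx
    have h2 := S.mul_mem (S.mul_mem hgS h1) (S.inv_mem hgS)
    have e3 : g * (g⁻¹ * x * g) * g⁻¹ = x := by group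
    rwa [e3] at h2
  exact hNU (hNUL.trans hLS)

end Cfsg.Agent.Lib.Helper59.PFThirteenM2
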