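import Mathlib
import Cfsg.Agent.S0266

set_option autoImplicit false

/-!
# The projective line as `F ∪ {∞}`; affine maps and the inversion as elements of `PGL₂` (helper59)
-/

namespace Cfsg.Agent.Lib.Helper59

open Matrix Projectivization
open scoped MatrixGroups LinearAlgebra.Projectivization

section Line

variable {F : Type*} [Field F]

theorem finPt_ne (x : F) : (![x, 1] : Fin 2 → F) ≠ 0 := by
  intro h; have := congrFun h 1; simp at this

theorem infPt_ne : (![1, 0] : Fin 2 → F) ≠ 0 := by
  intro h; have := congrFun h 0; simp at this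

/-- the point `[x : 1]` -/
noncomputable def finPt (x : F) : ℙ F (Fin 2 → F) := Projectivization.mk F ![x, 1] (finPt_ne x)

/-- the point `[1 : 0]` -/
noncomputable def infPt (F : Type*) [Field F] : ℙ F (Fin 2 → F) :=
  Projectivization.mk F ![1, 0] infPt_ne

/-- the projective line as `F ∪ {∞}` -/
noncomputable def linePt : Option F → ℙ F (Fin 2 → F)
  | some x => finPt x
  | none => infPt F

theorem finPt_injective : Function.Injective (finPt : F → ℙ F (Fin 2 → F)) := by
  intro x y h
  unfold finPt at h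
  rw [mk_eq_mk_iff] at h
  obtain ⟨a, ha⟩ := h
  have h1 := congrFun ha 1
  have h0 := congrFun ha 0
  simp [Units.smul_def] at h0 h1
  rw [h1] at h0
  simpa using h0.symm

theorem finPt_ne_infPt (x : F) : finPt x ≠ infPt F := by
  intro h
  unfold finPt infPt at h
  rw [mk_eq_mk_iff] at h
  obtain ⟨a, ha⟩ := h
  have h1 := congrFun ha 1
  simp [Units.smul_def] at h1

theorem linePt_bijective : Function.Bijective (linePt : Option F → ℙ F (Fin 2 → F)) := by
  constructor
  · intro a b h
    cases a with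
    | none =>
      cases b with
      | none => rfl
      | some y => exact absurd h.symm (finPt_ne_infPt y)
    | some x =>
      cases b with
      | none => exact absurd h (finPt_ne_infPt x)
      | some y => rw [finPt_injective h]
  · intro p
    induction p using Projectivization.ind with | _ v hv =>
    by_cases h1 : v 1 = 0
    · refine ⟨none, ?_⟩
      show infPt F = _
      unfold infPt
      rw [mk_eq_mk_iff]
      have h0 : v 0 ≠ 0 := by
        intro h0
        apply hv
        ext i
        fin_cases i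
        · exact h0
        · exact h1
      refine ⟨Units.mk0 (v 0)⁻¹ (inv_ne_zero h0), ?_⟩
      ext i
      fin_cases i
      · simp [Units.smul_def, h0]
      · simp [Units.smul_def, h1]
    · refine ⟨some (v 0 / v 1), ?_⟩
      show finPt (v 0 / v 1) = _
      unfold finPt
      rw [mk_eq_mk_iff]
      refine ⟨Units.mk0 (v 1)⁻¹ (inv_ne_zero h1), ?_⟩
      ext i
      fin_cases i
      · simp [Units.smul_def, div_eq_inv_mul]
      · simp [Units.smul_def, h1]

/-- the projective line as `F ∪ {∞}`, as an equivalence -/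
noncomputable def lineEquiv (F : Type*) [Field F] : Option F ≃ ℙ F (Fin 2 → F) :=
  Equiv.ofBijective linePt linePt_bijective

@[simp] theorem lineEquiv_some (x : F) : lineEquiv F (some x) = finPt x := rfl
@[simp] theorem lineEquiv_none : lineEquiv F none = infPt F := rfl

end Line

section Elements

variable {F : Type*} [Field F]

theorem affMat_det (a b : F) : (!![a, b; 0, 1] : Matrix (Fin 2) (Fin 2) F).det = a := by
  rw [det_fin_two_of]; ring

/-- the affine map `x ↦ a x + b` as an element of `PGL₂` -/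
noncomputable def affPGL (a b : F) (ha : a ≠ 0) : PGL(Fin 2, F) :=
  Matrix.ProjGenLinGroup.mk (GeneralLinearGroup.mkOfDetNeZero !![a, b; 0, 1]
    (by rw [affMat_det]; exact ha))

theorem swapMat_det : (!![0, 1; 1, 0] : Matrix (Fin 2) (Fin 2) F).det ≠ 0 := by
  rw [det_fin_two_of]; simp

/-- the inversion `x ↦ 1 / x` as an element of `PGL₂` -/
noncomputable def swapPGL (F : Type*) [Field F] : PGL(Fin 2, F) :=
  Matrix.ProjGenLinGroup.mk (GeneralLinearGroup.mkOfDetNeZero !![0, 1; 1, 0] swapMat_det)

theorem affPGL_finPt (a b : F) (ha : a ≠ 0) (x : F) :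
    affPGL a b ha • finPt x = finPt (a * x + b) := by
  unfold affPGL finPt
  rw [PGL.mk_smul_mk, mk_eq_mk_iff]
  refine ⟨1, ?_⟩
  rw [one_smul, Cfsg.Agent.S0266.gl_smul_eq]
  ext i
  fin_cases i
  · simp [GeneralLinearGroup.mkOfDetNeZero, mul_comm]
  · simp [GeneralLinearGroup.mkOfDetNeZero]

theorem affPGL_infPt (a b : F) (ha : a ≠ 0) : affPGL a b ha • infPt F = infPt F := by
  unfold affPGL infPt
  rw [PGL.mk_smul_mk, mk_eq_mk_iff]
  refine ⟨Units.mk0 a ha, ?_⟩
  rw [Cfsg.Agent.S0266.gl_smul_eq]
  ext i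
  fin_cases i <;> simp [GeneralLinearGroup.mkOfDetNeZero, Units.smul_def]

theorem swapPGL_finPt (x : F) (hx : x ≠ 0) : swapPGL F • finPt x = finPt x⁻¹ := by
  unfold swapPGL finPt
  rw [PGL.mk_smul_mk, mk_eq_mk_iff]
  refine ⟨Units.mk0 x hx, ?_⟩
  rw [Cfsg.Agent.S0266.gl_smul_eq]
  ext i
  fin_cases i <;> simp [GeneralLinearGroup.mkOfDetNeZero, Units.smul_def, hx]

theorem swapPGL_zero : swapPGL F • finPt (0 : F) = infPt F := by
  unfold swapPGL finPt infPt
  rw [PGL.mk_smul_mk, mk_eq_mk_iff]
  refine ⟨1, ?_⟩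
  rw [one_smul, Cfsg.Agent.S0266.gl_smul_eq]
  ext i
  fin_cases i <;> simp [GeneralLinearGroup.mkOfDetNeZero]

theorem swapPGL_infPt : swapPGL F • infPt F = finPt (0 : F) := by
  unfold swapPGL finPt infPt
  rw [PGL.mk_smul_mk, mk_eq_mk_iff]
  refine ⟨1, ?_⟩
  rw [one_smul, Cfsg.Agent.S0266.gl_smul_eq]
  ext i
  fin_cases i <;> simp [GeneralLinearGroup.mkOfDetNeZero]

theorem std0_eq : Projectivization.mk F (Cfsg.Agent.S0266.e0 F) Cfsg.Agent.S0266.e0_ne = infPt F := rfl

theorem std1_eq : Projectivization.mk F (Cfsg.Agent.S0266.e1 F) Cfsg.Agent.S0266.e1_ne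
    = finPt (0 : F) := rfl

theorem std2_eq : Projectivization.mk F (Cfsg.Agent.S0266.e2 F) Cfsg.Agent.S0266.e2_ne
    = finPt (1 : F) := rfl

end Elements

section Recog

variable {F : Type*} [Field F] {Ω : Type*}

/-- the permutation of `Ω` induced by an element of `PGL₂` along `ε : Ω ≃ ℙ¹` -/
noncomputable def moebiusHom (ε : Ω ≃ ℙ F (Fin 2 → F)) : PGL(Fin 2, F) →* Equiv.Perm Ω where
  toFun m := (ε.trans (MulAction.toPerm m)).trans ε.symm
  map_one' := by
    ext x
    simp
  map_mul' m m' := by
    ext x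
    simp [mul_smul]

theorem moebiusHom_apply (ε : Ω ≃ ℙ F (Fin 2 → F)) (m : PGL(Fin 2, F)) (x : Ω) :
    ε (moebiusHom ε m x) = m • ε x := by
  simp [moebiusHom]

theorem moebiusHom_injective (ε : Ω ≃ ℙ F (Fin 2 → F)) :
    Function.Injective (moebiusHom ε) := by
  rw [injective_iff_map_eq_one]
  intro m hm
  have h : ∀ p : ℙ F (Fin 2 → F), m • p = p := by
    intro p
    have := moebiusHom_apply ε m (ε.symm p)
    rw [hm] at this
    simpa using this.symm
  exact Cfsg.Agent.S0266.eq_one_of_fix_std m (h _) (h _) (h _)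

/-- recognition of `PGL₂(F)`: a group of Möbius transformations that is transitive on triples
of distinct points -/
theorem recog_pgl2 (G : Subgroup (Equiv.Perm Ω)) (ε : Ω ≃ ℙ F (Fin 2 → F))
    (hgen : ∀ g ∈ G, ∃ m : PGL(Fin 2, F), ∀ x, ε (g x) = m • ε x)
    (h3 : ∀ a b c : Ω, a ≠ b → a ≠ c → b ≠ c → ∃ g ∈ G,
      g (ε.symm (infPt F)) = a ∧ g (ε.symm (finPt 0)) = b ∧ g (ε.symm (finPt 1)) = c) :
    Nonempty (G ≃* PGL(Fin 2, F)) := by
  have hgen' : ∀ g ∈ G, ∃ m, moebiusHom ε m = g := by
    intro g hg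
    obtain ⟨m, hm⟩ := hgen g hg
    refine ⟨m, ?_⟩
    ext x
    apply ε.injective
    rw [moebiusHom_apply, hm]
  have hne01 : infPt F ≠ finPt (0 : F) := (finPt_ne_infPt 0).symm
  have hne02 : infPt F ≠ finPt (1 : F) := (finPt_ne_infPt 1).symm
  have hne12 : finPt (0 : F) ≠ finPt (1 : F) := fun h => zero_ne_one (finPt_injective h)
  have hrange : (moebiusHom ε).range = G := by
    apply le_antisymm
    · rintro _ ⟨m, rfl⟩
      obtain ⟨g, hg, h0, h1, h2⟩ := h3 (moebiusHom ε m (ε.symm (infPt F)))
        (moebiusHom ε m (ε.symm (finPt 0))) (moebiusHom ε m (ε.symm (finPt 1)))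
        (fun h => hne01 (ε.symm.injective ((moebiusHom ε m).injective h)))
        (fun h => hne02 (ε.symm.injective ((moebiusHom ε m).injective h)))
        (fun h => hne12 (ε.symm.injective ((moebiusHom ε m).injective h)))
      obtain ⟨m', rfl⟩ := hgen' g hg
      have key : ∀ p : ℙ F (Fin 2 → F),
          moebiusHom ε m' (ε.symm p) = moebiusHom ε m (ε.symm p) → (m⁻¹ * m') • p = p := by
        intro p hp
        have h1 := moebiusHom_apply ε m' (ε.symm p)
        have h2 := moebiusHom_apply ε m (ε.symm p)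
        rw [hp, h2] at h1
        simp only [Equiv.apply_symm_apply] at h1
        rw [mul_smul, ← h1, inv_smul_smul]
      have : m⁻¹ * m' = 1 := by
        apply Cfsg.Agent.S0266.eq_one_of_fix_std
        · exact key _ h0
        · exact key _ h1
        · exact key _ h2
      have hmm : m = m' := by
        rw [inv_mul_eq_one] at this
        exact this
      rw [hmm]
      exact hg
    · intro g hg
      obtain ⟨m, rfl⟩ := hgen' g hg
      exact ⟨m, rfl⟩
  exact ⟨((MonoidHom.ofInjective (moebiusHom_injective ε)).trans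
    (MulEquiv.subgroupCongr hrange)).symm⟩

end Recog

end Cfsg.Agent.Lib.Helper59
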