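import Mathlib
import Cfsg.Prelude.Def_Perm

set_option autoImplicit false

/-!
# Near-fields with an inverting involution are fields (helper59)
-/

namespace Cfsg.Agent.Lib.Helper59

open Cfsg

section NearField

variable {β : Type*} [nf : NearField β]

theorem nf_zero_mul (a : β) : (0 : β) * a = 0 := by
  have h : (0 : β) * a = 0 * a + 0 * a := by
    conv_lhs => rw [← add_zero (0 : β)]
    exact NearField.right_distrib 0 0 a
  have h2 : (0 : β) * a + 0 = 0 * a + 0 * a := by rw [add_zero]; exact h
  exact (add_left_cancel h2).symm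

theorem nf_mul_ne_zero {a b : β} (ha : a ≠ 0) (hb : b ≠ 0) : a * b ≠ 0 := by
  intro h
  obtain ⟨b', hb1, -⟩ := NearField.exists_inv b hb
  apply ha
  calc a = a * (b * b') := by rw [hb1, mul_one]
    _ = (a * b) * b' := (mul_assoc a b b').symm
    _ = 0 := by rw [h, nf_zero_mul]

/-- the unit attached to a non-zero element -/
noncomputable def nfUnit (a : β) (ha : a ≠ 0) : βˣ :=
  ⟨a, Classical.choose (NearField.exists_inv a ha),
    (Classical.choose_spec (NearField.exists_inv a ha)).1,
    (Classical.choose_spec (NearField.exists_inv a ha)).2⟩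

@[simp] theorem nfUnit_val (a : β) (ha : a ≠ 0) : (nfUnit a ha : β) = a := rfl

theorem nf_unit_ne_zero (u : βˣ) : (u : β) ≠ 0 := by
  intro h
  have h1 : (u : β) * (↑u⁻¹ : β) = 1 := u.mul_inv
  rw [h, nf_zero_mul] at h1
  exact NearField.zero_ne_one h1

/-- a multiplicative involution of the non-zero elements fixing only `1` inverts, and the
multiplication is commutative -/
theorem nf_comm_of_involution [Finite β] (τ : β → β) (h1 : τ 1 = 1)
    (hmul : ∀ x a : β, x ≠ 0 → a ≠ 0 → τ (x * a) = τ x * τ a)
    (hne : ∀ a : β, a ≠ 0 → τ a ≠ 0) (hinv : ∀ a : β, a ≠ 0 → τ (τ a) = a)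
    (hfix : ∀ a : β, a ≠ 0 → τ a = a → a = 1) :
    (∀ a b : β, a * b = b * a) ∧ ∀ a : β, a ≠ 0 → a * τ a = 1 := by
  -- the automorphism of the unit group
  let φ : βˣ →* βˣ :=
    { toFun := fun u => nfUnit (τ u) (hne u (nf_unit_ne_zero u))
      map_one' := by
        apply Units.ext
        simp [h1]
      map_mul' := by
        intro u v
        apply Units.ext
        simp only [Units.val_mul, nfUnit_val]
        exact hmul u v (nf_unit_ne_zero u) (nf_unit_ne_zero v) }
  have hφ : ∀ u : βˣ, ((φ u : βˣ) : β) = τ u := fun u => rfl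
  have hfpf : MonoidHom.FixedPointFree φ := by
    intro u hu
    apply Units.ext
    have := congrArg (fun v : βˣ => (v : β)) hu
    simp only [hφ] at this
    simpa using hfix u (nf_unit_ne_zero u) this
  have hinvol : Function.Involutive φ := by
    intro u
    apply Units.ext
    rw [hφ, hφ]
    exact hinv u (nf_unit_ne_zero u)
  have hcomm := hfpf.commute_all_of_involutive hinvol
  have hinv' := hfpf.coe_eq_inv_of_involutive hinvol
  constructor
  · intro a b
    by_cases ha : a = 0
    · rw [ha, nf_zero_mul, NearField.mul_zero]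
    by_cases hb : b = 0
    · rw [hb, nf_zero_mul, NearField.mul_zero]
    have := hcomm (nfUnit a ha) (nfUnit b hb)
    have h2 := congrArg (fun v : βˣ => (v : β)) this.eq
    simpa using h2
  · intro a ha
    have h2 : φ (nfUnit a ha) = (nfUnit a ha)⁻¹ := by rw [hinv']
    have h3 : (nfUnit a ha) * φ (nfUnit a ha) = 1 := by rw [h2, mul_inv_cancel]
    have h4 := congrArg (fun v : βˣ => (v : β)) h3
    simpa [hφ] using h4

/-- the inverse function of a near-field (with `0⁻¹ = 0`) -/
noncomputable def nfInv (a : β) : β := by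
  classical
  exact if h : a = 0 then 0 else Classical.choose (NearField.exists_inv a h)

theorem nf_mul_nfInv (a : β) (ha : a ≠ 0) : a * nfInv a = 1 := by
  unfold nfInv
  rw [dif_neg ha]
  exact (Classical.choose_spec (NearField.exists_inv a ha)).1

theorem nf_nfInv_mul (a : β) (ha : a ≠ 0) : nfInv a * a = 1 := by
  unfold nfInv
  rw [dif_neg ha]
  exact (Classical.choose_spec (NearField.exists_inv a ha)).2

/-- the affine map `x ↦ x * a + b` of a near-field, as a permutation -/
noncomputable def nfAff (a b : β) (ha : a ≠ 0) : Equiv.Perm β where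
  toFun x := x * a + b
  invFun x := (x + -b) * nfInv a
  left_inv x := by
    show (x * a + b + -b) * nfInv a = x
    rw [add_assoc, add_neg_cancel, add_zero, mul_assoc, nf_mul_nfInv a ha, mul_one]
  right_inv x := by
    show (x + -b) * nfInv a * a + b = x
    rw [mul_assoc, nf_nfInv_mul a ha, mul_one, add_assoc, neg_add_cancel, add_zero]

@[simp] theorem nfAff_apply (a b : β) (ha : a ≠ 0) (x : β) : nfAff a b ha x = x * a + b := rfl

theorem nfInv_zero : nfInv (0 : β) = 0 := by
  unfold nfInv
  rw [dif_pos rfl]

/-- a near-field with commutative multiplication is a field -/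
@[reducible] noncomputable def fieldOfNearField (hcomm : ∀ a b : β, a * b = b * a) : Field β :=
  letI : Inv β := ⟨nfInv⟩
  Field.ofMinimalAxioms β add_assoc zero_add neg_add_cancel mul_assoc hcomm one_mul
    (fun a ha => nf_mul_nfInv a ha) nfInv_zero
    (fun a b c => by
      rw [hcomm a (b + c), NearField.right_distrib, hcomm b a, hcomm c a])
    ⟨0, 1, NearField.zero_ne_one⟩

end NearField

end Cfsg.Agent.Lib.Helper59
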