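import Mathlib

set_option autoImplicit false

/-!
# Transporting permutation groups along an equivalence of the point sets (helper59)
-/

namespace Cfsg.Agent.Lib.Helper59

open MulAction

variable {X Y : Type*}

/-- conjugate of a permutation group along an equivalence of point sets -/
def conjSubgroup (φ : X ≃ Y) (H : Subgroup (Equiv.Perm X)) : Subgroup (Equiv.Perm Y) :=
  H.map (φ.permCongrHom).toMonoidHom

theorem mem_conjSubgroup_iff (φ : X ≃ Y) (H : Subgroup (Equiv.Perm X)) (g : Equiv.Perm Y) :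
    g ∈ conjSubgroup φ H ↔ ∃ h ∈ H, φ.permCongr h = g := by
  rw [conjSubgroup, Subgroup.mem_map]
  rfl

theorem permCongr_mem_conjSubgroup (φ : X ≃ Y) (H : Subgroup (Equiv.Perm X)) (h : Equiv.Perm X)
    (hh : h ∈ H) : φ.permCongr h ∈ conjSubgroup φ H :=
  (mem_conjSubgroup_iff φ H _).mpr ⟨h, hh, rfl⟩

/-- the conjugate group is isomorphic to the original -/
noncomputable def conjSubgroupEquiv (φ : X ≃ Y) (H : Subgroup (Equiv.Perm X)) :
    ↥H ≃* ↥(conjSubgroup φ H) :=
  H.equivMapOfInjective _ (φ.permCongrHom.injective)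

theorem conjSubgroup_mono (φ : X ≃ Y) {H H' : Subgroup (Equiv.Perm X)} (h : H ≤ H') :
    conjSubgroup φ H ≤ conjSubgroup φ H' :=
  Subgroup.map_mono h

theorem conjSubgroup_smul (φ : X ≃ Y) (h : Equiv.Perm X) (x : X) :
    (φ.permCongr h) (φ x) = φ (h x) := by
  simp [Equiv.permCongr_apply]

/-- the equivariant map from `X` (acted on by `H`) to `Y` (acted on by the conjugate). -/
def conjMap (φ : X ≃ Y) (H : Subgroup (Equiv.Perm X)) :
    X →ₑ[fun h : ↥H => (⟨φ.permCongr h, permCongr_mem_conjSubgroup φ H h h.2⟩ :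
      ↥(conjSubgroup φ H))] Y where
  toFun := φ
  map_smul' := by
    intro h x
    show φ ((h : Equiv.Perm X) x) = (φ.permCongr (h : Equiv.Perm X)) (φ x)
    rw [conjSubgroup_smul]

theorem conjMap_bijective (φ : X ≃ Y) (H : Subgroup (Equiv.Perm X)) :
    Function.Bijective (conjMap φ H) := φ.bijective

theorem conjSubgroup_pretransitive (φ : X ≃ Y) (H : Subgroup (Equiv.Perm X))
    (h : IsPretransitive ↥H X) : IsPretransitive ↥(conjSubgroup φ H) Y :=
  IsPretransitive.of_surjective_map (f := conjMap φ H) (conjMap_bijective φ H).surjective h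

theorem conjSubgroup_preprimitive (φ : X ≃ Y) (H : Subgroup (Equiv.Perm X))
    (h : IsPreprimitive ↥H X) : IsPreprimitive ↥(conjSubgroup φ H) Y :=
  IsPreprimitive.of_surjective (f := conjMap φ H) (conjMap_bijective φ H).surjective

theorem conjSubgroup_stabilizer (φ : X ≃ Y) (H : Subgroup (Equiv.Perm X))
    (h : ∀ a : X, stabilizer ↥H a = ⊥) : ∀ b : Y, stabilizer ↥(conjSubgroup φ H) b = ⊥ := by
  intro b
  rw [eq_bot_iff]
  rintro ⟨g, hg⟩ hfix
  rw [Subgroup.mem_bot]
  obtain ⟨k, hk, rfl⟩ := (mem_conjSubgroup_iff φ H g).mp hg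
  have hfix' : (φ.permCongr k) b = b := hfix
  have h1 : (⟨k, hk⟩ : ↥H) ∈ stabilizer ↥H (φ.symm b) := by
    rw [mem_stabilizer_iff]
    show k (φ.symm b) = φ.symm b
    have := conjSubgroup_smul φ k (φ.symm b)
    rw [Equiv.apply_symm_apply, hfix'] at this
    have h2 := congrArg φ.symm this
    rw [Equiv.symm_apply_apply] at h2
    exact h2.symm
  rw [h, Subgroup.mem_bot] at h1
  have hk1 : k = 1 := congrArg Subtype.val h1
  apply Subtype.ext
  show φ.permCongr k = 1
  rw [hk1]
  ext y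
  simp [Equiv.permCongr_apply]

theorem conjSubgroup_not_two (φ : X ≃ Y) (H : Subgroup (Equiv.Perm X))
    (h : ¬ IsMultiplyPretransitive ↥H X 2) :
    ¬ IsMultiplyPretransitive ↥(conjSubgroup φ H) Y 2 := by
  intro h2
  apply h
  rw [is_two_pretransitive_iff] at h2 ⊢
  intro a b c d hab hcd
  obtain ⟨⟨g, hg⟩, hg1, hg2⟩ := h2 (a := φ a) (b := φ b) (c := φ c) (d := φ d)
    (fun e => hab (φ.injective e)) (fun e => hcd (φ.injective e))
  obtain ⟨k, hk, rfl⟩ := (mem_conjSubgroup_iff φ H g).mp hg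
  refine ⟨⟨k, hk⟩, ?_, ?_⟩
  · have h3 : (φ.permCongr k) (φ a) = φ c := hg1
    rw [conjSubgroup_smul] at h3
    exact φ.injective h3
  · have h3 : (φ.permCongr k) (φ b) = φ d := hg2
    rw [conjSubgroup_smul] at h3
    exact φ.injective h3

end Cfsg.Agent.Lib.Helper59
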