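import Mathlib

set_option autoImplicit false

/-!
# Normal subgroups of 2-transitive groups (helper59)

Abstract setting: a finite group `G` acting faithfully and 2-transitively on a finite set `Ω`,
`N` a minimal normal subgroup. Elementwise notions of transitivity / semiregularity for subgroups
of `G` are used to avoid nested subtypes.
-/

namespace Cfsg.Agent.Lib.Helper59

open MulAction
open scoped Pointwise

section Basics

variable {G : Type*} {Ω : Type*} [Group G] [MulAction G Ω]

/-- elementwise transitivity of a subgroup -/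
def STrans (Ω : Type*) [MulAction G Ω] (M : Subgroup G) : Prop := ∀ a b : Ω, ∃ m ∈ M, m • a = b

/-- elementwise semiregularity of a subgroup -/
def SSemireg (Ω : Type*) [MulAction G Ω] (M : Subgroup G) : Prop :=
  ∀ m ∈ M, ∀ a : Ω, m • a = a → m = 1

theorem sTrans_of_isPretransitive (M : Subgroup G) [h : IsPretransitive M Ω] : STrans Ω M := by
  intro a b
  obtain ⟨m, hm⟩ := h.exists_smul_eq a b
  exact ⟨m, m.2, hm⟩

theorem isPretransitive_of_sTrans (M : Subgroup G) (h : STrans Ω M) : IsPretransitive M Ω := by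
  refine ⟨fun a b => ?_⟩
  obtain ⟨m, hm, hmab⟩ := h a b
  exact ⟨⟨m, hm⟩, hmab⟩

/-- A nontrivial normal subgroup of a primitive faithful group is transitive. -/
theorem sTrans_of_normal [FaithfulSMul G Ω] [IsPreprimitive G Ω] (M : Subgroup G) [M.Normal]
    (hM : M ≠ ⊥) : STrans Ω M := by
  obtain ⟨m, hm1⟩ := (Subgroup.ne_bot_iff_exists_ne_one).mp hM
  have hm1' : (m : G) ≠ 1 := fun h => hm1 (Subtype.ext h)
  have hex : ∃ a : Ω, (m : G) • a ≠ a := by
    by_contra hcon
    push Not at hcon
    apply hm1'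
    apply FaithfulSMul.eq_of_smul_eq_smul (α := Ω)
    intro a
    rw [hcon a, one_smul]
  obtain ⟨a, ha⟩ := hex
  have hfix : fixedPoints M Ω ≠ Set.univ := by
    intro h
    have : a ∈ fixedPoints M Ω := by rw [h]; exact Set.mem_univ a
    exact ha (this m)
  have := IsQuasiPreprimitive.isPretransitive_of_normal (G := G) (X := Ω) (N := M) hfix
  exact sTrans_of_isPretransitive M

/-- An element commuting with a transitive subgroup and fixing a point is trivial. -/
theorem eq_one_of_commute_of_sTrans [FaithfulSMul G Ω] (M : Subgroup G) (hM : STrans Ω M)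
    (c : G) (hc : ∀ m ∈ M, c * m = m * c) (a : Ω) (hca : c • a = a) : c = 1 := by
  apply FaithfulSMul.eq_of_smul_eq_smul (α := Ω)
  intro b
  obtain ⟨m, hm, rfl⟩ := hM a b
  rw [← mul_smul, hc m hm, mul_smul, hca, one_smul]

/-- The centralizer of a transitive subgroup is semiregular. -/
theorem sSemireg_centralizer [FaithfulSMul G Ω] (M : Subgroup G) (hM : STrans Ω M) :
    SSemireg Ω (Subgroup.centralizer (M : Set G)) := by
  intro c hc a hca
  refine eq_one_of_commute_of_sTrans M hM c (fun m hm => ?_) a hca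
  exact ((Subgroup.mem_centralizer_iff.mp hc) m hm).symm

/-- A transitive subgroup of a semiregular subgroup is everything. -/
theorem eq_of_le_of_sTrans_of_sSemireg (T C : Subgroup G) (hle : T ≤ C) (hT : STrans Ω T)
    (hC : SSemireg Ω C) [Nonempty Ω] : T = C := by
  apply le_antisymm hle
  intro c hc
  obtain ⟨a⟩ := ‹Nonempty Ω›
  obtain ⟨t, ht, hta⟩ := hT a (c • a)
  have h1 : t⁻¹ * c = 1 := by
    apply hC _ (C.mul_mem (C.inv_mem (hle ht)) hc) a
    rw [mul_smul, ← hta, inv_smul_smul]
  have : c = t := by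
    rw [inv_mul_eq_one] at h1
    exact h1.symm
  rw [this]
  exact ht

end Basics

section Regular

variable {G : Type*} {Ω : Type*} [Group G] [MulAction G Ω]

/-- In a 2-transitive group, the non-identity elements of a regular normal subgroup are all
conjugate. -/
theorem conj_of_regular_normal (h2 : IsMultiplyPretransitive G Ω 2) (N : Subgroup G) [N.Normal]
    (hreg : SSemireg Ω N) (a : Ω) {x y : G} (hx : x ∈ N) (hy : y ∈ N) (hx1 : x ≠ 1) (hy1 : y ≠ 1) :
    ∃ g : G, g * x * g⁻¹ = y := by
  have hxa : a ≠ x • a := fun h => hx1 (hreg x hx a h.symm)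
  have hya : a ≠ y • a := fun h => hy1 (hreg y hy a h.symm)
  obtain ⟨g, hga, hgx⟩ := (is_two_pretransitive_iff.mp h2) hxa hya
  refine ⟨g, ?_⟩
  have hmem : y⁻¹ * (g * x * g⁻¹) ∈ N :=
    N.mul_mem (N.inv_mem hy) (‹N.Normal›.conj_mem x hx g)
  have hfix : (y⁻¹ * (g * x * g⁻¹)) • a = a := by
    have hga' : g⁻¹ • a = a := by rw [inv_smul_eq_iff, hga]
    rw [mul_smul, mul_smul, mul_smul, hga', hgx, inv_smul_smul]
  have := hreg _ hmem a hfix
  rw [inv_mul_eq_one] at this
  exact this.symm

/-- A regular minimal normal subgroup of a finite 2-transitive group is elementary abelian. -/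
theorem elementary_of_regular_normal [Finite G] [Nonempty Ω]
    (h2 : IsMultiplyPretransitive G Ω 2) (N : Subgroup G) [hNn : N.Normal] (hN : N ≠ ⊥)
    (hmin : ∀ M : Subgroup G, M.Normal → M ≤ N → M = ⊥ ∨ M = N)
    (hreg : SSemireg Ω N) :
    (∀ x ∈ N, ∀ y ∈ N, x * y = y * x) ∧ ∃ p : ℕ, p.Prime ∧ ∀ x ∈ N, x ^ p = 1 := by
  obtain ⟨a⟩ := ‹Nonempty Ω›
  have hNnt : Nontrivial N := (Subgroup.nontrivial_iff_ne_bot N).mpr hN
  have hcard : 1 < Nat.card N := Finite.one_lt_card
  have hp : (Nat.card N).minFac.Prime := Nat.minFac_prime (by omega)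
  have hpF : Fact (Nat.card N).minFac.Prime := ⟨hp⟩
  obtain ⟨y, hy⟩ := exists_prime_orderOf_dvd_card' (G := N) (Nat.card N).minFac
    (Nat.minFac_dvd _)
  have hy1 : (y : G) ≠ 1 := by
    intro h
    have : y = 1 := Subtype.ext h
    rw [this, orderOf_one] at hy
    exact hp.one_lt.ne hy
  have hyp : (y : G) ^ (Nat.card N).minFac = 1 := by
    have := pow_orderOf_eq_one y
    rw [hy] at this
    exact_mod_cast congrArg Subtype.val this
  have hexp : ∀ x ∈ N, x ^ (Nat.card N).minFac = 1 := by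
    intro x hx
    by_cases hx1 : x = 1
    · rw [hx1, one_pow]
    · obtain ⟨g, hg⟩ := conj_of_regular_normal h2 N hreg a y.2 hx hy1 hx1
      rw [← hg, conj_pow, hyp]
      group
  have hNp : IsPGroup (Nat.card N).minFac N := by
    intro x
    refine ⟨1, ?_⟩
    rw [pow_one]
    exact Subtype.ext (hexp x x.2)
  have hZ : (Subgroup.center N) ≠ ⊥ := (hNp.bot_lt_center).ne'
  have hZn : ((Subgroup.center N).map N.subtype).Normal :=
    ConjAct.normal_of_characteristic_of_normal
  have hZle : (Subgroup.center N).map N.subtype ≤ N := Subgroup.map_subtype_le _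
  have hZne : (Subgroup.center N).map N.subtype ≠ ⊥ := by
    intro h
    apply hZ
    rw [Subgroup.map_eq_bot_iff_of_injective _ (Subgroup.subtype_injective N)] at h
    exact h
  have hZeq := (hmin _ hZn hZle).resolve_left hZne
  refine ⟨?_, _, hp, hexp⟩
  intro x hx y' hy'
  have hxZ : x ∈ (Subgroup.center N).map N.subtype := by rw [hZeq]; exact hx
  obtain ⟨z, hz, rfl⟩ := hxZ
  have := (Subgroup.mem_center_iff.mp hz) ⟨y', hy'⟩
  have h3 := congrArg Subtype.val this
  simpa using h3.symm

end Regular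

section Geometry

variable {G : Type*} {Ω : Type*} [Group G] [MulAction G Ω]

/-- elementwise block condition for a subgroup -/
def SBlock (N : Subgroup G) (B : Set Ω) : Prop :=
  ∀ x ∈ N, ∀ a ∈ B, x • a ∈ B → x • B = B

theorem isBlock_iff_sBlock (N : Subgroup G) (B : Set Ω) : IsBlock N B ↔ SBlock N B := by
  rw [isBlock_iff_smul_eq_of_mem]
  constructor
  · intro h x hx a ha hxa
    exact h (g := ⟨x, hx⟩) ha hxa
  · intro h x a ha hxa
    exact h x x.2 a ha hxa

theorem SBlock.inter {N : Subgroup G} {B₁ B₂ : Set Ω} (h₁ : SBlock N B₁) (h₂ : SBlock N B₂) :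
    SBlock N (B₁ ∩ B₂) := by
  intro x hx a ha hxa
  rw [Set.smul_set_inter, h₁ x hx a ha.1 hxa.1, h₂ x hx a ha.2 hxa.2]

theorem SBlock.translate {N : Subgroup G} [hN : N.Normal] {B : Set Ω} (h : SBlock N B) (g : G) :
    SBlock N (g • B) := by
  intro x hx a ha hxa
  obtain ⟨b, hb, rfl⟩ := ha
  obtain ⟨b', hb', hbb'⟩ := hxa
  have hmem : g⁻¹ * x * g ∈ N := by
    have := hN.conj_mem x hx g⁻¹
    rwa [inv_inv] at this
  have h1 : (g⁻¹ * x * g) • b ∈ B := by
    have : (g⁻¹ * x * g) • b = b' := by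
      rw [mul_smul, mul_smul, inv_smul_eq_iff]
      exact hbb'.symm
    rw [this]; exact hb'
  have h2 := h _ hmem b hb h1
  calc x • g • B = g • (g⁻¹ * x * g) • B := by
        rw [smul_smul, smul_smul]; congr 1; group
    _ = g • B := by rw [h2]

/-- **Geometry lemma.** If a normal subgroup `N` of a 2-transitive group has a nontrivial block of
minimal size, then two-point stabilizers in `N` are trivial. -/
theorem two_point_stabilizer_trivial [FaithfulSMul G Ω] [Finite Ω]
    (h2 : IsMultiplyPretransitive G Ω 2) (N : Subgroup G) [N.Normal]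
    (B : Set Ω) (hB : SBlock N B) (hB1 : ¬ B.Subsingleton) (hB2 : B ≠ Set.univ)
    (hBmin : ∀ B' : Set Ω, SBlock N B' → ¬ B'.Subsingleton → B' ≠ Set.univ → B.ncard ≤ B'.ncard)
    (x : G) (hx : x ∈ N) (a b : Ω) (hab : a ≠ b) (hxa : x • a = a) (hxb : x • b = b) : x = 1 := by
  have h2' : ∀ (a b c d : Ω), a ≠ b → c ≠ d → ∃ g : G, g • a = c ∧ g • b = d :=
    fun a b c d hab hcd => (is_two_pretransitive_iff.mp h2) hab hcd
  -- lines are translates of `B`
  have hline_ne : ∀ g : G, g • B ≠ Set.univ := by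
    intro g h
    apply hB2
    have := congrArg (fun S => g⁻¹ • S) h
    simpa using this
  have huniq : ∀ g g' : G, ∀ c d : Ω, c ≠ d → c ∈ g • B → d ∈ g • B → c ∈ g' • B → d ∈ g' • B →
      g • B = g' • B := by
    intro g g' c d hcd hc hd hc' hd'
    have hI : SBlock N (g • B ∩ g' • B) := (hB.translate g).inter (hB.translate g')
    have hI1 : ¬ (g • B ∩ g' • B).Subsingleton := by
      intro h
      exact hcd (h ⟨hc, hc'⟩ ⟨hd, hd'⟩)
    have hI2 : g • B ∩ g' • B ≠ Set.univ := by
      intro h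
      apply hline_ne g
      rw [Set.eq_univ_iff_forall] at h ⊢
      intro y
      exact (h y).1
    have hle := hBmin _ hI hI1 hI2
    have e1 : g • B ∩ g' • B = g • B := by
      apply Set.eq_of_subset_of_ncard_le Set.inter_subset_left _ (Set.toFinite _)
      rw [Set.ncard_smul_set]; exact hle
    have e2 : g • B ∩ g' • B = g' • B := by
      apply Set.eq_of_subset_of_ncard_le Set.inter_subset_right _ (Set.toFinite _)
      rw [Set.ncard_smul_set]; exact hle
    rw [← e1, e2]
  have hexists : ∀ c d : Ω, c ≠ d → ∃ g : G, c ∈ g • B ∧ d ∈ g • B := by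
    intro c d hcd
    rw [Set.not_subsingleton_iff] at hB1
    obtain ⟨b₁, hb₁, b₂, hb₂, hb12⟩ := hB1
    obtain ⟨g, hg1, hg2⟩ := h2' _ _ _ _ hb12 hcd
    exact ⟨g, ⟨b₁, hb₁, hg1⟩, ⟨b₂, hb₂, hg2⟩⟩
  have hfix : ∀ g : G, ∀ c ∈ g • B, ∀ y ∈ N, y • c = c → y • (g • B) = g • B := by
    intro g c hc y hy hyc
    apply (hB.translate g) y hy c hc
    rw [hyc]; exact hc
  -- claim 1
  have claim1 : ∀ y ∈ N, ∀ c d : Ω, c ≠ d → y • c = c → y • d = d → ∀ g : G, c ∈ g • B →
      d ∈ g • B → ∀ e : Ω, e ∉ g • B → y • e = e := by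
    intro y hy c d hcd hyc hyd g hc hd e he
    have hce : c ≠ e := fun h => he (h ▸ hc)
    have hde : d ≠ e := fun h => he (h ▸ hd)
    obtain ⟨g₁, hc1, he1⟩ := hexists c e hce
    obtain ⟨g₂, hd2, he2⟩ := hexists d e hde
    have hy1 : y • e ∈ g₁ • B := by
      rw [← hfix g₁ c hc1 y hy hyc]
      exact Set.smul_mem_smul_set he1
    have hy2 : y • e ∈ g₂ • B := by
      rw [← hfix g₂ d hd2 y hy hyd]
      exact Set.smul_mem_smul_set he2
    by_contra hne
    have e12 : g₁ • B = g₂ • B := huniq g₁ g₂ e (y • e) (fun h => hne h.symm) he1 hy1 he2 hy2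
    have hd1 : d ∈ g₁ • B := by rw [e12]; exact hd2
    have e1g : g₁ • B = g • B := huniq g₁ g c d hcd hc1 hd1 hc hd
    apply he
    rw [← e1g]; exact he1
  -- main
  obtain ⟨g, ha, hb⟩ := hexists a b hab
  apply FaithfulSMul.eq_of_smul_eq_smul (α := Ω)
  intro c
  rw [one_smul]
  by_cases hc : c ∈ g • B
  · by_cases hca : c = a
    · rw [hca]; exact hxa
    · obtain ⟨d, hd⟩ : ∃ d, d ∉ g • B := by
        by_contra hcon
        push Not at hcon
        exact hline_ne g (Set.eq_univ_iff_forall.mpr hcon)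
      have hxd : x • d = d := claim1 x hx a b hab hxa hxb g ha hb d hd
      have had : a ≠ d := fun h => hd (h ▸ ha)
      obtain ⟨g', ha', hd'⟩ := hexists a d had
      apply claim1 x hx a d had hxa hxd g' ha' hd' c
      intro hc'
      have e : g • B = g' • B := huniq g g' a c (fun h => hca h.symm) ha hc ha' hc'
      apply hd
      rw [e]; exact hd'
  · exact claim1 x hx a b hab hxa hxb g ha hb c hc

end Geometry

end Cfsg.Agent.Lib.Helper59
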