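import Mathlib
import Cfsg.Agent.Lib.Helper59.TwoTransNormal
import Cfsg.Agent.Lib.Helper74.FrobThm

set_option autoImplicit false

/-!
# Non-regular minimal normal subgroups of 2-transitive groups are primitive (helper59)

Uses Frobenius' theorem (helper74, S0035).
-/

namespace Cfsg.Agent.Lib.Helper59

open MulAction
open scoped Pointwise

section Frob

universe u v

variable {G : Type u} {Ω : Type v} [Group G] [MulAction G Ω]

/-- A normal subgroup `N` of `G` which is transitive, with trivial two-point stabilizers but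
non-trivial point stabilizers, contains a proper non-trivial normal subgroup of `G`
(its Frobenius kernel). -/
theorem exists_normal_of_frobenius [FaithfulSMul G Ω] [Finite G]
    (N : Subgroup G) [hNn : N.Normal] (hNt : STrans Ω N)
    (h2pt : ∀ x ∈ N, ∀ a b : Ω, a ≠ b → x • a = a → x • b = b → x = 1)
    (a₀ : Ω) (x₀ : G) (hx₀ : x₀ ∈ N) (hx₀1 : x₀ ≠ 1) (hx₀a : x₀ • a₀ = a₀) :
    ∃ K : Subgroup G, K.Normal ∧ K ≤ N ∧ K ≠ ⊥ ∧ K ≠ N := by
  have hconj : ∀ (g y : N) , y ∈ MulAut.conj g • stabilizer N a₀ ↔ (y : G) • ((g : G) • a₀) = (g : G) • a₀ := by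
    intro g y
    rw [Subgroup.mem_pointwise_smul_iff_inv_smul_mem, mem_stabilizer_iff, MulAut.smul_def,
      ← map_inv, MulAut.conj_apply, inv_inv]
    show ((g⁻¹ * y * g : N) : G) • a₀ = a₀ ↔ _
    rw [Subgroup.coe_mul, Subgroup.coe_mul, Subgroup.coe_inv, mul_smul, mul_smul, inv_smul_eq_iff]
  have hH : Cfsg.IsFrobeniusComplement (stabilizer N a₀) := by
    refine ⟨?_, ?_, ?_⟩
    · intro h
      have : (⟨x₀, hx₀⟩ : N) ∈ stabilizer N a₀ := hx₀a
      rw [h, Subgroup.mem_bot] at this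
      exact hx₀1 (congrArg Subtype.val this)
    · intro h
      have hex : ∃ b : Ω, x₀ • b ≠ b := by
        by_contra hcon
        push Not at hcon
        apply hx₀1
        apply FaithfulSMul.eq_of_smul_eq_smul (α := Ω)
        intro b
        rw [hcon b, one_smul]
      obtain ⟨b, hb⟩ := hex
      obtain ⟨n, hn, hnb⟩ := hNt a₀ b
      have : (⟨n, hn⟩ : N) ∈ stabilizer N a₀ := by rw [h]; exact Subgroup.mem_top _
      have h1 : n • a₀ = a₀ := this
      rw [hnb] at h1
      rw [h1] at hb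
      exact hb hx₀a
    · intro g hg
      rw [eq_bot_iff]
      intro y hy
      rw [Subgroup.mem_inf] at hy
      have hy1 : (y : G) • a₀ = a₀ := hy.1
      have hy2 := (hconj g y).mp hy.2
      have hga : (g : G) • a₀ ≠ a₀ := fun h => hg h
      have := h2pt (y : G) y.2 a₀ ((g : G) • a₀) hga.symm hy1 hy2
      exact Subgroup.mem_bot.mpr (Subtype.ext this)
  obtain ⟨K, hKset, hKn, hKc⟩ := Cfsg.Agent.Lib.Helper74.frobenius_theorem (stabilizer N a₀) hH
  have hKmem : ∀ k : N, k ∈ K ↔ k = 1 ∨ ∀ b : Ω, (k : G) • b ≠ b := by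
    intro k
    rw [← SetLike.mem_coe, hKset]
    show (k = 1 ∨ ∀ g : N, k ∉ MulAut.conj g • stabilizer N a₀) ↔ _
    apply or_congr Iff.rfl
    constructor
    · intro h b hb
      obtain ⟨n, hn, rfl⟩ := hNt a₀ b
      exact h ⟨n, hn⟩ ((hconj ⟨n, hn⟩ k).mpr hb)
    · intro h g hg
      exact h _ ((hconj g k).mp hg)
  refine ⟨K.map N.subtype, ⟨?_⟩, Subgroup.map_subtype_le _, ?_, ?_⟩
  · intro y hy g
    obtain ⟨k, hk, rfl⟩ := Subgroup.mem_map.mp hy
    have hmem : g * (k : G) * g⁻¹ ∈ N := hNn.conj_mem _ k.2 g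
    refine Subgroup.mem_map.mpr ⟨⟨_, hmem⟩, ?_, rfl⟩
    rw [hKmem]
    rcases (hKmem k).mp hk with h | h
    · left
      apply Subtype.ext
      show g * (k : G) * g⁻¹ = 1
      rw [h]; simp
    · right
      intro b hb
      apply h (g⁻¹ • b)
      have : (g * (k : G) * g⁻¹) • b = b := hb
      rw [mul_smul, mul_smul] at this
      rw [eq_inv_smul_iff]
      exact this
  · intro h
    rw [Subgroup.map_eq_bot_iff_of_injective _ (Subgroup.subtype_injective N)] at h
    rw [h] at hKc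
    have := Subgroup.isComplement'_bot_left.mp hKc
    exact hH.2.1 this
  · intro h
    have : x₀ ∈ K.map N.subtype := by rw [h]; exact hx₀
    obtain ⟨k, hk, hkx⟩ := Subgroup.mem_map.mp this
    have hkx' : (k : G) = x₀ := hkx
    rcases (hKmem k).mp hk with h1 | h1
    · apply hx₀1
      rw [← hkx', h1]; rfl
    · apply h1 a₀
      rw [hkx']; exact hx₀a

/-- A non-regular minimal normal subgroup of a finite 2-transitive group is primitive. -/
theorem isPreprimitive_of_nonregular [FaithfulSMul G Ω] [Finite G] [Finite Ω]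
    (h2 : IsMultiplyPretransitive G Ω 2) (N : Subgroup G) [hNn : N.Normal] (hN : N ≠ ⊥)
    (hmin : ∀ M : Subgroup G, M.Normal → M ≤ N → M = ⊥ ∨ M = N)
    (a₀ : Ω) (x₀ : G) (hx₀ : x₀ ∈ N) (hx₀1 : x₀ ≠ 1) (hx₀a : x₀ • a₀ = a₀) :
    IsPreprimitive N Ω := by
  have hprimG : IsPreprimitive G Ω := isPreprimitive_of_is_two_pretransitive h2
  have hNt : STrans Ω N := sTrans_of_normal N hN
  have hNpt : IsPretransitive N Ω := isPretransitive_of_sTrans N hNt
  by_contra hnp
  have hex : ∃ B : Set Ω, SBlock N B ∧ ¬ B.Subsingleton ∧ B ≠ Set.univ := by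
    by_contra hcon
    apply hnp
    refine ⟨fun {B} hB => ?_⟩
    by_contra htriv
    apply hcon
    refine ⟨B, (isBlock_iff_sBlock N B).mp hB, ?_, ?_⟩
    · intro h; exact htriv (Or.inl h)
    · intro h; exact htriv (Or.inr h)
  have hex' : ∃ k : ℕ, ∃ B : Set Ω, (SBlock N B ∧ ¬ B.Subsingleton ∧ B ≠ Set.univ) ∧
      B.ncard = k := by
    obtain ⟨B, hB⟩ := hex
    exact ⟨_, B, hB, rfl⟩
  classical
  obtain ⟨B, ⟨hB, hB1, hB2⟩, hBk⟩ := Nat.find_spec hex'
  have hBmin : ∀ B' : Set Ω, SBlock N B' → ¬ B'.Subsingleton → B' ≠ Set.univ →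
      B.ncard ≤ B'.ncard := by
    intro B' h1 h2' h3
    rw [hBk]
    exact Nat.find_min' hex' ⟨B', ⟨h1, h2', h3⟩, rfl⟩
  have h2pt := two_point_stabilizer_trivial h2 N B hB hB1 hB2 hBmin
  obtain ⟨K, hKn, hKle, hK1, hK2⟩ :=
    exists_normal_of_frobenius N hNt h2pt a₀ x₀ hx₀ hx₀1 hx₀a
  rcases hmin K hKn hKle with h | h
  · exact hK1 h
  · exact hK2 h

end Frob

end Cfsg.Agent.Lib.Helper59
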