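import Mathlib

set_option autoImplicit false

/-!
# Derangement subgroup of a finite transitive permutation group (helper59)

Basic counting facts (Burnside's lemma in `Nat.card` form) and the Bailey–Cameron–Giudici–Royle
facts on the subgroup generated by derangements.
-/

namespace Cfsg.Agent.Lib.Helper59

open MulAction

section Burnside

variable {G : Type*} {Ω : Type*} [Group G] [MulAction G Ω]

/-- Burnside's lemma, `Nat.card` form. -/
theorem burnside_natCard [Fintype G] [Finite Ω] :
    ∑ g : G, Nat.card (fixedBy Ω g) = Nat.card (orbitRel.Quotient G Ω) * Nat.card G := by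
  classical
  have : Fintype Ω := Fintype.ofFinite Ω
  have := sum_card_fixedBy_eq_card_orbits_mul_card_group G Ω
  simp only [Nat.card_eq_fintype_card]
  convert this

/-- A transitive action on a nonempty set has exactly one orbit. -/
theorem card_orbits_eq_one [IsPretransitive G Ω] [Nonempty Ω] :
    Nat.card (orbitRel.Quotient G Ω) = 1 := by
  have h1 : Subsingleton (orbitRel.Quotient G Ω) :=
    (pretransitive_iff_subsingleton_quotient G Ω).1 inferInstance
  have h2 : Nonempty (orbitRel.Quotient G Ω) := ⟨Quotient.mk'' (Classical.arbitrary Ω)⟩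
  exact Nat.card_eq_one_iff_unique.mpr ⟨h1, h2⟩

/-- Burnside for a transitive action. -/
theorem burnside_transitive [Fintype G] [Finite Ω] [IsPretransitive G Ω] [Nonempty Ω] :
    ∑ g : G, Nat.card (fixedBy Ω g) = Nat.card G := by
  rw [burnside_natCard, card_orbits_eq_one, one_mul]

/-- Fixed points of `g` on `Ω × Ω`. -/
theorem card_fixedBy_prod [Finite Ω] (g : G) :
    Nat.card (fixedBy (Ω × Ω) g) = Nat.card (fixedBy Ω g) ^ 2 := by
  rw [sq, ← Nat.card_prod]
  apply Nat.card_congr
  refine ⟨fun x => (⟨x.1.1, ?_⟩, ⟨x.1.2, ?_⟩), fun y => ⟨(y.1.1, y.2.1), ?_⟩, ?_, ?_⟩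
  · have := x.2
    rw [mem_fixedBy] at this ⊢
    exact congrArg Prod.fst this
  · have := x.2
    rw [mem_fixedBy] at this ⊢
    exact congrArg Prod.snd this
  · rw [mem_fixedBy]
    have h1 := y.1.2
    have h2 := y.2.2
    rw [mem_fixedBy] at h1 h2
    ext
    · exact h1
    · exact h2
  · intro x; rfl
  · intro y; rfl

/-- Burnside on ordered pairs. -/
theorem burnside_pairs [Fintype G] [Finite Ω] :
    ∑ g : G, Nat.card (fixedBy Ω g) ^ 2 = Nat.card (orbitRel.Quotient G (Ω × Ω)) * Nat.card G := by
  rw [← burnside_natCard]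
  apply Finset.sum_congr rfl
  intro g _
  rw [card_fixedBy_prod]

/-- Sum over a subgroup as a filtered sum over the group. -/
theorem sum_subgroup_eq_sum_filter [Fintype G] (D : Subgroup G) [DecidablePred (· ∈ D)]
    (f : G → ℕ) : ∑ g : ↥D, f g = ∑ g ∈ Finset.univ.filter (· ∈ D), f g := by
  rw [← Finset.sum_subtype (Finset.univ.filter (· ∈ D)) (fun x => by simp) f]

/-- Fixed points of an element of a subgroup acting via the subgroup action. -/
theorem fixedBy_subgroup (D : Subgroup G) (g : ↥D) : fixedBy Ω g = fixedBy Ω (g : G) := by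
  ext x
  simp only [mem_fixedBy]
  rfl

end Burnside

section Derangement

variable {G : Type*} {Ω : Type*} [Group G] [Finite G] [MulAction G Ω] [Finite Ω]

omit [Finite G] in
/-- Number of elements of a subgroup as a filter card. -/
theorem card_filter_mem_subgroup [Fintype G] (D : Subgroup G) [DecidablePred (· ∈ D)] :
    (Finset.univ.filter (· ∈ D)).card = Nat.card D := by
  rw [Nat.card_eq_fintype_card, Fintype.card_subtype]

omit [Finite G] in
/-- An element that is not a derangement has at least one fixed point. -/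
theorem one_le_card_fixedBy_of_not_derangement (g : G) (h : ¬ ∀ ω : Ω, g • ω ≠ ω) :
    1 ≤ Nat.card (fixedBy Ω g) := by
  push Not at h
  obtain ⟨ω, hω⟩ := h
  have : Nonempty (fixedBy Ω g) := ⟨⟨ω, hω⟩⟩
  exact Nat.one_le_iff_ne_zero.mpr (Nat.card_ne_zero.mpr ⟨this, inferInstance⟩)

/-- Main counting theorem: if `G` is transitive on a nonempty finite set and `D` is a subgroup
containing all derangements, then `D` has exactly one orbit, and every element outside `D` has
exactly one fixed point. -/
theorem der_main [IsPretransitive G Ω] [Nonempty Ω] (D : Subgroup G)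
    (hD : ∀ g : G, (∀ ω : Ω, g • ω ≠ ω) → g ∈ D) :
    Nat.card (orbitRel.Quotient D Ω) = 1 ∧ ∀ g : G, g ∉ D → Nat.card (fixedBy Ω g) = 1 := by
  classical
  have := Fintype.ofFinite G
  set d := Nat.card (orbitRel.Quotient D Ω) with hd
  have B1 : ∑ g : G, Nat.card (fixedBy Ω g) = Nat.card G := burnside_transitive
  have B2 : ∑ g ∈ Finset.univ.filter (· ∈ D), Nat.card (fixedBy Ω g) = d * Nat.card D := by
    rw [← sum_subgroup_eq_sum_filter D (fun g => Nat.card (fixedBy Ω g))]
    have := burnside_natCard (G := ↥D) (Ω := Ω)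
    rw [← this]
    apply Finset.sum_congr rfl
    intro g _
    rw [fixedBy_subgroup]
  have hsplit := Finset.sum_filter_add_sum_filter_not Finset.univ (· ∈ D)
    (fun g => Nat.card (fixedBy Ω g))
  have hcard := Finset.card_filter_add_card_filter_not (s := (Finset.univ : Finset G)) (· ∈ D)
  rw [card_filter_mem_subgroup, Finset.card_univ, ← Nat.card_eq_fintype_card] at hcard
  have hge : ∀ g ∈ Finset.univ.filter (fun g : G => ¬ g ∈ D), 1 ≤ Nat.card (fixedBy Ω g) := by
    intro g hg
    rw [Finset.mem_filter] at hg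
    exact one_le_card_fixedBy_of_not_derangement g (fun h => hg.2 (hD g h))
  have hsumge : (Finset.univ.filter (fun g : G => ¬ g ∈ D)).card ≤
      ∑ g ∈ Finset.univ.filter (fun g : G => ¬ g ∈ D), Nat.card (fixedBy Ω g) := by
    rw [Finset.card_eq_sum_ones]
    exact Finset.sum_le_sum hge
  have hd1 : 1 ≤ d := by
    have : Nonempty (orbitRel.Quotient D Ω) := ⟨Quotient.mk'' (Classical.arbitrary Ω)⟩
    exact Nat.one_le_iff_ne_zero.mpr (Nat.card_ne_zero.mpr ⟨this, inferInstance⟩)
  have hDpos : 0 < Nat.card D := Nat.card_pos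
  rw [B2, B1] at hsplit
  have hdle : d * Nat.card D ≥ Nat.card D := Nat.le_mul_of_pos_left _ hd1
  have e1 : d * Nat.card D = Nat.card D := by omega
  have e2 : ∑ g ∈ Finset.univ.filter (fun g : G => ¬ g ∈ D), Nat.card (fixedBy Ω g) =
      (Finset.univ.filter (fun g : G => ¬ g ∈ D)).card := by omega
  refine ⟨?_, ?_⟩
  · have : d * Nat.card D = 1 * Nat.card D := by rw [e1, one_mul]
    exact Nat.eq_of_mul_eq_mul_right hDpos this
  · intro g hg
    rw [Finset.card_eq_sum_ones] at e2
    have := (Finset.sum_eq_sum_iff_of_le (fun i hi => hge i hi)).mp e2.symm g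
      (by rw [Finset.mem_filter]; exact ⟨Finset.mem_univ _, hg⟩)
    exact this.symm

/-- The subgroup generated by derangements is transitive. -/
theorem der_pretransitive [IsPretransitive G Ω] (D : Subgroup G)
    (hD : ∀ g : G, (∀ ω : Ω, g • ω ≠ ω) → g ∈ D) : IsPretransitive D Ω := by
  rcases isEmpty_or_nonempty Ω with h | h
  · exact ⟨fun x => (h.false x).elim⟩
  · rw [pretransitive_iff_subsingleton_quotient]
    exact (Nat.card_eq_one_iff_unique.mp (der_main D hD).1).1

/-- Every element with a number of fixed points different from one lies in any subgroup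
containing the derangements. -/
theorem mem_of_card_fixedBy_ne_one [IsPretransitive G Ω] (D : Subgroup G)
    (hD : ∀ g : G, (∀ ω : Ω, g • ω ≠ ω) → g ∈ D) (g : G) (hg : Nat.card (fixedBy Ω g) ≠ 1) :
    g ∈ D := by
  rcases isEmpty_or_nonempty Ω with h | h
  · exact hD g (fun ω => (h.false ω).elim)
  · by_contra hgD
    exact hg ((der_main D hD).2 g hgD)

/-- Rank formula (additive form): `r_D + [G:D] = r_G * [G:D] + 1`. -/
theorem der_rank_add [IsPretransitive G Ω] [Nonempty Ω] (D : Subgroup G)
    (hD : ∀ g : G, (∀ ω : Ω, g • ω ≠ ω) → g ∈ D) :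
    Nat.card (orbitRel.Quotient D (Ω × Ω)) + D.index =
      Nat.card (orbitRel.Quotient G (Ω × Ω)) * D.index + 1 := by
  classical
  have := Fintype.ofFinite G
  set rD := Nat.card (orbitRel.Quotient D (Ω × Ω)) with hrD
  set rG := Nat.card (orbitRel.Quotient G (Ω × Ω)) with hrG
  have B1 : ∑ g : G, Nat.card (fixedBy Ω g) ^ 2 = rG * Nat.card G := burnside_pairs
  have B2 : ∑ g ∈ Finset.univ.filter (· ∈ D), Nat.card (fixedBy Ω g) ^ 2 = rD * Nat.card D := by
    rw [← sum_subgroup_eq_sum_filter D (fun g => Nat.card (fixedBy Ω g) ^ 2)]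
    have := burnside_pairs (G := ↥D) (Ω := Ω)
    rw [← this]
    apply Finset.sum_congr rfl
    intro g _
    rw [fixedBy_subgroup]
  have hsplit := Finset.sum_filter_add_sum_filter_not Finset.univ (· ∈ D)
    (fun g => Nat.card (fixedBy Ω g) ^ 2)
  have hcard := Finset.card_filter_add_card_filter_not (s := (Finset.univ : Finset G)) (· ∈ D)
  rw [card_filter_mem_subgroup, Finset.card_univ, ← Nat.card_eq_fintype_card] at hcard
  have hone : ∑ g ∈ Finset.univ.filter (fun g : G => ¬ g ∈ D), Nat.card (fixedBy Ω g) ^ 2 =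
      (Finset.univ.filter (fun g : G => ¬ g ∈ D)).card := by
    rw [Finset.card_eq_sum_ones]
    apply Finset.sum_congr rfl
    intro g hg
    rw [Finset.mem_filter] at hg
    rw [(der_main D hD).2 g hg.2, one_pow]
  rw [B2, B1, hone] at hsplit
  have hidx : D.index * Nat.card D = Nat.card G := Subgroup.index_mul_card D
  have hDpos : 0 < Nat.card D := Nat.card_pos
  -- rD * |D| + (|G| - |D|) = rG * |G|
  have h1 : (rD + D.index) * Nat.card D = (rG * D.index + 1) * Nat.card D := by
    have : rD * Nat.card D + (Finset.univ.filter (fun g : G => ¬ g ∈ D)).card + Nat.card D =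
        rG * Nat.card G + Nat.card D := by omega
    calc (rD + D.index) * Nat.card D = rD * Nat.card D + D.index * Nat.card D := by ring
      _ = rD * Nat.card D + Nat.card G := by rw [hidx]
      _ = rD * Nat.card D + (Finset.univ.filter (fun g : G => ¬ g ∈ D)).card + Nat.card D := by
          omega
      _ = rG * Nat.card G + Nat.card D := this
      _ = rG * (D.index * Nat.card D) + Nat.card D := by rw [hidx]
      _ = (rG * D.index + 1) * Nat.card D := by ring
  exact Nat.eq_of_mul_eq_mul_right hDpos h1

end Derangement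

end Cfsg.Agent.Lib.Helper59
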