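import Mathlib
import Cfsg.Agent.Lib.Helper59.Derangement
import Cfsg.Agent.Lib.Helper59.TwoTransNormal

set_option autoImplicit false

/-!
# Primitive non-regular minimal normal subgroups of 2-transitive groups are simple (helper59)
-/

namespace Cfsg.Agent.Lib.Helper59

open MulAction
open scoped Pointwise

section Counting

/-- A finite group in which all non-identity elements have centralizers of the same order is
abelian. -/
theorem comm_of_card_centralizer_const {T : Type*} [Group T] [Finite T] (c : ℕ)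
    (h : ∀ t : T, t ≠ 1 → Nat.card (Subgroup.centralizer {t}) = c) : ∀ x y : T, x * y = y * x := by
  classical
  have : Fintype T := Fintype.ofFinite T
  have hB := burnside_natCard (G := ConjAct T) (Ω := T)
  have hfix : ∀ g : ConjAct T, Nat.card (fixedBy T g) =
      Nat.card (Subgroup.centralizer {ConjAct.ofConjAct g}) := by
    intro g
    apply Nat.card_congr
    refine Equiv.subtypeEquivRight (fun x => ?_)
    rw [mem_fixedBy, ConjAct.smul_def, Subgroup.mem_centralizer_iff]
    simp only [Set.mem_singleton_iff, forall_eq]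
    rw [mul_inv_eq_iff_eq_mul]
  have hsum : ∑ g : ConjAct T, Nat.card (fixedBy T g) =
      ∑ t : T, Nat.card (Subgroup.centralizer {t}) := by
    rw [Finset.sum_congr rfl (fun g _ => hfix g)]
    exact Fintype.sum_equiv ConjAct.ofConjAct.toEquiv _ _ (fun g => rfl)
  have hsum2 : ∑ t : T, Nat.card (Subgroup.centralizer {t}) =
      Nat.card T + (Nat.card T - 1) * c := by
    rw [← Finset.add_sum_erase Finset.univ _ (Finset.mem_univ (1 : T))]
    congr 1
    · have : Subgroup.centralizer {(1 : T)} = ⊤ := by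
        rw [eq_top_iff]
        intro x _
        rw [Subgroup.mem_centralizer_iff]
        intro y hy
        rw [Set.mem_singleton_iff] at hy
        rw [hy, one_mul, mul_one]
      rw [this, Subgroup.card_top]
    · rw [Finset.sum_const_nat (m := c)]
      · rw [Finset.card_erase_of_mem (Finset.mem_univ _), Finset.card_univ,
          Nat.card_eq_fintype_card]
      · intro t ht
        exact h t (Finset.ne_of_mem_erase ht)
  rw [hsum, hsum2] at hB
  have hn : 0 < Nat.card T := Nat.card_pos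
  have hdvd : Nat.card T ∣ (Nat.card T - 1) * c := by
    have h1 : Nat.card T ∣ Nat.card T + (Nat.card T - 1) * c := by
      rw [hB, Nat.card_eq_fintype_card (α := ConjAct T)]
      have : Fintype.card (ConjAct T) = Nat.card T := by
        rw [Nat.card_eq_fintype_card]; rfl
      rw [this]
      exact Dvd.intro_left _ rfl
    exact (Nat.dvd_add_right (dvd_refl _)).mp h1
  have hcop : Nat.Coprime (Nat.card T) (Nat.card T - 1) := by
    have : Nat.card T = (Nat.card T - 1) + 1 := by omega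
    rw [this]
    simp
  have hdvd2 : Nat.card T ∣ c := by
    rw [mul_comm] at hdvd
    exact hcop.dvd_of_dvd_mul_right hdvd
  intro x y
  by_cases hx : x = 1
  · rw [hx, one_mul, mul_one]
  · have hc := h x hx
    have h1 : Nat.card (Subgroup.centralizer {x}) ∣ Nat.card T := Subgroup.card_subgroup_dvd_card _
    rw [hc] at h1
    have h2 : Nat.card (Subgroup.centralizer {x}) = Nat.card T := by
      rw [hc]; exact Nat.dvd_antisymm h1 hdvd2
    have h3 := (Subgroup.card_eq_iff_eq_top _).mp h2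
    have : y ∈ Subgroup.centralizer {x} := by rw [h3]; exact Subgroup.mem_top _
    exact (Subgroup.mem_centralizer_iff.mp this) x rfl

end Counting

section TwoRegular

variable {G : Type*} {Ω : Type*} [Group G] [MulAction G Ω]

/-- If a normal subgroup `S = T T'` of a 2-transitive group is the product of two commuting
regular subgroups with trivial intersection, then `T` is abelian. -/
theorem comm_of_two_regular [Finite G]
    (h2 : IsMultiplyPretransitive G Ω 2) (S : Subgroup G) [hSn : S.Normal]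
    (T T' : Subgroup G) (hTS : T ≤ S) (hT'S : T' ≤ S)
    (hcomm : ∀ t ∈ T, ∀ t' ∈ T', t * t' = t' * t)
    (hinf : ∀ z, z ∈ T → z ∈ T' → z = 1)
    (hTs : SSemireg Ω T) (hT't : STrans Ω T') (hT's : SSemireg Ω T')
    (hprod : ∀ x ∈ S, ∃ t ∈ T, ∃ t' ∈ T', x = t * t') (a : Ω) :
    ∀ t ∈ T, ∀ u ∈ T, t * u = u * t := by
  classical
  have h2' : ∀ (a b c d : Ω), a ≠ b → c ≠ d → ∃ g : G, g • a = c ∧ g • b = d :=
    fun a b c d hab hcd => (is_two_pretransitive_iff.mp h2) hab hcd
  let X : G → Set G := fun t => {x | x ∈ S ∧ x • a = a ∧ x • (t • a) = t • a}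
  let C : G → Set G := fun t => {u | u ∈ T ∧ u * t = t * u}
  let φ : G → G := fun u => Classical.choose (hT't a (u⁻¹ • a))
  have hφ : ∀ u, φ u ∈ T' ∧ φ u • a = u⁻¹ • a := fun u => Classical.choose_spec (hT't a (u⁻¹ • a))
  let θ : G → G := fun u => u * φ u
  have hθinj : Set.InjOn θ (T : Set G) := by
    intro u hu v hv huv
    have h1 : v⁻¹ * u = φ v * (φ u)⁻¹ := by
      have : u * φ u = v * φ v := huv
      calc v⁻¹ * u = v⁻¹ * (u * φ u) * (φ u)⁻¹ := by group
        _ = v⁻¹ * (v * φ v) * (φ u)⁻¹ := by rw [this]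
        _ = φ v * (φ u)⁻¹ := by group
    have h2 : v⁻¹ * u ∈ T := T.mul_mem (T.inv_mem hv) hu
    have h3 : v⁻¹ * u ∈ T' := by
      rw [h1]; exact T'.mul_mem (hφ v).1 (T'.inv_mem (hφ u).1)
    have := hinf _ h2 h3
    rw [inv_mul_eq_one] at this
    exact this.symm
  have hX : ∀ t ∈ T, X t = θ '' C t := by
    intro t ht
    ext x
    constructor
    · rintro ⟨hxS, hxa, hxt⟩
      obtain ⟨u, hu, u', hu', rfl⟩ := hprod x hxS
      have hu'φ : u' = φ u := by
        have h1 : (φ u)⁻¹ * u' ∈ T' := T'.mul_mem (T'.inv_mem (hφ u).1) hu'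
        have h2 : ((φ u)⁻¹ * u') • a = a := by
          rw [mul_smul, inv_smul_eq_iff, (hφ u).2, eq_inv_smul_iff, ← mul_smul]
          exact hxa
        have := hT's _ h1 a h2
        rw [inv_mul_eq_one] at this
        exact this.symm
      refine ⟨u, ⟨hu, ?_⟩, ?_⟩
      · -- u t u⁻¹ = t
        have h1 : (u * t * u⁻¹) • a = t • a := by
          have e1 : (u * u') • t • a = (u * t * u⁻¹) • ((u * u') • a) := by
            rw [← mul_smul, ← mul_smul]
            congr 1
            have := hcomm t ht u' hu'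
            calc u * u' * t = u * (u' * t) := by group
              _ = u * (t * u') := by rw [this]
              _ = u * t * u⁻¹ * (u * u') := by group
          rw [hxa] at e1
          rw [← e1]; exact hxt
        have h2 : t⁻¹ * (u * t * u⁻¹) ∈ T :=
          T.mul_mem (T.inv_mem ht) (T.mul_mem (T.mul_mem hu ht) (T.inv_mem hu))
        have h3 : (t⁻¹ * (u * t * u⁻¹)) • a = a := by
          rw [mul_smul, h1, inv_smul_smul]
        have := hTs _ h2 a h3
        rw [inv_mul_eq_one] at this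
        calc u * t = (u * t * u⁻¹) * u := by group
          _ = t * u := by rw [← this]
      · show u * φ u = u * u'
        rw [hu'φ]
    · rintro ⟨u, ⟨hu, hut⟩, rfl⟩
      have hθa : θ u • a = a := by
        show (u * φ u) • a = a
        rw [mul_smul, (hφ u).2, smul_inv_smul]
      refine ⟨S.mul_mem (hTS hu) (hT'S (hφ u).1), hθa, ?_⟩
      show (u * φ u) • t • a = t • a
      have : u * φ u * t = t * (u * φ u) := by
        have := hcomm t ht (φ u) (hφ u).1
        calc u * φ u * t = u * (φ u * t) := by group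
          _ = u * (t * φ u) := by rw [this]
          _ = (u * t) * φ u := by group
          _ = (t * u) * φ u := by rw [hut]
          _ = t * (u * φ u) := by group
      rw [← mul_smul, this, mul_smul]
      congr 1
  have hXC : ∀ t ∈ T, (X t).ncard = (C t).ncard := by
    intro t ht
    rw [hX t ht]
    exact Set.InjOn.ncard_image (hθinj.mono (fun u hu => hu.1))
  have hXle : ∀ t₁ ∈ T, ∀ t₂ ∈ T, t₁ ≠ 1 → t₂ ≠ 1 → (X t₁).ncard ≤ (X t₂).ncard := by
    intro t₁ ht₁ t₂ ht₂ h1 h2''
    have ha1 : a ≠ t₁ • a := fun h => h1 (hTs t₁ ht₁ a h.symm)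
    have ha2 : a ≠ t₂ • a := fun h => h2'' (hTs t₂ ht₂ a h.symm)
    obtain ⟨g, hga, hgt⟩ := h2' _ _ _ _ ha1 ha2
    have hga' : g⁻¹ • a = a := by rw [inv_smul_eq_iff, hga]
    apply Set.ncard_le_ncard_of_injOn (fun x => g * x * g⁻¹)
    · rintro x ⟨hxS, hxa, hxt⟩
      refine ⟨hSn.conj_mem x hxS g, ?_, ?_⟩
      · rw [mul_smul, mul_smul, hga', hxa, hga]
      · rw [mul_smul, mul_smul, ← hgt, inv_smul_smul, hxt]
    · intro x _ y _ hxy
      simpa using hxy
  -- transfer to the group `T`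
  by_cases hT1 : ∀ t ∈ T, t = 1
  · intro t ht u hu
    rw [hT1 t ht, hT1 u hu]
  · push Not at hT1
    obtain ⟨t₀, ht₀, ht₀1⟩ := hT1
    have hconst : ∀ t : T, t ≠ 1 → Nat.card (Subgroup.centralizer {t}) = (C t₀).ncard := by
      intro t ht1
      have ht1' : (t : G) ≠ 1 := fun h => ht1 (Subtype.ext h)
      have e1 : (C t).ncard = (C t₀).ncard := by
        rw [← hXC t t.2, ← hXC t₀ ht₀]
        exact le_antisymm (hXle t t.2 t₀ ht₀ ht1' ht₀1) (hXle t₀ ht₀ t t.2 ht₀1 ht1')
      rw [← e1, ← Nat.card_coe_set_eq]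
      apply Nat.card_congr
      refine ⟨fun y => ⟨(y : T), ⟨(y : T).2, ?_⟩⟩, fun z => ⟨⟨z.1, z.2.1⟩, ?_⟩, ?_, ?_⟩
      · have := (Subgroup.mem_centralizer_iff.mp y.2) t rfl
        exact (congrArg Subtype.val this).symm
      · rw [Subgroup.mem_centralizer_iff]
        intro h hh
        rw [Set.mem_singleton_iff] at hh
        rw [hh]
        apply Subtype.ext
        exact z.2.2.symm
      · intro y; rfl
      · intro z; rfl
    have hcommT := comm_of_card_centralizer_const (T := T) _ hconst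
    intro t ht u hu
    exact congrArg Subtype.val (hcommT ⟨t, ht⟩ ⟨u, hu⟩)

end TwoRegular

section Simple

variable {G : Type*} {Ω : Type*} [Group G] [MulAction G Ω]

theorem mem_conj_smul {g y : G} {T : Subgroup G} :
    y ∈ MulAut.conj g • T ↔ g⁻¹ * y * g ∈ T := by
  rw [Subgroup.mem_pointwise_smul_iff_inv_smul_mem, MulAut.smul_def, ← map_inv,
    MulAut.conj_apply, inv_inv]

theorem conj_mem_conj_smul {g t : G} {T : Subgroup G} (ht : t ∈ T) :
    g * t * g⁻¹ ∈ MulAut.conj g • T := by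
  rw [mem_conj_smul]
  have : g⁻¹ * (g * t * g⁻¹) * g = t := by group
  rw [this]; exact ht

/-- `T` is a minimal non-trivial `N`-invariant subgroup of `N`. -/
def MinN (N T : Subgroup G) : Prop :=
  T ≤ N ∧ (∀ x ∈ N, ∀ t ∈ T, x * t * x⁻¹ ∈ T) ∧ T ≠ ⊥ ∧
    ∀ M : Subgroup G, M ≤ T → (∀ x ∈ N, ∀ m ∈ M, x * m * x⁻¹ ∈ M) → M ≠ ⊥ → M = T

theorem MinN.conj {N T : Subgroup G} [hNn : N.Normal] (h : MinN N T) (g : G) :
    MinN N (MulAut.conj g • T) := by
  obtain ⟨hle, hinv, hne, hmin⟩ := h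
  have hinv' : ∀ (g : G) (M : Subgroup G), (∀ x ∈ N, ∀ m ∈ M, x * m * x⁻¹ ∈ M) →
      ∀ x ∈ N, ∀ m ∈ MulAut.conj g • M, x * m * x⁻¹ ∈ MulAut.conj g • M := by
    intro g M hM x hx m hm
    rw [mem_conj_smul] at hm ⊢
    have hx' : g⁻¹ * x * g ∈ N := by
      have := hNn.conj_mem x hx g⁻¹
      rwa [inv_inv] at this
    have := hM _ hx' _ hm
    have e : g⁻¹ * (x * m * x⁻¹) * g = g⁻¹ * x * g * (g⁻¹ * m * g) * (g⁻¹ * x * g)⁻¹ := by group
    rw [e]; exact this
  refine ⟨?_, hinv' g T hinv, ?_, ?_⟩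
  · intro y hy
    rw [mem_conj_smul] at hy
    have := hNn.conj_mem _ (hle hy) g
    have e : g * (g⁻¹ * y * g) * g⁻¹ = y := by group
    rwa [e] at this
  · intro hbot
    apply hne
    have := congrArg (fun S => (MulAut.conj g)⁻¹ • S) hbot
    simpa using this
  · intro M hM hMinv hMne
    have h1 : (MulAut.conj g)⁻¹ • M ≤ T := by
      intro y hy
      rw [← map_inv, mem_conj_smul, inv_inv] at hy
      have := hM hy
      rw [mem_conj_smul] at this
      have e : g⁻¹ * (g * y * g⁻¹) * g = y := by group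
      rwa [e] at this
    have h2 : ∀ x ∈ N, ∀ m ∈ (MulAut.conj g)⁻¹ • M, x * m * x⁻¹ ∈ (MulAut.conj g)⁻¹ • M := by
      rw [← map_inv]
      exact hinv' g⁻¹ M hMinv
    have h3 : (MulAut.conj g)⁻¹ • M ≠ ⊥ := by
      intro hbot
      apply hMne
      have := congrArg (fun S => (MulAut.conj g) • S) hbot
      simpa using this
    have h4 := hmin _ h1 h2 h3
    rw [← h4, smul_inv_smul]

theorem MinN.inf {N T₁ T₂ : Subgroup G} (h₁ : MinN N T₁) (h₂ : MinN N T₂) (hne : T₁ ≠ T₂) :
    ∀ z, z ∈ T₁ → z ∈ T₂ → z = 1 := by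
  intro z hz1 hz2
  by_contra hz
  have hM : T₁ ⊓ T₂ ≠ ⊥ := by
    intro h
    have : z ∈ T₁ ⊓ T₂ := ⟨hz1, hz2⟩
    rw [h, Subgroup.mem_bot] at this
    exact hz this
  have hinv : ∀ x ∈ N, ∀ m ∈ T₁ ⊓ T₂, x * m * x⁻¹ ∈ T₁ ⊓ T₂ := by
    intro x hx m hm
    exact ⟨h₁.2.1 x hx m hm.1, h₂.2.1 x hx m hm.2⟩
  have e1 := h₁.2.2.2 _ inf_le_left hinv hM
  have e2 := h₂.2.2.2 _ inf_le_right hinv hM
  exact hne (e1.symm.trans e2)

theorem MinN.commute {N T₁ T₂ : Subgroup G} (h₁ : MinN N T₁) (h₂ : MinN N T₂)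
    (hinf : ∀ z, z ∈ T₁ → z ∈ T₂ → z = 1) : ∀ t ∈ T₁, ∀ u ∈ T₂, t * u = u * t := by
  intro t ht u hu
  have hw1 : t * u * t⁻¹ * u⁻¹ ∈ T₁ := by
    have := h₁.2.1 u (h₂.1 hu) t⁻¹ (T₁.inv_mem ht)
    have e : t * u * t⁻¹ * u⁻¹ = t * (u * t⁻¹ * u⁻¹) := by group
    rw [e]; exact T₁.mul_mem ht this
  have hw2 : t * u * t⁻¹ * u⁻¹ ∈ T₂ := by
    have := h₂.2.1 t (h₁.1 ht) u hu
    exact T₂.mul_mem this (T₂.inv_mem hu)
  have := hinf _ hw1 hw2
  calc t * u = (t * u * t⁻¹ * u⁻¹) * (u * t) := by group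
    _ = u * t := by rw [this, one_mul]

theorem MinN.sTrans [FaithfulSMul G Ω] {N T : Subgroup G} (hprim : IsPreprimitive N Ω)
    (h : MinN N T) : STrans Ω T := by
  obtain ⟨hle, hinv, hne, -⟩ := h
  have hfaith : FaithfulSMul N Ω := by
    refine ⟨fun {x y} hxy => Subtype.ext ?_⟩
    apply FaithfulSMul.eq_of_smul_eq_smul (α := Ω)
    intro a
    exact hxy a
  have hnorm : (T.subgroupOf N).Normal := by
    refine ⟨fun m hm x => ?_⟩
    rw [Subgroup.mem_subgroupOf] at hm ⊢
    exact hinv x x.2 m hm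
  have hne' : T.subgroupOf N ≠ ⊥ := by
    intro hbot
    apply hne
    rw [eq_bot_iff]
    intro t ht
    have : (⟨t, hle ht⟩ : N) ∈ T.subgroupOf N := by
      rw [Subgroup.mem_subgroupOf]; exact ht
    rw [hbot, Subgroup.mem_bot] at this
    exact Subgroup.mem_bot.mpr (congrArg Subtype.val this)
  have := sTrans_of_normal (G := N) (Ω := Ω) (T.subgroupOf N) hne'
  intro a b
  obtain ⟨m, hm, hmab⟩ := this a b
  exact ⟨(m : G), Subgroup.mem_subgroupOf.mp hm, hmab⟩

/-- A primitive minimal normal subgroup of a finite 2-transitive group is simple. -/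
theorem isSimpleGroup_of_isPreprimitive [FaithfulSMul G Ω] [Finite G] [Nonempty Ω]
    (h2 : IsMultiplyPretransitive G Ω 2) (N : Subgroup G) [hNn : N.Normal] (hN : N ≠ ⊥)
    (hmin : ∀ M : Subgroup G, M.Normal → M ≤ N → M = ⊥ ∨ M = N)
    (hprim : IsPreprimitive N Ω) : IsSimpleGroup N := by
  have hNnt : Nontrivial N := (Subgroup.nontrivial_iff_ne_bot N).mpr hN
  refine ⟨fun M₀ hM₀n => ?_⟩
  by_contra hcon
  push Not at hcon
  obtain ⟨hM₀1, hM₀2⟩ := hcon
  -- property P
  let P : Subgroup G → Prop := fun T =>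
    T ≤ N ∧ (∀ x ∈ N, ∀ t ∈ T, x * t * x⁻¹ ∈ T) ∧ T ≠ ⊥ ∧ T ≠ N
  have hP0 : P (M₀.map N.subtype) := by
    refine ⟨Subgroup.map_subtype_le _, ?_, ?_, ?_⟩
    · intro x hx t ht
      obtain ⟨m, hm, rfl⟩ := Subgroup.mem_map.mp ht
      exact Subgroup.mem_map.mpr ⟨⟨x, hx⟩ * m * ⟨x, hx⟩⁻¹, hM₀n.conj_mem m hm ⟨x, hx⟩, rfl⟩
    · intro h
      rw [Subgroup.map_eq_bot_iff_of_injective _ (Subgroup.subtype_injective N)] at h
      exact hM₀1 h
    · intro h
      apply hM₀2
      rw [eq_top_iff]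
      intro n _
      have : (n : G) ∈ M₀.map N.subtype := by rw [h]; exact n.2
      obtain ⟨m, hm, hmn⟩ := Subgroup.mem_map.mp this
      have : m = n := Subtype.ext hmn
      rw [← this]; exact hm
  have hex : ∃ k : ℕ, ∃ T : Subgroup G, P T ∧ Nat.card T = k := ⟨_, _, hP0, rfl⟩
  classical
  obtain ⟨T, hPT, hTk⟩ := Nat.find_spec hex
  have hTmin : ∀ T₁ : Subgroup G, P T₁ → Nat.card T ≤ Nat.card T₁ := by
    intro T₁ h1
    rw [hTk]
    exact Nat.find_min' hex ⟨T₁, h1, rfl⟩
  obtain ⟨hTN, hTinv, hT1, hTneN⟩ := hPT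
  have hT : MinN N T := by
    refine ⟨hTN, hTinv, hT1, ?_⟩
    intro M hM hMinv hM1
    have hPM : P M := by
      refine ⟨hM.trans hTN, hMinv, hM1, ?_⟩
      intro h
      apply hTneN
      exact le_antisymm hTN (h ▸ hM)
    exact Subgroup.eq_of_le_of_card_ge hM (hTmin M hPM)
  -- a conjugate different from T
  have hexg : ∃ g : G, MulAut.conj g • T ≠ T := by
    by_contra hcon
    push Not at hcon
    have hTn : T.Normal := by
      refine ⟨fun t ht g => ?_⟩
      rw [← hcon g]
      exact conj_mem_conj_smul ht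
    rcases hmin T hTn hTN with h | h
    · exact hT1 h
    · exact hTneN h
  obtain ⟨g, hg⟩ := hexg
  have hT' : MinN N (MulAut.conj g • T) := hT.conj g
  have hinf := hT.inf hT' (Ne.symm hg)
  have hcomm := hT.commute hT' hinf
  have hTt : STrans Ω T := hT.sTrans hprim
  have hT't : STrans Ω (MulAut.conj g • T) := hT'.sTrans hprim
  have hC : MulAut.conj g • T = Subgroup.centralizer (T : Set G) := by
    apply eq_of_le_of_sTrans_of_sSemireg _ _ _ hT't (sSemireg_centralizer T hTt)
    intro u hu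
    rw [Subgroup.mem_centralizer_iff]
    intro t ht
    exact hcomm t ht u hu
  have hT's : SSemireg Ω (MulAut.conj g • T) := by
    rw [hC]; exact sSemireg_centralizer T hTt
  have hTs : SSemireg Ω T := by
    intro t ht a hta
    apply sSemireg_centralizer _ hT't t _ a hta
    rw [Subgroup.mem_centralizer_iff]
    intro u hu
    exact (hcomm t ht u hu).symm
  -- every conjugate of T is T or T'
  have hconjs : ∀ h : G, MulAut.conj h • T = T ∨ MulAut.conj h • T = MulAut.conj g • T := by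
    intro h
    by_cases hh : MulAut.conj h • T = T
    · exact Or.inl hh
    · right
      have hT'' : MinN N (MulAut.conj h • T) := hT.conj h
      have hinf'' := hT.inf hT'' (Ne.symm hh)
      have hcomm'' := hT.commute hT'' hinf''
      have hle : MulAut.conj h • T ≤ MulAut.conj g • T := by
        rw [hC]
        intro u hu
        rw [Subgroup.mem_centralizer_iff]
        intro t ht
        exact hcomm'' t ht u hu
      exact hT'.2.2.2 _ hle hT''.2.1 hT''.2.2.1
  -- product decomposition of T ⊔ T'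
  have hprod : ∀ x ∈ T ⊔ MulAut.conj g • T, ∃ t ∈ T, ∃ t' ∈ MulAut.conj g • T, x = t * t' := by
    let R : Subgroup G :=
      { carrier := {x | ∃ t ∈ T, ∃ t' ∈ MulAut.conj g • T, x = t * t'}
        mul_mem' := by
          rintro x y ⟨t₁, ht₁, u₁, hu₁, rfl⟩ ⟨t₂, ht₂, u₂, hu₂, rfl⟩
          refine ⟨t₁ * t₂, T.mul_mem ht₁ ht₂, u₁ * u₂, Subgroup.mul_mem _ hu₁ hu₂, ?_⟩
          have := hcomm t₂ ht₂ u₁ hu₁
          calc t₁ * u₁ * (t₂ * u₂) = t₁ * (u₁ * t₂) * u₂ := by group
            _ = t₁ * (t₂ * u₁) * u₂ := by rw [this]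
            _ = t₁ * t₂ * (u₁ * u₂) := by group
        one_mem' := ⟨1, T.one_mem, 1, Subgroup.one_mem _, by simp⟩
        inv_mem' := by
          rintro x ⟨t, ht, u, hu, rfl⟩
          refine ⟨t⁻¹, T.inv_mem ht, u⁻¹, Subgroup.inv_mem _ hu, ?_⟩
          have := hcomm t ht u hu
          rw [mul_inv_rev, ← mul_inv_rev, this, mul_inv_rev] }
    have hle : T ⊔ MulAut.conj g • T ≤ R := by
      apply sup_le
      · intro t ht
        exact ⟨t, ht, 1, Subgroup.one_mem _, by simp⟩
      · intro u hu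
        exact ⟨1, T.one_mem, u, hu, by simp⟩
    intro x hx
    exact hle hx
  have hSn : (T ⊔ MulAut.conj g • T).Normal := by
    refine ⟨fun s hs h => ?_⟩
    obtain ⟨t, ht, u, hu, rfl⟩ := hprod s hs
    have e : h * (t * u) * h⁻¹ = (h * t * h⁻¹) * (h * u * h⁻¹) := by group
    rw [e]
    apply Subgroup.mul_mem
    · have hm : h * t * h⁻¹ ∈ MulAut.conj h • T := conj_mem_conj_smul ht
      rcases hconjs h with h' | h'
      · rw [h'] at hm; exact (le_sup_left : T ≤ _) hm
      · rw [h'] at hm; exact (le_sup_right : MulAut.conj g • T ≤ _) hm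
    · have hm : h * u * h⁻¹ ∈ MulAut.conj (h * g) • T := by
        rw [map_mul, mul_smul]
        exact conj_mem_conj_smul hu
      rcases hconjs (h * g) with h' | h'
      · rw [h'] at hm; exact (le_sup_left : T ≤ _) hm
      · rw [h'] at hm; exact (le_sup_right : MulAut.conj g • T ≤ _) hm
  obtain ⟨a⟩ := ‹Nonempty Ω›
  have hab := comm_of_two_regular h2 (T ⊔ MulAut.conj g • T) T (MulAut.conj g • T)
    le_sup_left le_sup_right hcomm hinf hTs hT't hT's hprod a
  have hle : T ≤ MulAut.conj g • T := by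
    rw [hC]
    intro t ht
    rw [Subgroup.mem_centralizer_iff]
    intro u hu
    exact hab u hu t ht
  exact hg (hT'.2.2.2 T hle hT.2.1 hT.2.2.1).symm

end Simple

end Cfsg.Agent.Lib.Helper59
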