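import Mathlib
import Cfsg.Agent.Lib.Helper4.PFNineA
import Cfsg.Agent.Lib.Helper26.PFEightC

/-!
# PF section 9, group modules N1 and N2 (helper4, board #2569)

* (N1) Peterfalvi (9.3), Type II: `C_H(U) = 1`.
* (N2) Peterfalvi (9.4): a maximal proper `M`-invariant subgroup `H₀` of `H = M_F` containing
  `C_H(U)`.
-/

set_option autoImplicit false

namespace Cfsg.Agent.Lib.Helper59.PFNine

open Cfsg Cfsg.Agent.Lib.Helper23 Cfsg.Agent.Lib.Helper4.PF9

variable {G : Type*} [Group G] [Finite G] {M W₁ U W₂ : Subgroup G}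

/-- (N1) Peterfalvi (9.3) for Type II: `C_H(U) = 1`. -/
theorem typeII_centralizer_U_eq_bot (hP : IsTypePWith M W₁ U W₂) (hU : U ≠ ⊥)
    (hF : IsOfTypeF ↥⁅M, M⁆) (hHF : fittingHallOf ⁅M, M⁆ = fittingHallOf M) :
    fittingHallOf M ⊓ Subgroup.centralizer (U : Set G) = ⊥ := by
  have _ := hU
  obtain ⟨hsolv, -, -, -, U', hU'ne, hcompl, -, U₀, hU₀le, hexp, hfpf⟩ := hF
  have hKH : (fittingHall ↥⁅M, M⁆).map (⁅M, M⁆ : Subgroup G).subtype = fittingHallOf M := hHF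
  -- the image of `U'` in `G` is a complement of `H` in `M'`
  have hcomplIn : IsComplIn (fittingHallOf M) (U'.map (⁅M, M⁆ : Subgroup G).subtype) ⁅M, M⁆ := by
    refine ⟨hP.U_compl.1, ?_, ?_, ?_⟩
    · rintro _ ⟨u, _, rfl⟩
      exact u.2
    · rw [eq_bot_iff]
      rintro x ⟨hxH, hxU⟩
      rw [SetLike.mem_coe, ← hKH] at hxH
      obtain ⟨k, hk, rfl⟩ := hxH
      obtain ⟨u, hu, hux⟩ := hxU
      have hku : u = k := Subtype.ext hux
      subst hku
      have hmem : u ∈ fittingHall ↥⁅M, M⁆ ⊓ U' := ⟨hk, hu⟩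
      rw [hcompl.disjoint.eq_bot, Subgroup.mem_bot] at hmem
      rw [hmem]
      exact Subgroup.mem_bot.2 rfl
    · intro m hm
      obtain ⟨⟨k, u⟩, hku, -⟩ := Subgroup.isComplement_iff_existsUnique.1 hcompl ⟨m, hm⟩
      refine ⟨(k : ↥⁅M, M⁆), ?_, (u : ↥⁅M, M⁆), ⟨u, u.2, rfl⟩, ?_⟩
      · rw [← hKH]
        exact ⟨k, k.2, rfl⟩
      · have := congrArg Subtype.val hku
        simpa using this.symm
  -- both complements are Hall subgroups for the primes dividing `|U|`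
  have hcardU : Nat.card ↥(U'.map (⁅M, M⁆ : Subgroup G).subtype) = Nat.card ↥U := by
    have h1 := card_of_isComplIn hP.U_compl
    have h2 := card_of_isComplIn hcomplIn
    have hpos : 0 < Nat.card ↥(fittingHallOf M) := Nat.card_pos
    rw [h1] at h2
    exact (Nat.eq_of_mul_eq_mul_left hpos h2).symm
  have hcop := (typeP_coprime hP).1
  let π : Set ℕ := {p | p ∣ Nat.card ↥U}
  have hUhall : IsPiHallOf π U ⁅M, M⁆ := by
    refine ⟨hP.U_compl.2.1, fun p _ hp => hp, fun p hp hpπ hdvd => ?_⟩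
    rw [Cfsg.Agent.Lib.Helper26.PFEight.relIndex_of_isComplIn hP.U_compl] at hdvd
    exact hp.one_lt.ne' (Nat.eq_one_of_dvd_coprimes hcop hdvd hpπ)
  have hU'hall : IsPiHallOf π (U'.map (⁅M, M⁆ : Subgroup G).subtype) ⁅M, M⁆ := by
    refine ⟨hcomplIn.2.1, fun p _ hp => ?_, fun p hp hpπ hdvd => ?_⟩
    · show p ∣ Nat.card ↥U
      rw [← hcardU]
      exact hp
    · rw [Cfsg.Agent.Lib.Helper26.PFEight.relIndex_of_isComplIn hcomplIn] at hdvd
      exact hp.one_lt.ne' (Nat.eq_one_of_dvd_coprimes hcop hdvd hpπ)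
  have h := Cfsg.Agent.S3745.result (⊥ : Subgroup G) ⁅M, M⁆ bot_le
    (by rw [Subgroup.card_bot]; exact Nat.coprime_one_left _) hsolv π
  obtain ⟨c, hc, hcU⟩ := h.2.1 U (U'.map (⁅M, M⁆ : Subgroup G).subtype) hUhall bot_le hU'hall bot_le
  have hcM' : c ∈ ⁅M, M⁆ := hc.1
  have hcM : c ∈ M := der_le hP hcM'
  -- a non-identity element of `U₀`
  have hU₀ne : ∃ u₀ ∈ U₀, u₀ ≠ 1 := by
    by_contra hcon
    push Not at hcon
    have hsub : Subsingleton ↥U₀ := ⟨fun a b => by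
      have ha := hcon a a.2
      have hb := hcon b b.2
      exact Subtype.ext (ha.trans hb.symm)⟩
    have h1 : Monoid.exponent ↥U₀ = 1 := Monoid.exp_eq_one_iff.2 hsub
    rw [hexp, Monoid.exp_eq_one_iff] at h1
    apply hU'ne
    rw [Subgroup.eq_bot_iff_forall]
    intro a ha
    have := h1.elim ⟨a, ha⟩ 1
    exact congrArg Subtype.val this
  obtain ⟨u₀, hu₀, hu₀1⟩ := hU₀ne
  rw [eq_bot_iff]
  rintro x ⟨hxH, hxC⟩
  rw [Subgroup.mem_bot]
  -- `c x c⁻¹` lies in `H` and commutes with the image of `u₀`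
  have hyH : c * x * c⁻¹ ∈ fittingHallOf M := conj_mem_fittingHallOf M hcM hxH
  have hu₀U' : ((u₀ : ↥⁅M, M⁆) : G) ∈ U'.map (⁅M, M⁆ : Subgroup G).subtype :=
    ⟨u₀, hU₀le hu₀, rfl⟩
  rw [hcU] at hu₀U'
  obtain ⟨v, hv, hvu⟩ := hu₀U'
  have hvu' : c * v * c⁻¹ = (u₀ : G) := hvu
  have hcomm : v * x = x * v := Subgroup.mem_centralizer_iff.1 hxC v hv
  have hcomm' : (u₀ : G) * (c * x * c⁻¹) = (c * x * c⁻¹) * (u₀ : G) := by
    rw [← hvu']
    have e1 : c * v * c⁻¹ * (c * x * c⁻¹) = c * (v * x) * c⁻¹ := by group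
    have e2 : c * x * c⁻¹ * (c * v * c⁻¹) = c * (x * v) * c⁻¹ := by group
    rw [e1, e2, hcomm]
  have hyM' : c * x * c⁻¹ ∈ ⁅M, M⁆ := hP.U_compl.1 hyH
  have hyK : (⟨c * x * c⁻¹, hyM'⟩ : ↥⁅M, M⁆) ∈ fittingHall ↥⁅M, M⁆ := by
    rw [← hKH] at hyH
    obtain ⟨k, hk, hkx⟩ := hyH
    have : k = ⟨c * x * c⁻¹, hyM'⟩ := Subtype.ext hkx
    rwa [← this]
  have h1 := hfpf u₀ hu₀ hu₀1 ⟨c * x * c⁻¹, hyM'⟩ hyK (Subtype.ext hcomm')
  have h2 : c * x * c⁻¹ = 1 := congrArg Subtype.val h1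
  have h3 : x = c⁻¹ * (c * x * c⁻¹) * c := by group
  rw [h3, h2]
  group

omit [Finite G] in
theorem le_normalizer_of_conj_mem {X D : Subgroup G}
    (h : ∀ x ∈ X, ∀ y ∈ D, x * y * x⁻¹ ∈ D) : X ≤ Subgroup.normalizer (D : Set G) := by
  intro x hx
  rw [Subgroup.mem_normalizer_iff]
  intro y
  constructor
  · exact h x hx y
  · intro hy
    have := h x⁻¹ (X.inv_mem hx) _ hy
    simpa [mul_assoc] using this

omit [Finite G] in
theorem conj_mem_of_le_normalizer {X D : Subgroup G} (h : X ≤ Subgroup.normalizer (D : Set G))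
    {x y : G} (hx : x ∈ X) (hy : y ∈ D) : x * y * x⁻¹ ∈ D :=
  ((Subgroup.mem_normalizer_iff.1 (h hx)) y).1 hy

/-- (N2) Peterfalvi (9.4): a maximal proper `M`-invariant subgroup of `H = M_F` containing
`C_H(U)`. -/
theorem exists_Fcore_kernel (hP : IsTypePWith M W₁ U W₂) (hU : U ≠ ⊥) :
    ∃ H₀ : Subgroup G, H₀ < fittingHallOf M ∧ M ≤ Subgroup.normalizer (H₀ : Set G) ∧
      fittingHallOf M ⊓ Subgroup.centralizer (U : Set G) ≤ H₀ ∧
      ∀ N : Subgroup G, H₀ ≤ N → N ≤ fittingHallOf M → M ≤ Subgroup.normalizer (N : Set G) →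
        N = H₀ ∨ N = fittingHallOf M := by
  classical
  set H := fittingHallOf M with hH
  set C := H ⊓ Subgroup.centralizer (U : Set G) with hC
  set X := U ⊔ W₁ with hX
  have hXM : X ≤ M := UW₁_le hP
  -- `C ≠ H`
  have hCne : C ≠ H := by
    intro hCH
    have h4 : U ≤ Subgroup.centralizer (H : Set G) := by
      intro u hu
      rw [Subgroup.mem_centralizer_iff]
      intro x hx
      have hx' : x ∈ C := by rw [hCH]; exact hx
      exact (Subgroup.mem_centralizer_iff.1 hx'.2 u hu).symm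
    exact (Cfsg.Agent.S1388.result M W₁ U W₂ hP).2 hU h4
  have hClt : C < H := lt_of_le_of_ne inf_le_left hCne
  -- `X` normalizes `U`, `H`, `C`
  have hXU : X ≤ Subgroup.normalizer (U : Set G) := sup_le Subgroup.le_normalizer hP.U_normal
  have hXH : ∀ x ∈ X, ∀ y ∈ H, x * y * x⁻¹ ∈ H := fun x hx y hy =>
    conj_mem_fittingHallOf M (hXM hx) hy
  have hXC : X ≤ Subgroup.normalizer (C : Set G) := by
    apply le_normalizer_of_conj_mem
    intro x hx y hy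
    refine ⟨hXH x hx y hy.1, ?_⟩
    show x * y * x⁻¹ ∈ Subgroup.centralizer (U : Set G)
    rw [Subgroup.mem_centralizer_iff]
    intro u hu
    have hu' : x⁻¹ * u * x⁻¹⁻¹ ∈ U := conj_mem_of_le_normalizer hXU (X.inv_mem hx) hu
    have hcomm := Subgroup.mem_centralizer_iff.1 hy.2 _ hu'
    have e1 : u * (x * y * x⁻¹) = x * ((x⁻¹ * u * x⁻¹⁻¹) * y) * x⁻¹ := by group
    have e2 : x * y * x⁻¹ * u = x * (y * (x⁻¹ * u * x⁻¹⁻¹)) * x⁻¹ := by group
    rw [e1, e2, hcomm]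
  -- a maximal `X`-invariant proper subgroup of `H` containing `C` is normal in `H`
  let 𝒯 : Set (Subgroup G) := {D | C ≤ D ∧ D < H ∧ X ≤ Subgroup.normalizer (D : Set G)}
  obtain ⟨D, hD𝒯, hDmax⟩ := (Set.toFinite 𝒯).exists_maximal ⟨C, le_rfl, hClt, hXC⟩
  obtain ⟨hCD, hDH, hXD⟩ := hD𝒯
  have hHD : H ≤ Subgroup.normalizer (D : Set G) := by
    by_contra hcon
    set D' := H ⊓ Subgroup.normalizer (D : Set G) with hD'
    have hD'lt : D' < H := lt_of_le_of_ne inf_le_left (fun h => hcon (h ▸ inf_le_right))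
    have hDD' : D ≤ D' := le_inf hDH.le Subgroup.le_normalizer
    have hXD' : X ≤ Subgroup.normalizer (D' : Set G) := by
      apply le_normalizer_of_conj_mem
      intro x hx y hy
      refine ⟨hXH x hx y hy.1, ?_⟩
      have hxn : x ∈ Subgroup.normalizer (D : Set G) := hXD hx
      have : x * y * x⁻¹ ∈ Subgroup.normalizer (D : Set G) :=
        Subgroup.mul_mem _ (Subgroup.mul_mem _ hxn hy.2) (Subgroup.inv_mem _ hxn)
      exact this
    have hD'D : D' ≤ D := hDmax ⟨hCD.trans hDD', hD'lt, hXD'⟩ hDD'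
    -- normalizer condition in the nilpotent group `H`
    have hnil : Group.IsNilpotent ↥H := H_isNilpotent M
    have hnc : NormalizerCondition ↥H := Group.normalizerCondition_of_isNilpotent
    have hlt : D.subgroupOf H < ⊤ := by
      rw [lt_top_iff_ne_top, Ne, Subgroup.subgroupOf_eq_top]
      exact fun h => absurd (lt_of_lt_of_le hDH h) (lt_irrefl _)
    have hlt2 := hnc _ hlt
    rw [← Subgroup.subgroupOf_normalizer_eq hDH.le] at hlt2
    obtain ⟨y, hy1, hy2⟩ := SetLike.exists_of_lt hlt2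
    apply hy2
    rw [Subgroup.mem_subgroupOf] at hy1 ⊢
    exact hD'D ⟨y.2, hy1⟩
  have hMD : M ≤ Subgroup.normalizer (D : Set G) := by
    intro m hm
    obtain ⟨h, hh, x, hx, rfl⟩ := (isComplIn_H_UW₁ hP).2.2.2 m hm
    exact Subgroup.mul_mem _ (hHD hh) (hXD hx)
  -- now a maximal `M`-invariant proper subgroup of `H` containing `C`
  let 𝒮 : Set (Subgroup G) := {N | N < H ∧ M ≤ Subgroup.normalizer (N : Set G) ∧ C ≤ N}
  obtain ⟨H₀, hH₀𝒮, hH₀max⟩ := (Set.toFinite 𝒮).exists_maximal ⟨D, hDH, hMD, hCD⟩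
  obtain ⟨hH₀H, hMH₀, hCH₀⟩ := hH₀𝒮
  refine ⟨H₀, hH₀H, hMH₀, hCH₀, ?_⟩
  intro N hH₀N hNH hMN
  by_cases hNeq : N = H
  · exact Or.inr hNeq
  · left
    have hNlt : N < H := lt_of_le_of_ne hNH hNeq
    exact le_antisymm (hH₀max ⟨hNlt, hMN, hCH₀.trans hH₀N⟩ hH₀N) hH₀N

end Cfsg.Agent.Lib.Helper59.PFNine
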