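import Mathlib
import Cfsg.Prelude.Def_Amalgam
import Cfsg.Agent.Lib.Helper46.Ambient
import Cfsg.Agent.Lib.Helper15.SimsFrontBASIC
import Cfsg.Agent.Lib.Helper15.SimsFrontTWO
import Cfsg.Agent.Lib.Helper44.SimsFrontConj
import Cfsg.Agent.Lib.Helper44.SimsFrontA3
import Cfsg.Agent.Lib.Helper44.SimsFrontH5
import Cfsg.Agent.Lib.Helper42.SimsFrontLOCAL
import Cfsg.Agent.Lib.Helper42.SimsFrontCARD4
import Cfsg.Agent.Lib.Helper14.SimsFrontH1
import Cfsg.Agent.Lib.Helper73.SimsFrontD12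

/-!
# Sims / Wong: primitive groups with a suborbit of length 3, modulo the amalgam theorem `S2858`
(helper59; front-end of the S2858 project.  Modules by helper15 ([BASIC], [TWO]), helper44 ([CONJ],
[A3], [H5]), helper42 ([LOCAL], [CARD4]), helper14 ([H1]), helper73 ([D12]); sheet
`SimsFrontSHEET.md`.)

`front hS hprim a b h3` : the stabilizer `G_a` is `C₃`, `S₃`, `D₁₂`, `S₄` or `S₄ × C₂`  (S3685);
`front_card` : `|G_a| = 2^k * 3` with `k ≤ 4`  (S3385).  `hS : S2858Stmt` is the statement of S2858.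
-/

set_option autoImplicit false

namespace Cfsg.Agent.Lib.Helper59.SimsFront

open Cfsg
open Cfsg.Agent.Lib.Helper15.SimsFront Cfsg.Agent.Lib.Helper44.SimsFront
  Cfsg.Agent.Lib.Helper42.SimsFront Cfsg.Agent.Lib.Helper14.SimsFront Cfsg.Agent.Lib.Helper73.SimsFrontD12

universe u

/-- the statement of `S2858` (the `(S₃,S₃)`-amalgam theorem), as a hypothesis -/
def S2858Stmt : Prop :=
  ∀ {G : Type u} [Group G] (P₁ P₂ : Subgroup G) [Finite ↥P₁] [Finite ↥P₂] (_ : P₁ ⊔ P₂ = ⊤)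
    (T : Subgroup G) (_ : T = P₁ ⊓ P₂)
    (_ : ∀ P ∈ ({P₁, P₂} : Set (Subgroup G)),
      P ⊓ Subgroup.centralizer (Cfsg.pCoreOf 2 P : Set G) ≤ Cfsg.pCoreOf 2 P)
    (_ : ∀ P ∈ ({P₁, P₂} : Set (Subgroup G)),
      ∃ S : Sylow 2 ↥P, (S : Subgroup ↥P) = T.subgroupOf P)
    (_ : ∀ N : Subgroup G, N.Normal → N ≤ T → N = ⊥)
    (_ : ∀ P ∈ ({P₁, P₂} : Set (Subgroup G)),
      Nonempty (↥P ⧸ Cfsg.pCore 2 ↥P ≃* Equiv.Perm (Fin 3)))
    (_ : ∀ P ∈ ({P₁, P₂} : Set (Subgroup G)),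
      ¬ P ≤ Subgroup.centralizer
        (Cfsg.omegaOne 2 (T ⊓ Subgroup.centralizer (T : Set G)) : Set G)),
    (Nonempty (↥P₁ ≃* Equiv.Perm (Fin 4)) ∧ Nonempty (↥P₂ ≃* Equiv.Perm (Fin 4))) ∨
    (Nonempty (↥P₁ ≃* Multiplicative (ZMod 2) × Equiv.Perm (Fin 4)) ∧
      Nonempty (↥P₂ ≃* Multiplicative (ZMod 2) × Equiv.Perm (Fin 4)))

theorem map_conj_inv_of_eq {G : Type*} [Group G] (A B : Subgroup G) (x : G)
    (h : B = A.map (MulAut.conj x).toMonoidHom) :
    A = B.map (MulAut.conj x⁻¹).toMonoidHom := by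
  subst h
  ext g
  simp only [Subgroup.mem_map, MulEquiv.coe_toMonoidHom, MulAut.conj_apply, exists_exists_and_eq_and]
  constructor
  · intro hg
    exact ⟨g, hg, by group⟩
  · rintro ⟨a, ha, rfl⟩
    have : x⁻¹ * (x * a * x⁻¹) * x⁻¹⁻¹ = a := by group
    rw [this]
    exact ha

/-- **Front-end.** Sims/Wong: the point stabilizer of a primitive group with a suborbit of
length 3, modulo the amalgam theorem `S2858`. -/
theorem front {G : Type u} [Group G] [Finite G] {Ω : Type*} [MulAction G Ω] [FaithfulSMul G Ω]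
    (hS : S2858Stmt.{u}) (hprim : MulAction.IsPreprimitive G Ω) (a b : Ω)
    (h3 : Nat.card (MulAction.orbit (MulAction.stabilizer G a) b) = 3) :
    Nonempty (MulAction.stabilizer G a ≃* Multiplicative (ZMod 3)) ∨
    Nonempty (MulAction.stabilizer G a ≃* Equiv.Perm (Fin 3)) ∨
    Nonempty (MulAction.stabilizer G a ≃* DihedralGroup 6) ∨
    Nonempty (MulAction.stabilizer G a ≃* Equiv.Perm (Fin 4)) ∨
    Nonempty (MulAction.stabilizer G a ≃* Equiv.Perm (Fin 4) × Multiplicative (ZMod 2)) := by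
  obtain ⟨hgen, idx₁, idx₂, core, g, hg⟩ := basic hprim a b h3
  generalize MulAction.stabilizer G a = P₁ at *
  generalize MulAction.stabilizer G b = P₂ at *
  obtain ⟨T, hT⟩ : ∃ T, T = P₁ ⊓ P₂ := ⟨_, rfl⟩
  rw [← hT] at idx₁ idx₂ core
  have hT₁ : T ≤ P₁ := hT ▸ inf_le_left
  have hT₂ : T ≤ P₂ := hT ▸ inf_le_right
  have two := isPGroup_two P₁ P₂ T hT₁ hT₂ hgen idx₁ idx₂ core
  obtain ⟨x, hxP, hxT⟩ := exists_conj P₁ P₂ T hT₁ hT₂ idx₁ idx₂ two g hg
  have hcardP : Nat.card ↥P₁ = 3 * Nat.card ↥T := by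
    have h1 := (T.subgroupOf P₁).card_mul_index
    rw [← Subgroup.relIndex, idx₁, Nat.card_congr (Subgroup.subgroupOfEquivOfLe hT₁).toEquiv] at h1
    omega
  by_cases hn : (T.subgroupOf P₁).Normal ∨ (T.subgroupOf P₂).Normal
  · -- `T = 1`, the stabilizer has order 3
    have hbot := eq_bot_of_normal P₁ P₂ T hT₁ hT₂ hgen core x hxP hxT hn
    left
    have hc : Nat.card ↥P₁ = 3 := by
      rw [hcardP, hbot, Subgroup.card_bot]
    have : Fact (Nat.Prime 3) := ⟨by norm_num⟩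
    exact ⟨mulEquivOfPrimeCardEq (p := 3) hc (by rw [Nat.card_eq_fintype_card]; simp)⟩
  · push Not at hn
    obtain ⟨hnn₁, hnn₂⟩ := hn
    obtain ⟨hs₁, hQ₁T, hc₁, hq₁⟩ := local_facts P₁ T hT₁ idx₁ two hnn₁
    obtain ⟨hs₂, hQ₂T, hc₂, hq₂⟩ := local_facts P₂ T hT₂ idx₂ two hnn₂
    have hne : T ≠ ⊥ := by
      intro h
      apply hnn₁
      rw [h, Subgroup.bot_subgroupOf]
      infer_instance
    have h5 := h5_auto P₁ P₂ T hT₁ hT₂ hgen core two hne x hxP hxT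
    by_cases h1 : ∀ P ∈ ({P₁, P₂} : Set (Subgroup G)),
        P ⊓ Subgroup.centralizer (Cfsg.pCoreOf 2 P : Set G) ≤ Cfsg.pCoreOf 2 P
    · -- the amalgam theorem applies
      have h2 : ∀ P ∈ ({P₁, P₂} : Set (Subgroup G)),
          ∃ S : Sylow 2 ↥P, (S : Subgroup ↥P) = T.subgroupOf P := by
        intro P hP
        rcases hP with rfl | rfl
        · exact hs₁
        · exact hs₂
      have h4 : ∀ P ∈ ({P₁, P₂} : Set (Subgroup G)),
          Nonempty (↥P ⧸ Cfsg.pCore 2 ↥P ≃* Equiv.Perm (Fin 3)) := by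
        intro P hP
        rcases hP with rfl | rfl
        · exact hq₁
        · exact hq₂
      rcases hS P₁ P₂ hgen T hT h1 h2 core h4 h5 with ⟨⟨e⟩, -⟩ | ⟨⟨e⟩, -⟩
      · exact Or.inr (Or.inr (Or.inr (Or.inl ⟨e⟩)))
      · exact Or.inr (Or.inr (Or.inr (Or.inr ⟨e.trans MulEquiv.prodComm⟩)))
    · -- `C_P(O₂(P)) ≰ O₂(P)`: small cases
      have hinf : Cfsg.pCoreOf 2 P₁ ⊓ Cfsg.pCoreOf 2 P₂ = ⊥ := by
        push Not at h1
        obtain ⟨P, hP, hfail⟩ := h1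
        rcases hP with hP | hP
        · rw [hP] at hfail
          exact inf_pCoreOf_eq_bot P₁ P₂ T hT₁ hT₂ hgen idx₁ idx₂ core two x hxP hxT hfail
        · have hP' : P = P₂ := hP
          rw [hP'] at hfail
          rw [inf_comm]
          have hxT' : T.map (MulAut.conj x⁻¹).toMonoidHom = T :=
            (map_conj_inv_of_eq T T x hxT.symm).symm
          exact inf_pCoreOf_eq_bot P₂ P₁ T hT₂ hT₁ (by rw [sup_comm]; exact hgen) idx₂ idx₁ core
            two x⁻¹ (map_conj_inv_of_eq P₁ P₂ x hxP) hxT' hfail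
      have : Finite ↥T := inferInstance
      obtain ⟨h4, hnc⟩ := card_le_four T _ _ hQ₁T hQ₂T hc₁ hc₂ hinf
      have hQpos : 0 < Nat.card ↥(Cfsg.pCoreOf 2 P₁) := Nat.card_pos
      have hQcard : Nat.card ↥(Cfsg.pCoreOf 2 P₁) = Nat.card ↥(Cfsg.pCore 2 ↥P₁) := by
        unfold Cfsg.pCoreOf
        exact Nat.card_congr
          ((Cfsg.pCore 2 ↥P₁).equivMapOfInjective P₁.subtype P₁.subtype_injective).toEquiv.symm
      have hcases : Nat.card ↥T = 2 ∨ Nat.card ↥T = 4 := by omega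
      rcases hcases with h | h
      · -- `S₃`
        right; left
        have hQ1 : Nat.card ↥(Cfsg.pCore 2 ↥P₁) = 1 := by omega
        have hQbot : Cfsg.pCore 2 ↥P₁ = ⊥ := Subgroup.card_eq_one.mp hQ1
        obtain ⟨e⟩ := hq₁
        have hnorm : (Cfsg.pCore 2 ↥P₁).Normal := Cfsg.Agent.Lib.Helper46.pCore_normal
        exact ⟨(QuotientGroup.quotientBot.symm.trans
          (QuotientGroup.quotientMulEquivOfEq hQbot.symm)).trans e⟩
      · -- `D₁₂`
        right; right; left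
        have hnorm : (Cfsg.pCore 2 ↥P₁).Normal := Cfsg.Agent.Lib.Helper46.pCore_normal
        have hQ2 : Nat.card ↥(Cfsg.pCore 2 ↥P₁) = 2 := by omega
        have hT4 : Nat.card ↥(T.subgroupOf P₁) = 4 := by
          rw [Nat.card_congr (Subgroup.subgroupOfEquivOfLe hT₁).toEquiv]
          exact h
        have hnc' : ¬ IsCyclic ↥(T.subgroupOf P₁) := by
          intro hc
          apply hnc h
          exact isCyclic_of_surjective (Subgroup.subgroupOfEquivOfLe hT₁).toMonoidHom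
            (Subgroup.subgroupOfEquivOfLe hT₁).surjective
        exact dihedral_six_of (by omega) (Cfsg.pCore 2 ↥P₁) hQ2 hq₁ (T.subgroupOf P₁) hT4 hnc'

/-- **Sims' bound**, modulo `S2858`: the stabilizer has order `2^k * 3` with `k ≤ 4`. -/
theorem front_card {G : Type u} [Group G] [Finite G] {Ω : Type*} [MulAction G Ω]
    [FaithfulSMul G Ω] (hS : S2858Stmt.{u}) (hprim : MulAction.IsPreprimitive G Ω) (a b : Ω)
    (h3 : Nat.card (MulAction.orbit (MulAction.stabilizer G a) b) = 3) :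
    ∃ k : ℕ, k ≤ 4 ∧ Nat.card ↥(MulAction.stabilizer G a) = 2 ^ k * 3 := by
  rcases front hS hprim a b h3 with ⟨⟨e⟩⟩ | ⟨⟨e⟩⟩ | ⟨⟨e⟩⟩ | ⟨⟨e⟩⟩ | ⟨⟨e⟩⟩
  · refine ⟨0, by norm_num, ?_⟩
    rw [Nat.card_congr e.toEquiv, Nat.card_eq_fintype_card]
    simp
  · refine ⟨1, by norm_num, ?_⟩
    rw [Nat.card_congr e.toEquiv, Nat.card_eq_fintype_card, Fintype.card_perm, Fintype.card_fin]
    rfl
  · refine ⟨2, by norm_num, ?_⟩
    rw [Nat.card_congr e.toEquiv, DihedralGroup.nat_card]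
    norm_num
  · refine ⟨3, by norm_num, ?_⟩
    rw [Nat.card_congr e.toEquiv, Nat.card_eq_fintype_card, Fintype.card_perm, Fintype.card_fin]
    rfl
  · refine ⟨4, by norm_num, ?_⟩
    rw [Nat.card_congr e.toEquiv, Nat.card_prod, Nat.card_eq_fintype_card, Fintype.card_perm,
      Fintype.card_fin, Nat.card_eq_fintype_card]
    simp
    rfl

end Cfsg.Agent.Lib.Helper59.SimsFront
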