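import Mathlib

/-!
# helper59: MODULE CS of helper3's general defect-one programme (board #2418)

A central subgroup `Q` of prime order `p` and index prime to `p` is a direct factor; more
precisely there is a retraction `π : K →* Q` whose kernel is exactly the set of `p`-regular
elements.
-/

namespace Cfsg.Agent.Lib.Helper59.DefOneCS

/-- MODULE CS of board #2418, exact statement. -/
theorem CS {K : Type*} [Group K] [Finite K] {p : ℕ} [Fact p.Prime] (Q : Subgroup K)
    (hQc : Q ≤ Subgroup.center K) (hQ : Nat.card Q = p) (hidx : ¬ p ∣ Q.index) :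
    ∃ π : K →* Q, (∀ q : Q, π (q : K) = q) ∧ (∀ s : K, ¬ p ∣ orderOf s → π s = 1) ∧
      (∀ s : K, π s = 1 → ¬ p ∣ orderOf s) := by
  classical
  have hp : p.Prime := Fact.out
  have : Fact (Nat.card Q).Prime := ⟨hQ ▸ hp⟩
  have : IsCyclic Q := isCyclic_of_prime_card (p := Nat.card Q) rfl
  let _ : CommGroup Q := IsCyclic.commGroup
  have key : ∀ (g : K) (k : ℕ) (g₀ : K), g₀⁻¹ * g ^ k * g₀ ∈ Q → g₀⁻¹ * g ^ k * g₀ = g ^ k := by
    intro g k g₀ h
    have hc := Subgroup.mem_center_iff.1 (hQc h) g₀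
    -- hc : g₀ * (g₀⁻¹ * g ^ k * g₀) = (g₀⁻¹ * g ^ k * g₀) * g₀
    have : g₀ * (g₀⁻¹ * g ^ k * g₀) = g ^ k * g₀ := by group
    rw [this] at hc
    exact (mul_right_cancel hc).symm
  have hcop : Nat.Coprime Q.index p := ((Nat.Prime.coprime_iff_not_dvd hp).2 hidx).symm
  obtain ⟨m, -, hm⟩ := Nat.exists_mul_mod_eq_one_of_coprime hcop hp.one_lt
  let τ : K →* Q := MonoidHom.transfer (MonoidHom.id Q)
  let π : K →* Q := (powMonoidHom m).comp τ
  have hτ : ∀ s : K, ((τ s : Q) : K) = s ^ Q.index := by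
    intro s
    have := MonoidHom.transfer_eq_pow (MonoidHom.id Q) s (key s)
    change τ s = _ at this
    rw [this]; rfl
  have hπ : ∀ s : K, ((π s : Q) : K) = s ^ (Q.index * m) := by
    intro s
    change (((τ s) ^ m : Q) : K) = _
    rw [Subgroup.coe_pow, hτ, pow_mul]
  have hmod : Q.index * m ≡ 1 [MOD p] := by
    unfold Nat.ModEq
    rw [hm, Nat.mod_eq_of_lt hp.one_lt]
  have hQpow : ∀ q : Q, (q : K) ^ p = 1 := by
    intro q
    have : q ^ p = 1 := by rw [← hQ]; exact pow_card_eq_one'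
    have := congrArg (fun x : Q => (x : K)) this
    simpa using this
  refine ⟨π, ?_, ?_, ?_⟩
  · intro q
    apply Subtype.ext
    rw [hπ]
    have hord : orderOf (q : K) ∣ p := orderOf_dvd_of_pow_eq_one (hQpow q)
    have : (q : K) ^ (Q.index * m) = (q : K) ^ 1 :=
      pow_eq_pow_iff_modEq.2 (hmod.of_dvd hord)
    rw [this, pow_one]
  · intro s hs
    apply Subtype.ext
    rw [hπ, Subgroup.coe_one]
    set w : K := s ^ (Q.index * m) with hw
    have hwQ : w ^ p = 1 := by
      have := hQpow (π s)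
      rwa [hπ] at this
    have hws : w ^ orderOf s = 1 := by
      rw [hw, ← pow_mul, mul_comm, pow_mul, pow_orderOf_eq_one, one_pow]
    have h1 : orderOf w ∣ p := orderOf_dvd_of_pow_eq_one hwQ
    have h2 : orderOf w ∣ orderOf s := orderOf_dvd_of_pow_eq_one hws
    have hc : Nat.Coprime p (orderOf s) := (Nat.Prime.coprime_iff_not_dvd hp).2 hs
    have : orderOf w ∣ 1 := by
      have := Nat.dvd_gcd h1 h2
      rwa [hc.gcd_eq_one] at this
    exact orderOf_eq_one_iff.1 (Nat.dvd_one.1 this)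
  · intro s hs hps
    have h1 : s ^ (Q.index * m) = 1 := by
      have := congrArg (fun x : Q => (x : K)) hs
      simpa [hπ] using this
    have h2 : orderOf s ∣ Q.index * m := orderOf_dvd_of_pow_eq_one h1
    have h3 : p ∣ Q.index * m := hps.trans h2
    have h4 : (Q.index * m) % p = 0 := Nat.mod_eq_zero_of_dvd h3
    rw [hm] at h4
    exact one_ne_zero h4

end Cfsg.Agent.Lib.Helper59.DefOneCS
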