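import Mathlib
import Cfsg.Agent.Lib.Helper58.PFNineDefs
import Cfsg.Agent.Lib.Helper78.CharOrtho
import Cfsg.Agent.S1513

/-!
# Peterfalvi section 9, character part: module [G3a] of helper58 #2851

`Ind_K^L θ` is irreducible iff `θ` is not `W₁`-invariant; if `θ` is `W₁`-invariant, `Ind_K^L θ` has
norm `q` (it is the sum of `q` distinct irreducible characters).  This is the frozen S1513 read in
the context `Ctx`.
-/

set_option autoImplicit false

namespace Cfsg.Agent.Lib.Helper59.PF9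

open Cfsg Cfsg.Agent.Lib.Helper58.PF9
open scoped ComplexConjugate

universe u

variable {L : Type u} [Group L] [Fintype L] {K H U W₁ W₂ H₀ : Subgroup L} {p q : ℕ}

/-- the norm of a sum of distinct irreducible characters is their number -/
theorem classInner_sum_irr_self (C : Finset (L → ℂ)) (hC : ∀ μ ∈ C, IsIrrCharacter L μ) :
    classInner (∑ μ ∈ C, μ) (∑ μ ∈ C, μ) = (C.card : ℂ) := by
  classical
  rw [Cfsg.Agent.Lib.Helper78.classInner_sum_left]
  have h1 : ∀ μ ∈ C, classInner μ (∑ ν ∈ C, ν) = 1 := by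
    intro μ hμ
    rw [← Cfsg.Agent.Lib.Helper78.classInner_conj_symm,
      Cfsg.Agent.Lib.Helper78.classInner_sum_left, Finset.sum_eq_single μ]
    · rw [Cfsg.Agent.Lib.Helper78.classInner_irr_self (hC μ hμ), map_one]
    · intro ν hν hne
      exact Cfsg.Agent.Lib.Helper78.classInner_irr_ne (hC ν hν) (hC μ hμ) hne
    · intro h; exact absurd hμ h
  rw [Finset.sum_congr rfl h1]
  simp

/-- The hypotheses of the frozen S1513 hold in the context `Ctx`. -/
theorem s1513_of_ctx (c : Ctx K H U W₁ W₂ H₀ p q) :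
    (∀ θ : ↥K → ℂ, IsIrrCharacter ↥K θ → ¬ IsW1Inv K W₁ c.K_normal θ →
        IsIrrCharacter L (indFun K θ)) ∧
      (∀ θ : ↥K → ℂ, IsIrrCharacter ↥K θ → IsW1Inv K W₁ c.K_normal θ →
        ∃ C : Finset (L → ℂ), C.card = q ∧ (∀ μ ∈ C, IsIrrCharacter L μ) ∧
          indFun K θ = ∑ μ ∈ C, μ) := by
  have hK : K.Normal := c.K_normal
  have hq : q.Prime := c.q_prime
  have hW₁ne : W₁ ≠ ⊥ := by
    intro h
    have := c.card_W₁
    rw [h, Subgroup.card_bot] at this
    exact hq.one_lt.ne this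
  have hW₁c : IsCyclic ↥W₁ := by
    have : Fact q.Prime := ⟨hq⟩
    exact isCyclic_of_prime_card (p := q) c.card_W₁
  have hcompl : Subgroup.IsComplement' K W₁ :=
    Subgroup.isComplement'_of_disjoint_and_mul_eq_univ (disjoint_iff.2 c.KW_inf) (by
      have h1 := Subgroup.normal_mul K W₁
      rw [c.KW_sup] at h1
      rw [← h1]; rfl)
  have hidx : W₁.index = Nat.card ↥K := hcompl.index_eq_card
  have hHall : Nat.Coprime (Nat.card ↥W₁) W₁.index := by
    rw [c.card_W₁, hidx]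
    exact c.coprime_q.symm
  have hW₂ne : W₂ ≠ ⊥ := by
    intro h
    have := c.relIndex_W₂
    rw [h] at this
    have h2 : (H₀ ⊓ (⊥ : Subgroup L)).relIndex ⊥ = 1 := by
      simp
    rw [h2] at this
    exact c.p_prime.one_lt.ne this
  have hHK : H ≤ K := by
    rw [← c.HU_sup]; exact le_sup_left
  have hW₂K : W₂ ≤ K := c.W₂_le.trans hHK
  have hodd : Odd (Nat.card ↥(W₁ ⊔ W₂)) := by
    have hdvd : Nat.card ↥(W₁ ⊔ W₂) ∣ Nat.card L := Subgroup.card_subgroup_dvd_card _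
    exact Odd.of_dvd_nat c.odd hdvd
  have h := Cfsg.Agent.S1513.result (hK := hK) K W₁ W₂ c.KW_inf c.KW_sup hW₁ne hW₁c hHall hW₂ne
    c.W₂_cyclic hW₂K c.cent hodd
  refine ⟨?_, ?_⟩
  · intro θ hθ hninv
    apply h.1 θ hθ
    unfold IsW1Inv at hninv
    push Not at hninv
    exact hninv
  · intro θ hθ hinv
    obtain ⟨C, hCcard, hCirr, hCsum⟩ := h.2.2 θ hθ hinv
    exact ⟨C, by rw [hCcard, c.card_W₁], hCirr, hCsum⟩

theorem irr_iff_not_W1Inv (c : Ctx K H U W₁ W₂ H₀ p q) (N : Subgroup L) {θ : ↥K → ℂ}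
    (hθ : θ ∈ Xset K H N) :
    (IsIrrCharacter L (indFun K θ) ↔ ¬ IsW1Inv K W₁ c.K_normal θ) ∧
      (IsW1Inv K W₁ c.K_normal θ → classInner (indFun K θ) (indFun K θ) = (q : ℂ)) := by
  obtain ⟨h1, h2⟩ := s1513_of_ctx c
  have hirr : IsIrrCharacter ↥K θ := hθ.1
  have hnorm : IsW1Inv K W₁ c.K_normal θ → classInner (indFun K θ) (indFun K θ) = (q : ℂ) := by
    intro hinv
    obtain ⟨C, hCcard, hCirr, hCsum⟩ := h2 θ hirr hinv
    rw [hCsum, classInner_sum_irr_self C hCirr, hCcard]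
  refine ⟨⟨?_, fun hn => h1 θ hirr hn⟩, hnorm⟩
  intro hI hinv
  have e1 := hnorm hinv
  rw [Cfsg.Agent.Lib.Helper78.classInner_irr_self hI] at e1
  have : (q : ℂ) = 1 := e1.symm
  have hq1 : q = 1 := by exact_mod_cast this
  exact c.q_prime.one_lt.ne' hq1

end Cfsg.Agent.Lib.Helper59.PF9
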