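import Mathlib
import Cfsg.Agent.Lib.Helper58.PFNineDefs
import Cfsg.Agent.Lib.Helper75.IndNormal
import Cfsg.Agent.Lib.Helper77.Deflation

/-!
# Peterfalvi section 9, character part: module [SB] of helper58 #2851 (basics of `Sbook`)
-/

set_option autoImplicit false

namespace Cfsg.Agent.Lib.Helper59.PF9

open Cfsg Cfsg.Agent.Lib.Helper58.PF9
open scoped ComplexConjugate

universe u

variable {L : Type u} [Group L] [Fintype L] {K H U W₁ W₂ H₀ : Subgroup L} {p q : ℕ}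

omit [Fintype L] in
/-- complex conjugation commutes with extension by zero -/
theorem extendByZero_conj (θ : ↥K → ℂ) (y : L) :
    extendByZero K (conjFun θ) y = conj (extendByZero K θ y) := by
  by_cases hy : y ∈ K
  · rw [Cfsg.Agent.Lib.Helper75.extendByZero_of_mem K _ hy,
      Cfsg.Agent.Lib.Helper75.extendByZero_of_mem K _ hy]
    rfl
  · rw [Cfsg.Agent.Lib.Helper75.extendByZero_of_not_mem K _ hy,
      Cfsg.Agent.Lib.Helper75.extendByZero_of_not_mem K _ hy, map_zero]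

/-- complex conjugation commutes with induction -/
theorem conjFun_indFun' (θ : ↥K → ℂ) : conjFun (indFun K θ) = indFun K (conjFun θ) := by
  funext g
  unfold conjFun indFun
  rw [map_mul, map_inv₀, Complex.conj_natCast, map_sum]
  congr 1
  apply Finset.sum_congr rfl
  intro x _
  exact (extendByZero_conj θ _).symm

omit [Fintype L] in
theorem conjFun_mem_Xset (N : Subgroup L) {θ : ↥K → ℂ} (hθ : θ ∈ Xset K H N) :
    conjFun θ ∈ Xset K H N := by
  obtain ⟨h1, h2, h, hh, hne⟩ := hθ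
  refine ⟨Cfsg.Agent.Lib.Helper81.isIrrCharacter_conj h1, ?_, h, hh, ?_⟩
  · intro a ha
    show conj (θ a) = conj (θ 1)
    rw [h2 a ha]
  · intro hc
    apply hne
    have : conj (θ h) = conj (θ 1) := hc
    exact (starRingEnd ℂ).injective this

theorem Sbook_eq_diff (hK : K.Normal) (hH : H.Normal) (hHK : H ≤ K) (N : Subgroup L)
    (hN : N.Normal) :
    Sbook K H N = inducedIrrAbove K N \ inducedIrrAbove K (H ⊔ N) := by
  ext φ
  constructor
  · rintro ⟨θ, ⟨h1, h2, h, hh, hne⟩, rfl⟩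
    refine ⟨⟨θ, h1, ?_, h2, rfl⟩, ?_⟩
    · intro hc
      apply hne
      rw [hc]
    · rintro ⟨θ', h1', -, h2', heq⟩
      apply hne
      have hchar : IsCharacter ↥K θ := Cfsg.Agent.Lib.Helper78.IsIrrCharacter.isCharacter h1
      apply Cfsg.Agent.Lib.Helper75.eq_of_indFun_eq K hchar h
      rw [heq]
      exact Cfsg.Agent.Lib.Helper75.indFun_eq_of_forall_eq K H hHK θ'
        (fun a ha => h2' a (Subgroup.mem_sup_left ha)) (h : L) hh
  · rintro ⟨⟨θ, h1, hne1, h2, rfl⟩, hnot⟩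
    refine ⟨θ, ⟨h1, h2, ?_⟩, rfl⟩
    by_contra hcon
    push Not at hcon
    apply hnot
    refine ⟨θ, h1, hne1, ?_, rfl⟩
    have hchar : IsCharacter ↥K θ := Cfsg.Agent.Lib.Helper78.IsIrrCharacter.isCharacter h1
    obtain ⟨Kθ, -, hKθ, -, -⟩ := Cfsg.Agent.Lib.Helper77.exists_kernel hchar
    intro a ha
    have ha' : (a : L) ∈ (↑(H ⊔ N) : Set L) := ha
    rw [Subgroup.mul_normal H N] at ha'
    obtain ⟨h, hh, n, hn, hhn⟩ := ha'
    have hhK : h ∈ K := hHK hh
    have hnK : n ∈ K := by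
      have : n = h⁻¹ * (a : L) := by
        rw [← hhn]; simp
      rw [this]
      exact K.mul_mem (K.inv_mem hhK) a.2
    have e : a = (⟨h, hhK⟩ : ↥K) * ⟨n, hnK⟩ := Subtype.ext hhn.symm
    rw [← hKθ, e]
    exact Kθ.mul_mem ((hKθ _).2 (hcon ⟨h, hhK⟩ hh)) ((hKθ _).2 (h2 ⟨n, hnK⟩ hn))

theorem Sbook_anti (N N' : Subgroup L) (h : N ≤ N') : Sbook K H N' ⊆ Sbook K H N := by
  rintro _ ⟨θ, ⟨h1, h2, h3⟩, rfl⟩
  exact ⟨θ, ⟨h1, fun a ha => h2 a (h ha), h3⟩, rfl⟩

theorem conjFun_mem_Sbook (N : Subgroup L) {φ : L → ℂ} (hφ : φ ∈ Sbook K H N) :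
    conjFun φ ∈ Sbook K H N := by
  obtain ⟨θ, hθ, rfl⟩ := hφ
  exact ⟨conjFun θ, conjFun_mem_Xset N hθ, (conjFun_indFun' θ).symm⟩

theorem Xset_finite (N : Subgroup L) : (Xset K H N).Finite := by
  have hfin : Finite (IrrCharacter ↥K) := Cfsg.Agent.Lib.Helper78.instFiniteIrrCharacter
  have h1 : ({θ : ↥K → ℂ | IsIrrCharacter ↥K θ}).Finite := Set.finite_coe_iff.mp hfin
  exact h1.subset (fun θ hθ => hθ.1)

theorem Sbook_finite (N : Subgroup L) : (Sbook K H N).Finite :=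
  (Xset_finite N).image _

end Cfsg.Agent.Lib.Helper59.PF9
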