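import Mathlib
import Cfsg.Agent.Lib.Helper58.PFNineDefs
import Cfsg.Agent.Lib.Helper4.PFNineA
import Cfsg.Agent.Lib.Helper26.PFEightC
import Cfsg.Agent.Lib.Helper59.PFNineN12
import Cfsg.Agent.Lib.Helper62.PFNineN3

/-!
# Peterfalvi section 9, character part: module [BR] of helper58 #2851

The bridge from type-P data of a subgroup `M ≤ G` (plus the outputs of the group modules N2/N3:
the chief factor `H/H₀`) to the abstract context `Ctx` inside the group `L = ↥M`.
-/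

set_option autoImplicit false

namespace Cfsg.Agent.Lib.Helper59.PF9

open Cfsg Cfsg.Agent.Lib.Helper58.PF9 Cfsg.Agent.Lib.Helper4.PF9
open scoped commutatorElement

variable {G : Type*} [Group G]

/-- transport of cardinality along `subgroupOf` -/
theorem card_subgroupOf_of_le {A M : Subgroup G} (h : A ≤ M) :
    Nat.card ↥(A.subgroupOf M) = Nat.card ↥A :=
  Nat.card_congr (Subgroup.subgroupOfEquivOfLe h).toEquiv

theorem subgroupOf_inf' (A B M : Subgroup G) :
    (A ⊓ B).subgroupOf M = A.subgroupOf M ⊓ B.subgroupOf M := by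
  ext x
  simp [Subgroup.mem_subgroupOf]

/-- The abstract context of Peterfalvi (9.8)-(9.11) inside `L = ↥M`, from type-P data and the
conclusions of the group modules N2 (`h1`, `h2`) and N3 (`hp`, `hidx`, `hW₂`, `hcomm`, `hpow`,
`hnc`). -/
theorem ctx_of_typeP [Finite G] {M W₁ U W₂ : Subgroup G} (hP : IsTypePWith M W₁ U W₂)
    (hq : (Nat.card W₁).Prime) (hodd : Odd (Nat.card G)) (H₀ : Subgroup G) (p : ℕ)
    (h1 : H₀ < fittingHallOf M) (h2 : M ≤ Subgroup.normalizer (H₀ : Set G)) (hp : p.Prime)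
    (hidx : H₀.relIndex (fittingHallOf M) = p ^ Nat.card W₁)
    (hW₂ : (H₀ ⊓ W₂).relIndex W₂ = p)
    (hcomm : ⁅fittingHallOf M, fittingHallOf M⁆ ≤ H₀)
    (hpow : ∀ h ∈ fittingHallOf M, h ^ p ∈ H₀) (hnc : ¬ ⁅U, fittingHallOf M⁆ ≤ H₀) :
    Ctx ((⁅M, M⁆).subgroupOf M) ((fittingHallOf M).subgroupOf M) (U.subgroupOf M)
      (W₁.subgroupOf M) (W₂.subgroupOf M) (H₀.subgroupOf M) p (Nat.card W₁) := by
  have hKM : ⁅M, M⁆ ≤ M := der_le hP
  have hHM : fittingHallOf M ≤ M := fittingHallOf_le M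
  have hHK : fittingHallOf M ≤ ⁅M, M⁆ := H_le_der hP
  have hUK : U ≤ ⁅M, M⁆ := U_le_der hP
  have hUM : U ≤ M := U_le hP
  have hW₁M : W₁ ≤ M := W₁_le hP
  have hW₂H : W₂ ≤ fittingHallOf M := W₂_le_H hP
  have hW₂M : W₂ ≤ M := hW₂H.trans hHM
  have hH₀H : H₀ ≤ fittingHallOf M := h1.le
  have hH₀M : H₀ ≤ M := hH₀H.trans hHM
  refine
    { K_normal := ?_, H_normal := ?_, H₀_normal := ?_, H₀_le := ?_, HU_inf := ?_, HU_sup := ?_,
      KW_inf := ?_, KW_sup := ?_, W₁_norm_U := ?_, p_prime := hp, q_prime := hq, card_W₁ := ?_,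
      odd := ?_, coprime_HU := ?_, coprime_q := ?_, W₂_le := ?_, W₂_cyclic := ?_, cent := ?_,
      U_nilpotent := ?_, comm_le := ?_, pow_mem := ?_, relIndex_H₀ := ?_, relIndex_W₂ := ?_,
      not_cent := ?_ }
  · -- K normal
    rw [Subgroup.normal_subgroupOf_iff_le_normalizer hKM]
    intro m hm
    rw [Subgroup.mem_normalizer_iff]
    intro x
    constructor
    · intro hx
      exact Cfsg.Agent.Lib.Helper23.conj_mem_commutator_self M hm hx
    · intro hx
      have := Cfsg.Agent.Lib.Helper23.conj_mem_commutator_self M (M.inv_mem hm) hx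
      have e : m⁻¹ * (m * x * m⁻¹) * m⁻¹⁻¹ = x := by group
      rwa [e] at this
  · -- H normal
    rw [Subgroup.normal_subgroupOf_iff_le_normalizer hHM]
    intro m hm
    rw [Subgroup.mem_normalizer_iff]
    intro x
    constructor
    · intro hx
      exact conj_mem_fittingHallOf M hm hx
    · intro hx
      have := conj_mem_fittingHallOf M (M.inv_mem hm) hx
      have e : m⁻¹ * (m * x * m⁻¹) * m⁻¹⁻¹ = x := by group
      rwa [e] at this
  · -- H₀ normal
    exact (Subgroup.normal_subgroupOf_iff_le_normalizer hH₀M).2 h2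
  · -- H₀ ≤ H
    intro x hx
    exact hH₀H hx
  · -- H ⊓ U = ⊥
    rw [← subgroupOf_inf', H_inf_U hP, Subgroup.bot_subgroupOf]
  · -- H ⊔ U = K
    rw [← Subgroup.subgroupOf_sup hHM hUM]
    congr 1
    apply le_antisymm (sup_le hHK hUK)
    intro m hm
    obtain ⟨a, ha, b, hb, rfl⟩ := hP.U_compl.2.2.2 m hm
    exact Subgroup.mul_mem_sup ha hb
  · -- K ⊓ W₁ = ⊥
    rw [← subgroupOf_inf', der_inf_W₁ hP, Subgroup.bot_subgroupOf]
  · -- K ⊔ W₁ = ⊤
    rw [← Subgroup.subgroupOf_sup hKM hW₁M, Subgroup.subgroupOf_eq_top]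
    intro m hm
    obtain ⟨a, ha, b, hb, rfl⟩ := hP.W₁_compl.2.2.2 m hm
    exact Subgroup.mul_mem_sup ha hb
  · -- W₁ normalizes U
    rw [← Subgroup.subgroupOf_normalizer_eq hUM]
    intro x hx
    exact hP.U_normal hx
  · -- card W₁
    exact card_subgroupOf_of_le hW₁M
  · -- odd
    exact Odd.of_dvd_nat hodd (Subgroup.card_subgroup_dvd_card M)
  · -- coprime H U
    rw [card_subgroupOf_of_le hHM, card_subgroupOf_of_le hUM]
    exact (Cfsg.Agent.Lib.Helper23.typeP_coprime hP).1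
  · -- coprime K q
    rw [card_subgroupOf_of_le hKM]
    have h3 := hP.W₁_hall
    rw [Cfsg.Agent.Lib.Helper26.PFEight.relIndex_of_isComplIn hP.W₁_compl] at h3
    exact h3.symm
  · -- W₂ ≤ H
    intro x hx
    exact hW₂H hx
  · -- W₂ cyclic
    have hc : IsCyclic ↥(W₁ ⊔ W₂) := hP.selfNormalizing.2.2.2.2.1
    have hc2 : IsCyclic ↥W₂ := Subgroup.isCyclic_of_le (le_sup_right : W₂ ≤ W₁ ⊔ W₂)
    exact isCyclic_of_surjective (Subgroup.subgroupOfEquivOfLe hW₂M).symm
      (Subgroup.subgroupOfEquivOfLe hW₂M).symm.surjective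
  · -- centralizers
    intro x hx hx1
    have hxW : (x : G) ∈ W₁ := hx
    have hx1' : (x : G) ≠ 1 := fun h => hx1 (Subtype.ext h)
    have hc := hP.W₂_centralizer (x : G) hxW hx1'
    ext y
    rw [Subgroup.mem_inf, Subgroup.mem_subgroupOf, Subgroup.mem_subgroupOf, ← hc,
      Subgroup.mem_inf, Subgroup.mem_centralizer_iff, Subgroup.mem_centralizer_iff]
    constructor
    · rintro ⟨hy1, hy2⟩
      refine ⟨hy1, ?_⟩
      intro z hz
      rw [Set.mem_singleton_iff] at hz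
      rw [hz]
      have := hy2 x rfl
      exact congrArg Subtype.val this
    · rintro ⟨hy1, hy2⟩
      refine ⟨hy1, ?_⟩
      intro z hz
      rw [Set.mem_singleton_iff] at hz
      rw [hz]
      exact Subtype.ext (hy2 (x : G) rfl)
  · -- U nilpotent
    have : Group.IsNilpotent ↥U := hP.U_nilpotent
    exact Subgroup.isNilpotent_of_ker_le_center (Subgroup.subgroupOfEquivOfLe hUM).toMonoidHom
      (by
        rw [(MonoidHom.ker_eq_bot_iff _).2 (Subgroup.subgroupOfEquivOfLe hUM).injective]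
        exact bot_le)
  · -- [H,H] ≤ H₀
    rw [Subgroup.commutator_le]
    intro a ha b hb
    rw [Subgroup.mem_subgroupOf]
    have : (⁅a, b⁆ : ↥M).1 = ⁅(a : G), (b : G)⁆ := by
      simp [commutatorElement_def]
    rw [this]
    exact hcomm (Subgroup.commutator_mem_commutator ha hb)
  · -- p-th powers
    intro h hh
    rw [Subgroup.mem_subgroupOf]
    have : ((h ^ p : ↥M) : G) = (h : G) ^ p := by simp
    rw [this]
    exact hpow _ hh
  · -- |H : H₀|
    rw [Subgroup.relIndex_subgroupOf hHM, hidx]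
  · -- |W₂ : W₂ ∩ H₀|
    rw [← subgroupOf_inf', Subgroup.relIndex_subgroupOf hW₂M, hW₂]
  · -- U does not centralize H/H₀
    intro hle
    apply hnc
    rw [Subgroup.commutator_le]
    intro u hu h hh
    have h3 : ⁅(⟨u, hUM hu⟩ : ↥M), (⟨h, hHM hh⟩ : ↥M)⁆ ∈ H₀.subgroupOf M :=
      hle (Subgroup.commutator_mem_commutator (show (⟨u, hUM hu⟩ : ↥M) ∈ U.subgroupOf M from hu)
        (show (⟨h, hHM hh⟩ : ↥M) ∈ (fittingHallOf M).subgroupOf M from hh))
    rw [Subgroup.mem_subgroupOf] at h3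
    have : (⁅(⟨u, hUM hu⟩ : ↥M), (⟨h, hHM hh⟩ : ↥M)⁆ : ↥M).1 = ⁅u, h⁆ := by
      simp [commutatorElement_def]
    rwa [this] at h3

/-- One-stop version: N2 (`Helper59.PFNine.exists_Fcore_kernel`) and N3
(`Helper62.PF9.Fcore_factor_facts`) discharged; the chief factor `H/H₀` and its prime `p` are
produced together with the context. -/
theorem exists_ctx_of_typeP [Finite G] {M W₁ U W₂ : Subgroup G} (hP : IsTypePWith M W₁ U W₂)
    (hU : U ≠ ⊥) (hq : (Nat.card W₁).Prime) (hodd : Odd (Nat.card G)) :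
    ∃ (H₀ : Subgroup G) (p : ℕ), H₀ < fittingHallOf M ∧ M ≤ Subgroup.normalizer (H₀ : Set G) ∧
      fittingHallOf M ⊓ Subgroup.centralizer (U : Set G) ≤ H₀ ∧
      (∀ N : Subgroup G, H₀ ≤ N → N ≤ fittingHallOf M → M ≤ Subgroup.normalizer (N : Set G) →
        N = H₀ ∨ N = fittingHallOf M) ∧
      Ctx ((⁅M, M⁆).subgroupOf M) ((fittingHallOf M).subgroupOf M) (U.subgroupOf M)
        (W₁.subgroupOf M) (W₂.subgroupOf M) (H₀.subgroupOf M) p (Nat.card W₁) := by
  obtain ⟨H₀, h1, h2, h3, h4⟩ := Cfsg.Agent.Lib.Helper59.PFNine.exists_Fcore_kernel hP hU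
  obtain ⟨p, hp, hidx, hW₂, hcomm, hpow, hnc⟩ :=
    Cfsg.Agent.Lib.Helper62.PF9.Fcore_factor_facts hP hU H₀ h1 h2 h3 h4
  exact ⟨H₀, p, h1, h2, h3, h4, ctx_of_typeP hP hq hodd H₀ p h1 h2 hp hidx hW₂ hcomm hpow hnc⟩

end Cfsg.Agent.Lib.Helper59.PF9
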