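import Mathlib
import Cfsg.Agent.Lib.Helper4.PFTypes
import Cfsg.Agent.Lib.Helper26.PFEightB
import Cfsg.Agent.Lib.Helper22.PPrimeCore

/-!
# PF bridge modules BR1, BR2, BR3 (helper4, board #2521)

The frozen Type I implies the book Type I `LitTypeI`; for a subgroup of frozen Type I or with
type-P data the book sets `litA`, `litA0` agree with the frozen `typeA`, `typeA0`.
-/

set_option autoImplicit false

namespace Cfsg.Agent.Lib.Helper59.PFBridge

open Cfsg Cfsg.Agent.Lib.Helper4.PF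

variable {G : Type*} [Group G] [Finite G] (M : Subgroup G)

/-- `O_{p'}(M_F)` is cyclic as soon as `O_{p'}(M)` is. -/
theorem isCyclic_pPrimeCore_fittingHallOf (p : ℕ) (h : IsCyclic (pPrimeCore p ↥M)) :
    IsCyclic (pPrimeCore p ↥(fittingHallOf M)) := by
  -- inside `M`: `O_{p'}(M_F) ≤ O_{p'}(M)`
  have h1 : (pPrimeCore p ↥(fittingHall ↥M)).map (fittingHall ↥M).subtype ≤ pPrimeCore p ↥M :=
    Cfsg.Agent.Lib.Helper22.pPrimeCore_map_subtype_le_of_normal p (fittingHall ↥M)
  have h2 : IsCyclic ↥((pPrimeCore p ↥(fittingHall ↥M)).map (fittingHall ↥M).subtype) :=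
    Subgroup.isCyclic_of_le h1
  have h3 : IsCyclic ↥(pPrimeCore p ↥(fittingHall ↥M)) := by
    let e := (pPrimeCore p ↥(fittingHall ↥M)).equivMapOfInjective (fittingHall ↥M).subtype
      (fittingHall ↥M).subtype_injective
    exact isCyclic_of_surjective e.symm e.symm.surjective
  -- transport along `fittingHall ↥M ≃* fittingHallOf M`
  let f : ↥(fittingHall ↥M) ≃* ↥(fittingHallOf M) :=
    (fittingHall ↥M).equivMapOfInjective M.subtype M.subtype_injective
  have h4 : (pPrimeCore p ↥(fittingHall ↥M)).map f.toMonoidHom = pPrimeCore p ↥(fittingHallOf M) :=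
    Cfsg.Agent.Lib.Helper22.pPrimeCore_map_mulEquiv p f
  rw [← h4]
  let e' := (pPrimeCore p ↥(fittingHall ↥M)).equivMapOfInjective f.toMonoidHom f.injective
  exact isCyclic_of_surjective e' e'.surjective

/-- (BR1) the frozen Type I implies the book Type I. -/
theorem litTypeI_of_isOfTypeI : IsOfTypeI M → LitTypeI M := by
  rintro ⟨hF, h⟩
  refine ⟨hF, ?_⟩
  rcases h with h | h | ⟨h1, p, hp, hpd, hc⟩
  · exact Or.inl h
  · exact Or.inr (Or.inl h)
  · exact Or.inr (Or.inr ⟨h1, p, hp, hpd, isCyclic_pPrimeCore_fittingHallOf M p hc⟩)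

/-- a subgroup of Frobenius type carries no type-P data -/
theorem not_isOfTypeP_of_isOfTypeF (hF : IsOfTypeF ↥M) : ¬ IsOfTypeP M := by
  rintro ⟨W₁, U, W₂, hP⟩
  exact Cfsg.Agent.Lib.Helper26.PFEight.not_typeF_of_typeP hF hP

/-- (BR2) for `M` of frozen Type I the book sets agree with the frozen ones. -/
theorem lit_eq_of_isOfTypeI (h : IsOfTypeI M) :
    ¬ IsOfTypeP M ∧ litA M = typeA M ∧ litA0 M = typeA0 M := by
  have hP : ¬ IsOfTypeP M := not_isOfTypeP_of_isOfTypeF M h.1
  have hA : litA M = typeA M := by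
    unfold litA typeA
    rw [if_neg hP, if_pos h]
  refine ⟨hP, hA, ?_⟩
  unfold litA0 typeA0
  rw [hA]
  congr 1
  ext v
  simp only [Set.mem_ofPred_eq]
  constructor
  · rintro ⟨W₁, U, W₂, hW, -⟩
    exact absurd ⟨W₁, U, W₂, hW⟩ hP
  · rintro ⟨hn, -⟩
    exact absurd h hn

/-- (BR3) for `M` with type-P data the book sets agree with the frozen ones, and `M` is neither of
frozen Type I nor of book Type I. -/
theorem lit_eq_of_isOfTypeP (h : IsOfTypeP M) :
    ¬ IsOfTypeI M ∧ ¬ LitTypeI M ∧ litA M = typeA M ∧ litA0 M = typeA0 M := by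
  have hI : ¬ IsOfTypeI M := fun hI => not_isOfTypeP_of_isOfTypeF M hI.1 h
  have hL : ¬ LitTypeI M := fun hL => not_isOfTypeP_of_isOfTypeF M hL.1 h
  have hA : litA M = typeA M := by
    unfold litA typeA
    rw [if_pos h, if_neg hI]
  refine ⟨hI, hL, hA, ?_⟩
  unfold litA0 typeA0
  rw [hA]
  congr 1
  ext v
  simp only [Set.mem_ofPred_eq]
  constructor
  · intro hv
    exact ⟨hI, hv⟩
  · rintro ⟨-, hv⟩
    exact hv

end Cfsg.Agent.Lib.Helper59.PFBridge
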