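import Mathlib
import Cfsg.Agent.Lib.Helper64.PFElevenStruct
import Cfsg.Agent.Lib.Helper59.PFNineBR

/-!
# PF sec.11 end game, module [CTX34] of helper64's sheet #2 (helper59)

`ctx34_of`: from the group-side record `Struct34 M W₁ U W₂` the sec.9 context `Ctx34` of `↥M` with
`H₀ = ⊥`, the identification `C_U(H) = U'` inside `↥M`, and the chief property of `H`.
-/

set_option autoImplicit false

namespace Cfsg.Agent.Lib.Helper59.PF11

open Cfsg Cfsg.Agent.Lib.Helper24.PFCyc Cfsg.Agent.Lib.Helper4.PF Cfsg.Agent.Lib.Helper58.PF9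
open Cfsg.Agent.Lib.Helper64.PF11

universe u

variable {G : Type u} [Group G] [Fintype G] {M W₁ U W₂ : Subgroup G} [Fintype M]

/-! ### MODULE [CTX34] -/

theorem ctx34_of (S : Struct34 M W₁ U W₂) :
    Ctx34 M W₁ U W₂ ∧
    coreC (U.subgroupOf M) ((fittingHallOf M).subgroupOf M) ⊥ = (⁅U, U⁆).subgroupOf M ∧
    ⁅U.subgroupOf M, U.subgroupOf M⁆ = (⁅U, U⁆).subgroupOf M ∧
    (∀ N : Subgroup ↥M, N.Normal → N ≤ (fittingHallOf M).subgroupOf M →
      N = ⊥ ∨ N = (fittingHallOf M).subgroupOf M) := by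
  classical
  have hHM : fittingHallOf M ≤ M := Cfsg.Agent.Lib.Helper4.PF9.fittingHallOf_le M
  have hUM : U ≤ M := Cfsg.Agent.Lib.Helper4.PF9.U_le S.hP
  have hp := S.hp
  have hq := S.hq
  -- the chief factor `H/H₀` of sec.9
  obtain ⟨H₀, p', h1, h2, h3, h4, c⟩ :=
    Cfsg.Agent.Lib.Helper59.PF9.exists_ctx_of_typeP S.hP S.hU S.hq S.hodd
  -- `H₀ = ⊥` and `p' = p` by orders
  have hrel : H₀.relIndex (fittingHallOf M) = p' ^ Nat.card W₁ := by
    have := c.relIndex_H₀
    rwa [Subgroup.relIndex_subgroupOf hHM] at this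
  have hmul : Nat.card H₀ * H₀.relIndex (fittingHallOf M) = Nat.card (fittingHallOf M) := by
    have := Subgroup.relIndex_mul_relIndex ⊥ H₀ (fittingHallOf M) bot_le h1.le
    rwa [Subgroup.relIndex_bot_left, Subgroup.relIndex_bot_left] at this
  rw [hrel, S.hHcard] at hmul
  have hp'p : p' = Nat.card W₂ := by
    have hdvd : p' ∣ Nat.card W₂ ^ Nat.card W₁ := by
      rw [← hmul]
      exact Dvd.dvd.mul_left (dvd_pow_self p' hq.ne_zero) _
    exact (Nat.prime_dvd_prime_iff_eq c.p_prime hp).mp (c.p_prime.dvd_of_dvd_pow hdvd)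
  subst hp'p
  have hcard0 : Nat.card H₀ = 1 := by
    have hpos : 0 < Nat.card W₂ ^ Nat.card W₁ := pow_pos hp.pos _
    exact Nat.eq_of_mul_eq_mul_right hpos (by rw [hmul, one_mul])
  have hH₀ : H₀ = ⊥ := (Subgroup.card_eq_one).mp hcard0
  subst hH₀
  have hbot : (⊥ : Subgroup G).subgroupOf M = ⊥ := Subgroup.bot_subgroupOf M
  rw [hbot] at c
  have c' : Ctx34 M W₁ U W₂ := c
  have : ((fittingHallOf M).subgroupOf M).Normal := c'.H_normal
  refine ⟨c', ?_, ?_, ?_⟩
  · -- `C_U(H) = U'`
    ext x
    rw [mem_coreC_of_normal, ← S.hCU, Subgroup.mem_subgroupOf, Subgroup.mem_subgroupOf,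
      Subgroup.mem_inf, Subgroup.mem_centralizer_iff]
    constructor
    · rintro ⟨hxU, hx⟩
      refine ⟨hxU, ?_⟩
      intro h hh
      have := hx ⟨h, hHM hh⟩ (by rw [Subgroup.mem_subgroupOf]; exact hh)
      rw [Subgroup.mem_bot] at this
      have h2 : (x : G) * h * (x : G)⁻¹ * h⁻¹ = 1 := by
        have := congrArg (Subtype.val) this
        simpa using this
      have h3 : (x : G) * h = h * (x : G) := by
        have := congrArg (fun t => t * h * (x : G)) h2
        simpa [mul_assoc] using this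
      exact h3.symm
    · rintro ⟨hxU, hx⟩
      refine ⟨hxU, ?_⟩
      intro h hh
      rw [Subgroup.mem_subgroupOf] at hh
      rw [Subgroup.mem_bot]
      have h3 : (h : G) * (x : G) = (x : G) * (h : G) := hx _ hh
      apply Subtype.ext
      simp only [Subgroup.coe_mul, Subgroup.coe_inv, Subgroup.coe_one]
      rw [← h3]
      group
  · apply Subgroup.map_injective M.subtype_injective
    rw [Subgroup.map_commutator, Subgroup.map_subgroupOf_eq_of_le hUM,
      Subgroup.map_subgroupOf_eq_of_le ((Subgroup.commutator_le_self _).trans hUM)]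
  · intro N hN hNH
    have hN'H : N.map M.subtype ≤ fittingHallOf M := by
      rintro _ ⟨x, hx, rfl⟩
      exact Subgroup.mem_subgroupOf.mp (hNH hx)
    have hnorm : M ≤ Subgroup.normalizer ((N.map M.subtype : Subgroup G) : Set G) := by
      have h5 := Subgroup.le_normalizer_map (H := N) M.subtype
      rw [Subgroup.normalizer_eq_top_iff.mpr hN, ← MonoidHom.range_eq_map,
        Subgroup.range_subtype] at h5
      exact h5
    have hback : (N.map M.subtype).subgroupOf M = N := by
      ext x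
      rw [Subgroup.mem_subgroupOf]
      constructor
      · rintro ⟨y, hy, hyx⟩
        have : y = x := Subtype.ext hyx
        rwa [← this]
      · intro hx
        exact ⟨x, hx, rfl⟩
    rcases h4 (N.map M.subtype) bot_le hN'H hnorm with h | h
    · left
      rw [← hback, h, Subgroup.bot_subgroupOf]
    · right
      rw [← hback, h]

end Cfsg.Agent.Lib.Helper59.PF11
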