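import Mathlib
import Cfsg.Agent.Lib.Helper73.ConjUnion

/-!
# Derangements in a transitive group `T^m`, centralizer-size invariants, and the
# abelian regular normal subgroup analysis (helper59)

Used for S3501 / S3520 (classes of derangements in primitive groups that are not almost simple).
-/

set_option autoImplicit false

namespace Cfsg.Agent.Lib.Helper59

open scoped Pointwise

section centralizer

/-- A group isomorphism preserves the size of the centralizer of an element. -/
theorem card_centralizer_mulEquiv {A B : Type*} [Group A] [Group B] (φ : A ≃* B) (x : A) :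
    Nat.card (Subgroup.centralizer ({x} : Set A)) =
      Nat.card (Subgroup.centralizer ({φ x} : Set B)) := by
  apply Nat.card_congr
  refine Equiv.subtypeEquiv φ.toEquiv (fun z => ?_)
  simp only [Subgroup.mem_centralizer_singleton_iff, MulEquiv.toEquiv_eq_coe, MulEquiv.coe_toEquiv]
  constructor
  · intro h
    rw [← map_mul, ← map_mul, h]
  · intro h
    apply φ.injective
    rw [map_mul, map_mul]
    exact h

/-- Centralizers in a finite power are products of centralizers. -/
theorem card_centralizer_pi {m : ℕ} {T : Type*} [Group T] [Finite T] (y : Fin m → T) :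
    Nat.card (Subgroup.centralizer ({y} : Set (Fin m → T))) =
      ∏ i, Nat.card (Subgroup.centralizer ({y i} : Set T)) := by
  rw [← Nat.card_pi]
  apply Nat.card_congr
  refine (Equiv.subtypeEquivRight (fun z => ?_)).trans
    (Equiv.subtypePiEquivPi (p := fun i (t : T) => t ∈ Subgroup.centralizer ({y i} : Set T)))
  simp only [Subgroup.mem_centralizer_singleton_iff]
  constructor
  · intro h i
    exact congrFun h i
  · intro h
    funext i
    exact h i

/-- Elements of a normal subgroup that are conjugate in the big group have centralizers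
(in the normal subgroup) of the same size. -/
theorem card_centralizer_conj {G : Type*} [Group G] (N : Subgroup G) [N.Normal] (x y : N) (g : G)
    (h : (y : G) = g * x * g⁻¹) :
    Nat.card (Subgroup.centralizer ({x} : Set N)) = Nat.card (Subgroup.centralizer ({y} : Set N)) := by
  have h1 : y = MulAut.conjNormal g x := Subtype.ext (by rw [h, MulAut.conjNormal_apply])
  rw [h1]
  exact card_centralizer_mulEquiv (MulAut.conjNormal g) x

/-- conjugate elements have the same order -/
theorem orderOf_conj_eq {G : Type*} [Group G] (g x : G) : orderOf (g * x * g⁻¹) = orderOf x := by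
  have := orderOf_injective (MulAut.conj g).toMonoidHom (MulAut.conj g).injective x
  simpa using this

end centralizer

section simple

/-- In a finite non-abelian simple group the centre is trivial. -/
theorem center_eq_bot_of_simple {T : Type*} [Group T] [IsSimpleGroup T]
    (hT : ¬ IsMulCommutative T) : Subgroup.center T = ⊥ := by
  rcases (Subgroup.center T).normal_of_characteristic.eq_bot_or_eq_top with h | h
  · exact h
  · exfalso
    apply hT
    refine ⟨⟨fun x y => ?_⟩⟩
    have hy : y ∈ Subgroup.center T := by rw [h]; trivial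
    exact (Subgroup.mem_center_iff.1 hy) x

/-- For every nonidentity `s`, the centralizer of `s` in a non-abelian simple group is proper. -/
theorem exists_not_commute_of_simple {T : Type*} [Group T] [IsSimpleGroup T]
    (hT : ¬ IsMulCommutative T) (s : T) (hs : s ≠ 1) : ∃ u : T, u * s ≠ s * u := by
  by_contra hcon
  push Not at hcon
  apply hs
  have h1 : s ∈ Subgroup.center T := Subgroup.mem_center_iff.2 hcon
  rw [center_eq_bot_of_simple hT, Subgroup.mem_bot] at h1
  exact h1

/-- For each prime power `p^k` dividing the order of a finite group there is a nonidentity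
element whose centralizer has order divisible by `p^k` (when `k ≥ 1`). -/
theorem exists_centralizer_card_dvd {T : Type*} [Group T] [Finite T] (p k : ℕ) (hp : p.Prime)
    (hk : k ≠ 0) (hdvd : p ^ k ∣ Nat.card T) :
    ∃ z : T, z ≠ 1 ∧ p ^ k ∣ Nat.card (Subgroup.centralizer ({z} : Set T)) := by
  classical
  have : Fact p.Prime := ⟨hp⟩
  obtain P : Sylow p T := default
  have hPcard := P.card_eq_multiplicity
  have hkle : k ≤ (Nat.card T).factorization p := by
    exact (hp.pow_dvd_iff_le_factorization (Nat.card_pos (α := T)).ne').1 hdvd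
  have hpkP : p ^ k ∣ Nat.card P := by
    rw [hPcard]
    exact pow_dvd_pow p hkle
  have hPnt : Nontrivial P := by
    rw [← Finite.one_lt_card_iff_nontrivial, hPcard]
    have : 0 < (Nat.card T).factorization p := by omega
    exact Nat.one_lt_pow this.ne' hp.one_lt
  have hcnt : Nontrivial (Subgroup.center P) := P.2.center_nontrivial
  obtain ⟨z, hz⟩ := exists_ne (1 : Subgroup.center P)
  refine ⟨((z : P) : T), ?_, ?_⟩
  · intro h
    apply hz
    apply Subtype.ext
    apply Subtype.ext
    simpa using h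
  · have hle : (P : Subgroup T) ≤ Subgroup.centralizer ({((z : P) : T)} : Set T) := by
      intro x hx
      rw [Subgroup.mem_centralizer_singleton_iff]
      have h1 := (Subgroup.mem_center_iff.1 z.2) ⟨x, hx⟩
      have h2 := congrArg Subtype.val h1
      simpa using h2
    exact dvd_trans hpkP (Subgroup.card_dvd_of_le hle)

/-- In a finite non-abelian simple group there are two nonidentity elements whose centralizers
have different orders. -/
theorem exists_centralizer_card_ne {T : Type*} [Group T] [Finite T] [IsSimpleGroup T]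
    (hT : ¬ IsMulCommutative T) :
    ∃ s₁ s₂ : T, s₁ ≠ 1 ∧ s₂ ≠ 1 ∧
      Nat.card (Subgroup.centralizer ({s₁} : Set T)) ≠
        Nat.card (Subgroup.centralizer ({s₂} : Set T)) := by
  by_contra hcon
  push Not at hcon
  obtain ⟨s₀, hs₀⟩ := exists_ne (1 : T)
  set c := Nat.card (Subgroup.centralizer ({s₀} : Set T)) with hc
  have hdvd : Nat.card T ∣ c := by
    rw [Nat.dvd_iff_prime_pow_dvd_dvd]
    intro p k hp hpk
    by_cases hk : k = 0
    · subst hk; simp
    · obtain ⟨z, hz, hzd⟩ := exists_centralizer_card_dvd p k hp hk hpk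
      rw [hc, hcon s₀ z hs₀ hz]
      exact hzd
  have hle : c ≤ Nat.card T := Nat.card_le_card_of_injective _ Subtype.coe_injective
  have heq : c = Nat.card T := le_antisymm hle (Nat.le_of_dvd Nat.card_pos hdvd)
  have htop : Subgroup.centralizer ({s₀} : Set T) = ⊤ := (Subgroup.card_eq_iff_eq_top _).1 heq
  obtain ⟨u, hu⟩ := exists_not_commute_of_simple hT s₀ hs₀
  apply hu
  have h1 : u ∈ Subgroup.centralizer ({s₀} : Set T) := by rw [htop]; trivial
  rw [Subgroup.mem_centralizer_singleton_iff] at h1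
  exact h1

/-- centralizer of a nonidentity element of a non-abelian simple group is smaller than the group -/
theorem card_centralizer_lt_of_simple {T : Type*} [Group T] [Finite T] [IsSimpleGroup T]
    (hT : ¬ IsMulCommutative T) (s : T) (hs : s ≠ 1) :
    Nat.card (Subgroup.centralizer ({s} : Set T)) < Nat.card T := by
  obtain ⟨u, hu⟩ := exists_not_commute_of_simple hT s hs
  have hne : Subgroup.centralizer ({s} : Set T) ≠ ⊤ := by
    intro htop
    apply hu
    have h1 : u ∈ Subgroup.centralizer ({s} : Set T) := by rw [htop]; trivial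
    rw [Subgroup.mem_centralizer_singleton_iff] at h1
    exact h1
  have hle : Nat.card (Subgroup.centralizer ({s} : Set T)) ≤ Nat.card T :=
    Nat.card_le_card_of_injective _ Subtype.coe_injective
  rcases hle.lt_or_eq with h | h
  · exact h
  · exact absurd ((Subgroup.card_eq_iff_eq_top _).1 h) hne

theorem card_centralizer_one {T : Type*} [Group T] :
    Nat.card (Subgroup.centralizer ({(1 : T)} : Set T)) = Nat.card T := by
  have : Subgroup.centralizer ({(1 : T)} : Set T) = ⊤ := by
    rw [eq_top_iff]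
    intro x _
    rw [Subgroup.mem_centralizer_singleton_iff]
    simp
  rw [this]
  exact Subgroup.card_top

end simple

section prod

variable {H T : Type*} [Group H] [Group T] {m : ℕ} (e : H ≃* (Fin m → T))

/-- the embedding of the `i`-th direct factor -/
def factorHom (i : Fin m) : T →* H :=
  e.symm.toMonoidHom.comp (MonoidHom.mulSingle (fun _ : Fin m => T) i)

/-- the projection onto the `i`-th direct factor -/
def projHom (i : Fin m) : H →* T :=
  (Pi.evalMonoidHom (fun _ : Fin m => T) i).comp e.toMonoidHom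

theorem projHom_apply (i : Fin m) (y : H) : projHom e i y = e y i := rfl

theorem e_factorHom (i : Fin m) (t : T) : e (factorHom e i t) = Pi.mulSingle i t := by
  simp [factorHom]

theorem e_factorHom_same (i : Fin m) (t : T) : e (factorHom e i t) i = t := by
  rw [e_factorHom]; simp

theorem e_factorHom_ne (i j : Fin m) (h : j ≠ i) (t : T) : e (factorHom e i t) j = 1 := by
  rw [e_factorHom]; exact Pi.mulSingle_eq_of_ne (M := fun _ : Fin m => T) h t

theorem factorHom_injective (i : Fin m) : Function.Injective (factorHom e i) := by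
  intro t t' h
  have := congrArg (fun y => e y i) h
  simpa [e_factorHom_same] using this

theorem conj_factorHom (i : Fin m) (n : H) (t : T) :
    n⁻¹ * factorHom e i t * n = factorHom e i ((e n i)⁻¹ * t * e n i) := by
  apply e.injective
  funext j
  by_cases hj : j = i
  · subst hj
    simp [e_factorHom_same]
  · simp [e_factorHom_ne e i j hj]

/-- factors with different indices commute -/
theorem factorHom_commute (i j : Fin m) (h : i ≠ j) (t s : T) :
    factorHom e i t * factorHom e j s = factorHom e j s * factorHom e i t := by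
  apply e.injective
  funext k
  by_cases hki : k = i
  · subst hki
    simp [e_factorHom_same, e_factorHom_ne e j k h]
  · by_cases hkj : k = j
    · subst hkj
      simp [e_factorHom_same, e_factorHom_ne e i k hki]
    · simp [e_factorHom_ne e i k hki, e_factorHom_ne e j k hkj]

/-- **Dichotomy** for a transitive faithful action of `T^m` (`T` finite simple): for each index
`i`, either there is `t₀ ∈ T` such that every element with `i`-th coordinate `t₀` is a
derangement, or the `i`-th factor acts semiregularly. -/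
theorem prod_dichotomy {Ω : Type*} [MulAction H Ω] [MulAction.IsPretransitive H Ω]
    [FaithfulSMul H Ω] [Finite T] [IsSimpleGroup T] (i : Fin m) :
    (∃ t₀ : T, ∀ y : H, e y i = t₀ → ∀ ω : Ω, y • ω ≠ ω) ∨
    (∀ t : T, t ≠ 1 → ∀ ω : Ω, factorHom e i t • ω ≠ ω) := by
  classical
  by_cases hR : ∃ a : Ω, (MulAction.stabilizer H a).map (projHom e i) ≠ ⊤
  · obtain ⟨a, hR⟩ := hR
    left
    obtain ⟨t₀, ht₀⟩ := Cfsg.Agent.Lib.Helper73.exists_not_mem_conj_of_ne_top _ hR
    refine ⟨t₀, fun y hy ω hω => ?_⟩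
    obtain ⟨n, rfl⟩ := MulAction.exists_smul_eq H a ω
    apply ht₀ (e n i)
    rw [Cfsg.Agent.Lib.Helper73.mem_conj_smul_iff]
    refine ⟨n⁻¹ * y * n, ?_, ?_⟩
    · rw [SetLike.mem_coe, MulAction.mem_stabilizer_iff, mul_smul, mul_smul, hω, inv_smul_smul]
    · simp [projHom_apply, hy]
  · push Not at hR
    right
    intro t ht ω hω
    -- D = comap of the stabilizer of ω is normal and contains t
    let D : Subgroup T := (MulAction.stabilizer H ω).comap (factorHom e i)
    have hDn : D.Normal := by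
      constructor
      intro t' ht' u
      have hu : u⁻¹ ∈ (MulAction.stabilizer H ω).map (projHom e i) := by rw [hR ω]; trivial
      obtain ⟨n, hn, hnu⟩ := hu
      show factorHom e i (u * t' * u⁻¹) ∈ MulAction.stabilizer H ω
      have h1 : factorHom e i (u * t' * u⁻¹) = n⁻¹ * factorHom e i t' * n := by
        rw [conj_factorHom, ← projHom_apply, hnu]; simp
      rw [h1]
      exact Subgroup.mul_mem _ (Subgroup.mul_mem _ (Subgroup.inv_mem _ hn) ht') hn
    have htD : t ∈ D := hω
    have hDtop : D = ⊤ := by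
      rcases hDn.eq_bot_or_eq_top with h | h
      · exfalso
        rw [h, Subgroup.mem_bot] at htD
        exact ht htD
      · exact h
    have hfix : ∀ t' : T, factorHom e i t' • ω = ω := by
      intro t'
      have : t' ∈ D := by rw [hDtop]; trivial
      exact this
    have hall : ∀ (t' : T) (ω' : Ω), factorHom e i t' • ω' = ω' := by
      intro t' ω'
      obtain ⟨n, rfl⟩ := MulAction.exists_smul_eq H ω ω'
      have h1 : factorHom e i t' * n = n * (n⁻¹ * factorHom e i t' * n) := by group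
      rw [← mul_smul, h1, conj_factorHom, mul_smul, hfix]
    have h1 : factorHom e i t = 1 := by
      apply FaithfulSMul.eq_of_smul_eq_smul (α := Ω)
      intro a
      rw [hall t a, one_smul]
    apply ht
    apply factorHom_injective e i
    rw [h1, map_one]

end prod

section prodcard

variable {H T : Type*} [Group H] [Group T] {m : ℕ} (e : H ≃* (Fin m → T))

/-- a prime different from `p` dividing the order of a non-commutative simple group -/
theorem exists_prime_dvd_ne [Finite T] [IsSimpleGroup T]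
    (hT : ¬ IsMulCommutative T) (p : ℕ) (hp : p.Prime) :
    ∃ q : ℕ, q.Prime ∧ q ≠ p ∧ q ∣ Nat.card T := by
  by_contra hcon
  push Not at hcon
  have hall : ∀ {d : ℕ}, d.Prime → d ∣ Nat.card T → d = p := by
    intro d hd hdvd
    by_contra hne
    exact hcon d hd hne hdvd
  have hcard := Nat.eq_prime_pow_of_unique_prime_dvd (Nat.card_pos (α := T)).ne' hall
  have : Fact p.Prime := ⟨hp⟩
  have hpg : IsPGroup p T := IsPGroup.of_card hcard
  have hcenter : Subgroup.center T ≠ ⊥ := by
    have := hpg.center_nontrivial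
    exact (Subgroup.nontrivial_iff_ne_bot _).1 this
  exact hcenter (center_eq_bot_of_simple hT)

/-- two elements of different prime orders in a non-abelian finite simple group -/
theorem exists_two_prime_orders [Finite T] [IsSimpleGroup T] (hT : ¬ IsMulCommutative T) :
    ∃ a b : T, (orderOf a).Prime ∧ (orderOf b).Prime ∧ orderOf a ≠ orderOf b := by
  obtain ⟨p, hp, hpd⟩ := Nat.exists_prime_and_dvd (n := Nat.card T) (by
    intro h
    have : Subsingleton T := (Nat.card_eq_one_iff_unique.1 h).1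
    exact not_subsingleton T this)
  obtain ⟨q, hq, hqp, hqd⟩ := exists_prime_dvd_ne hT p hp
  have : Fact p.Prime := ⟨hp⟩
  have : Fact q.Prime := ⟨hq⟩
  obtain ⟨a, ha⟩ := exists_prime_orderOf_dvd_card' p hpd
  obtain ⟨b, hb⟩ := exists_prime_orderOf_dvd_card' q hqd
  refine ⟨a, b, ?_, ?_, ?_⟩
  · rw [ha]; exact hp
  · rw [hb]; exact hq
  · rw [ha, hb]; exact hqp.symm

theorem card_centralizer_prod [Finite T] (x : H) :
    Nat.card (Subgroup.centralizer ({x} : Set H)) =
      ∏ i, Nat.card (Subgroup.centralizer ({e x i} : Set T)) := by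
  rw [card_centralizer_mulEquiv e x, card_centralizer_pi]

/-- centralizer order of `y * ι_j(s)` when `y` has trivial `j`-th coordinate -/
theorem card_centralizer_mul_factor [Finite T] (y : H) (j : Fin m) (hy : e y j = 1) (s : T) :
    Nat.card (Subgroup.centralizer ({y * factorHom e j s} : Set H)) =
      Nat.card (Subgroup.centralizer ({s} : Set T)) *
        ∏ k ∈ (Finset.univ : Finset (Fin m)).erase j,
          Nat.card (Subgroup.centralizer ({e y k} : Set T)) := by
  rw [card_centralizer_prod e, ← Finset.mul_prod_erase _ _ (Finset.mem_univ j)]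
  congr 1
  · rw [map_mul, Pi.mul_apply, hy, one_mul, e_factorHom_same]
  · apply Finset.prod_congr rfl
    intro k hk
    have hkj : k ≠ j := Finset.ne_of_mem_erase hk
    rw [map_mul, Pi.mul_apply, e_factorHom_ne e j k hkj, mul_one]

theorem prod_erase_pos [Finite T] (y : H) (j : Fin m) :
    0 < ∏ k ∈ (Finset.univ : Finset (Fin m)).erase j,
          Nat.card (Subgroup.centralizer ({e y k} : Set T)) :=
  Finset.prod_pos (fun _ _ => Nat.card_pos)

end prodcard

section three

variable {H T : Type*} [Group H] [Group T] {m : ℕ}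

/-- **Three derangements with pairwise different centralizer orders** in a transitive faithful
`T^m`, `m ≥ 2`, `T` finite non-abelian simple. -/
theorem exists_three_derangements {Ω : Type*} [MulAction H Ω] [MulAction.IsPretransitive H Ω]
    [FaithfulSMul H Ω] [Finite T] [IsSimpleGroup T] (e : H ≃* (Fin m → T))
    (hT : ¬ IsMulCommutative T) (hm : 2 ≤ m) :
    ∃ x y z : H, (∀ ω : Ω, x • ω ≠ ω) ∧ (∀ ω : Ω, y • ω ≠ ω) ∧ (∀ ω : Ω, z • ω ≠ ω) ∧
      Nat.card (Subgroup.centralizer ({x} : Set H)) ≠ Nat.card (Subgroup.centralizer ({y} : Set H)) ∧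
      Nat.card (Subgroup.centralizer ({x} : Set H)) ≠ Nat.card (Subgroup.centralizer ({z} : Set H)) ∧
      Nat.card (Subgroup.centralizer ({y} : Set H)) ≠ Nat.card (Subgroup.centralizer ({z} : Set H)) := by
  classical
  obtain ⟨s₁, s₂, hs₁, hs₂, hs₁₂⟩ := exists_centralizer_card_ne hT
  have hlt₁ := card_centralizer_lt_of_simple hT s₁ hs₁
  have hlt₂ := card_centralizer_lt_of_simple hT s₂ hs₂
  by_cases hcase : ∃ (i : Fin m) (t₀ : T), ∀ y : H, e y i = t₀ → ∀ ω : Ω, y • ω ≠ ω
  · obtain ⟨i, t₀, ht₀⟩ := hcase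
    -- an index different from i
    obtain ⟨j, hji⟩ : ∃ j : Fin m, j ≠ i := by
      by_cases hi : i = ⟨0, by omega⟩
      · exact ⟨⟨1, by omega⟩, by rw [hi]; simp [Fin.ext_iff]⟩
      · exact ⟨⟨0, by omega⟩, fun h => hi h.symm⟩
    have hyj : e (factorHom e i t₀) j = 1 := e_factorHom_ne e i j hji t₀
    have hder : ∀ s : T, ∀ ω : Ω, (factorHom e i t₀ * factorHom e j s) • ω ≠ ω := by
      intro s
      apply ht₀
      rw [map_mul, Pi.mul_apply, e_factorHom_same, e_factorHom_ne e j i hji.symm, mul_one]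
    have hK := prod_erase_pos e (factorHom e i t₀) j
    set K := ∏ k ∈ (Finset.univ : Finset (Fin m)).erase j,
          Nat.card (Subgroup.centralizer ({e (factorHom e i t₀) k} : Set T)) with hKdef
    refine ⟨factorHom e i t₀ * factorHom e j 1, factorHom e i t₀ * factorHom e j s₁,
      factorHom e i t₀ * factorHom e j s₂, hder 1, hder s₁, hder s₂, ?_, ?_, ?_⟩
    · rw [card_centralizer_mul_factor e _ j hyj, card_centralizer_mul_factor e _ j hyj,
        card_centralizer_one]
      intro h
      exact hlt₁.ne' (Nat.eq_of_mul_eq_mul_right hK h)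
    · rw [card_centralizer_mul_factor e _ j hyj, card_centralizer_mul_factor e _ j hyj,
        card_centralizer_one]
      intro h
      exact hlt₂.ne' (Nat.eq_of_mul_eq_mul_right hK h)
    · rw [card_centralizer_mul_factor e _ j hyj, card_centralizer_mul_factor e _ j hyj]
      intro h
      exact hs₁₂ (Nat.eq_of_mul_eq_mul_right hK h)
  · -- every factor is semiregular
    have hsemi : ∀ (i : Fin m) (t : T), t ≠ 1 → ∀ ω : Ω, factorHom e i t • ω ≠ ω := by
      intro i
      rcases prod_dichotomy e (Ω := Ω) i with h | h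
      · exact absurd ⟨i, h⟩ hcase
      · exact h
    let i₀ : Fin m := ⟨0, by omega⟩
    let i₁ : Fin m := ⟨1, by omega⟩
    have hi : i₀ ≠ i₁ := by simp [i₀, i₁, Fin.ext_iff]
    -- an element with centralizer of minimal order
    obtain ⟨t, ht1, htmin⟩ : ∃ t : T, t ≠ 1 ∧ ∀ u : T, u ≠ 1 →
        Nat.card (Subgroup.centralizer ({t} : Set T)) ≤
          Nat.card (Subgroup.centralizer ({u} : Set T)) := by
      have hne : ({u : T | u ≠ 1} : Set T).Nonempty := ⟨s₁, hs₁⟩
      obtain ⟨t, htS, htm⟩ := (Set.toFinite {u : T | u ≠ 1}).exists_minimalFor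
        (fun u : T => Nat.card (Subgroup.centralizer ({u} : Set T))) _ hne
      refine ⟨t, htS, fun u hu => ?_⟩
      by_contra hlt
      push Not at hlt
      have h2 := htm hu hlt.le
      simp only at h2
      omega
    -- an element of different order
    obtain ⟨s, hs1, hst⟩ : ∃ s : T, s ≠ 1 ∧ orderOf s ≠ orderOf t := by
      obtain ⟨a, b, ha, hb, hab⟩ := exists_two_prime_orders hT
      by_cases h : orderOf a = orderOf t
      · refine ⟨b, ?_, ?_⟩
        · intro hb1; rw [hb1, orderOf_one] at hb; exact Nat.not_prime_one hb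
        · rw [← h]; exact hab.symm
      · refine ⟨a, ?_, h⟩
        intro ha1; rw [ha1, orderOf_one] at ha; exact Nat.not_prime_one ha
    -- the third derangement
    have hzder : ∀ ω : Ω, (factorHom e i₀ t * factorHom e i₁ s) • ω ≠ ω := by
      intro ω hω
      have hpow : ∀ k : ℕ, (factorHom e i₀ t * factorHom e i₁ s) ^ k • ω = ω := by
        intro k
        induction k with
        | zero => simp
        | succ k ih => rw [pow_succ, mul_smul, hω, ih]
      have hcomm : Commute (factorHom e i₀ t) (factorHom e i₁ s) :=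
        factorHom_commute e i₀ i₁ hi t s
      by_cases hdvd : orderOf t ∣ orderOf s
      · have hnd : ¬ orderOf s ∣ orderOf t := fun h => hst (Nat.dvd_antisymm h hdvd)
        have h1 := hpow (orderOf t)
        rw [hcomm.mul_pow, ← map_pow, ← map_pow, pow_orderOf_eq_one, map_one, one_mul] at h1
        refine hsemi i₁ (s ^ orderOf t) ?_ ω h1
        intro h2
        exact hnd (orderOf_dvd_of_pow_eq_one h2)
      · have h1 := hpow (orderOf s)
        rw [hcomm.mul_pow, ← map_pow, ← map_pow, pow_orderOf_eq_one, map_one, mul_one] at h1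
        refine hsemi i₀ (t ^ orderOf s) ?_ ω h1
        intro h2
        exact hdvd (orderOf_dvd_of_pow_eq_one h2)
    -- cardinalities
    have h1i₀ : e (1 : H) i₀ = 1 := by simp
    set K₀ := ∏ k ∈ (Finset.univ : Finset (Fin m)).erase i₀,
          Nat.card (Subgroup.centralizer ({e (1 : H) k} : Set T)) with hK₀def
    have hK₀ : 0 < K₀ := prod_erase_pos e 1 i₀
    have hcard₀ : ∀ u : T, Nat.card (Subgroup.centralizer ({factorHom e i₀ u} : Set H)) =
        Nat.card (Subgroup.centralizer ({u} : Set T)) * K₀ := by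
      intro u
      have := card_centralizer_mul_factor e 1 i₀ h1i₀ u
      rwa [one_mul] at this
    have hti₁ : e (factorHom e i₀ t) i₁ = 1 := e_factorHom_ne e i₀ i₁ hi.symm t
    set K₁ := ∏ k ∈ (Finset.univ : Finset (Fin m)).erase i₁,
          Nat.card (Subgroup.centralizer ({e (factorHom e i₀ t) k} : Set T)) with hK₁def
    have hK₁ : 0 < K₁ := prod_erase_pos e (factorHom e i₀ t) i₁
    have hcz : Nat.card (Subgroup.centralizer ({factorHom e i₀ t * factorHom e i₁ s} : Set H)) =
        Nat.card (Subgroup.centralizer ({s} : Set T)) * K₁ :=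
      card_centralizer_mul_factor e _ i₁ hti₁ s
    have hct : Nat.card (Subgroup.centralizer ({factorHom e i₀ t} : Set H)) =
        Nat.card T * K₁ := by
      have := card_centralizer_mul_factor e _ i₁ hti₁ 1
      rwa [map_one, mul_one, card_centralizer_one] at this
    have hzlt : Nat.card (Subgroup.centralizer ({factorHom e i₀ t * factorHom e i₁ s} : Set H)) <
        Nat.card (Subgroup.centralizer ({factorHom e i₀ t} : Set H)) := by
      rw [hcz, hct]
      exact Nat.mul_lt_mul_of_pos_right (card_centralizer_lt_of_simple hT s hs1) hK₁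
    have hle : ∀ u : T, u ≠ 1 → Nat.card (Subgroup.centralizer ({factorHom e i₀ t} : Set H)) ≤
        Nat.card (Subgroup.centralizer ({factorHom e i₀ u} : Set H)) := by
      intro u hu
      rw [hcard₀, hcard₀]
      exact Nat.mul_le_mul_right _ (htmin u hu)
    refine ⟨factorHom e i₀ s₁, factorHom e i₀ s₂, factorHom e i₀ t * factorHom e i₁ s,
      hsemi i₀ s₁ hs₁, hsemi i₀ s₂ hs₂, hzder, ?_, ?_, ?_⟩
    · rw [hcard₀, hcard₀]
      intro h
      exact hs₁₂ (Nat.eq_of_mul_eq_mul_right hK₀ h)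
    · have := hle s₁ hs₁
      omega
    · have := hle s₂ hs₂
      omega

end three

section classes

variable {G Ω : Type*} [Group G] [MulAction G Ω]

/-- conjugates of derangements are derangements -/
theorem derangement_conj (g x : G) (hx : ∀ ω : Ω, x • ω ≠ ω) :
    ∀ ω : Ω, (g * x * g⁻¹) • ω ≠ ω := by
  intro ω hω
  apply hx (g⁻¹ • ω)
  have h1 := congrArg (fun z => g⁻¹ • z) hω
  simpa [mul_smul] using h1

theorem derangement_of_isConj {x y : G} (h : IsConj x y) (hx : ∀ ω : Ω, x • ω ≠ ω) :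
    ∀ ω : Ω, y • ω ≠ ω := by
  obtain ⟨c, hc⟩ := isConj_iff.1 h
  rw [← hc]
  exact derangement_conj c x hx

/-- exactly one class of derangements, unfolded -/
theorem derClasses_one
    (h : Nat.card {c : ConjClasses G // ∃ g : G, ConjClasses.mk g = c ∧ ∀ ω : Ω, g • ω ≠ ω} = 1) :
    ∃ d : G, (∀ ω : Ω, d • ω ≠ ω) ∧ ∀ x : G, (∀ ω : Ω, x • ω ≠ ω) → IsConj d x := by
  obtain ⟨hsub, ⟨⟨c, d, hdc, hd⟩⟩⟩ := Nat.card_eq_one_iff_unique.1 h
  refine ⟨d, hd, fun x hx => ?_⟩
  have h1 : (⟨c, d, hdc, hd⟩ : {c : ConjClasses G // ∃ g : G, ConjClasses.mk g = c ∧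
      ∀ ω : Ω, g • ω ≠ ω}) = ⟨ConjClasses.mk x, x, rfl, hx⟩ := Subsingleton.elim _ _
  have h2 : c = ConjClasses.mk x := congrArg Subtype.val h1
  rw [← hdc] at h2
  exact ConjClasses.mk_eq_mk_iff_isConj.1 h2

theorem derClasses_one_of (d : G) (hd : ∀ ω : Ω, d • ω ≠ ω)
    (hall : ∀ x : G, (∀ ω : Ω, x • ω ≠ ω) → IsConj d x) :
    Nat.card {c : ConjClasses G // ∃ g : G, ConjClasses.mk g = c ∧ ∀ ω : Ω, g • ω ≠ ω} = 1 := by
  rw [Nat.card_eq_one_iff_unique]
  refine ⟨⟨?_⟩, ⟨⟨ConjClasses.mk d, d, rfl, hd⟩⟩⟩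
  rintro ⟨c, x, hxc, hx⟩ ⟨c', y, hyc, hy⟩
  apply Subtype.ext
  show c = c'
  rw [← hxc, ← hyc, ConjClasses.mk_eq_mk_iff_isConj]
  exact (hall x hx).symm.trans (hall y hy)

/-- exactly two classes of derangements, unfolded -/
theorem derClasses_two
    (h : Nat.card {c : ConjClasses G // ∃ g : G, ConjClasses.mk g = c ∧ ∀ ω : Ω, g • ω ≠ ω} = 2) :
    ∃ d₁ d₂ : G, (∀ ω : Ω, d₁ • ω ≠ ω) ∧ (∀ ω : Ω, d₂ • ω ≠ ω) ∧ ¬ IsConj d₁ d₂ ∧
      ∀ x : G, (∀ ω : Ω, x • ω ≠ ω) → IsConj d₁ x ∨ IsConj d₂ x := by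
  obtain ⟨⟨c₁, d₁, hdc₁, hd₁⟩, ⟨c₂, d₂, hdc₂, hd₂⟩, hne, huniv⟩ := Nat.card_eq_two_iff.1 h
  refine ⟨d₁, d₂, hd₁, hd₂, ?_, fun x hx => ?_⟩
  · intro hconj
    apply hne
    apply Subtype.ext
    show c₁ = c₂
    rw [← hdc₁, ← hdc₂, ConjClasses.mk_eq_mk_iff_isConj]
    exact hconj
  · have hx' : (⟨ConjClasses.mk x, x, rfl, hx⟩ : {c : ConjClasses G // ∃ g : G,
        ConjClasses.mk g = c ∧ ∀ ω : Ω, g • ω ≠ ω}) ∈ (Set.univ : Set _) := Set.mem_univ _
    rw [← huniv] at hx'
    rcases hx' with h1 | h1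
    · left
      have h2 : ConjClasses.mk x = c₁ := congrArg Subtype.val h1
      rw [← hdc₁] at h2
      exact ConjClasses.mk_eq_mk_iff_isConj.1 h2.symm
    · right
      have h2 : ConjClasses.mk x = c₂ := congrArg Subtype.val h1
      rw [← hdc₂] at h2
      exact ConjClasses.mk_eq_mk_iff_isConj.1 h2.symm

/-- three pairwise non-conjugate derangements contradict "exactly two classes" -/
theorem derClasses_two_not_three
    (h : Nat.card {c : ConjClasses G // ∃ g : G, ConjClasses.mk g = c ∧ ∀ ω : Ω, g • ω ≠ ω} = 2)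
    (x y z : G) (hx : ∀ ω : Ω, x • ω ≠ ω) (hy : ∀ ω : Ω, y • ω ≠ ω) (hz : ∀ ω : Ω, z • ω ≠ ω)
    (hxy : ¬ IsConj x y) (hxz : ¬ IsConj x z) (hyz : ¬ IsConj y z) : False := by
  obtain ⟨d₁, d₂, _, _, _, hall⟩ := derClasses_two h
  rcases hall x hx with h1 | h1 <;> rcases hall y hy with h2 | h2 <;> rcases hall z hz with h3 | h3
  · exact hxy (h1.symm.trans h2)
  · exact hxy (h1.symm.trans h2)
  · exact hxz (h1.symm.trans h3)
  · exact hyz (h2.symm.trans h3)
  · exact hyz (h2.symm.trans h3)
  · exact hxz (h1.symm.trans h3)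
  · exact hxy (h1.symm.trans h2)
  · exact hxy (h1.symm.trans h2)

/-- two non-conjugate derangements contradict "exactly one class" -/
theorem derClasses_one_not_two
    (h : Nat.card {c : ConjClasses G // ∃ g : G, ConjClasses.mk g = c ∧ ∀ ω : Ω, g • ω ≠ ω} = 1)
    (x y : G) (hx : ∀ ω : Ω, x • ω ≠ ω) (hy : ∀ ω : Ω, y • ω ≠ ω)
    (hxy : ¬ IsConj x y) : False := by
  obtain ⟨d, _, hall⟩ := derClasses_one h
  exact hxy ((hall x hx).symm.trans (hall y hy))

end classes

section abelian

variable {G Ω : Type*} [Group G] [MulAction G Ω] [FaithfulSMul G Ω]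

/-- a transitive abelian subgroup of a faithful group is regular -/
theorem eq_one_of_comm_of_smul_eq (N : Subgroup G) (hc : ∀ x ∈ N, ∀ y ∈ N, x * y = y * x)
    [MulAction.IsPretransitive N Ω] {n : G} (hn : n ∈ N) {a : Ω} (h : n • a = a) : n = 1 := by
  apply FaithfulSMul.eq_of_smul_eq_smul (α := Ω)
  intro b
  obtain ⟨k, rfl⟩ := MulAction.exists_smul_eq N a b
  rw [one_smul]
  show n • ((k : G) • a) = (k : G) • a
  rw [← mul_smul, hc n hn k k.2, mul_smul, h]

/-- two elements of a regular abelian subgroup agreeing at a point are equal -/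
theorem eq_of_comm_of_smul_eq_smul (N : Subgroup G) (hc : ∀ x ∈ N, ∀ y ∈ N, x * y = y * x)
    [MulAction.IsPretransitive N Ω] {x y : G} (hx : x ∈ N) (hy : y ∈ N) {a : Ω}
    (h : x • a = y • a) : x = y := by
  have h1 : (y⁻¹ * x) • a = a := by rw [mul_smul, h, inv_smul_smul]
  have h2 := eq_one_of_comm_of_smul_eq N hc (N.mul_mem (N.inv_mem hy) hx) h1
  calc x = y * (y⁻¹ * x) := by group
    _ = y := by rw [h2, mul_one]

/-- the commutator map `c ↦ c h c⁻¹ h⁻¹` on a normal subgroup -/
def commMap (N : Subgroup G) [hN : N.Normal] (h : G) : N → N := fun c =>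
  ⟨(c : G) * h * (c : G)⁻¹ * h⁻¹, by
    have h1 : (c : G) * h * (c : G)⁻¹ * h⁻¹ = (c : G) * (h * (c : G)⁻¹ * h⁻¹) := by group
    rw [h1]
    exact N.mul_mem c.2 (hN.conj_mem _ (N.inv_mem c.2) h)⟩

theorem commMap_injective (N : Subgroup G) [N.Normal] (h : G)
    (hcent : ∀ d ∈ N, h * d = d * h → d = 1) : Function.Injective (commMap N h) := by
  intro c c' hcc
  have h1 : (c : G) * h * (c : G)⁻¹ * h⁻¹ = (c' : G) * h * (c' : G)⁻¹ * h⁻¹ :=
    congrArg Subtype.val hcc
  have h2 : h * ((c' : G)⁻¹ * (c : G)) = ((c' : G)⁻¹ * (c : G)) * h := by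
    have h3 : (c : G) * h * (c : G)⁻¹ = (c' : G) * h * (c' : G)⁻¹ := mul_right_cancel h1
    calc h * ((c' : G)⁻¹ * (c : G))
        = (c' : G)⁻¹ * ((c' : G) * h * (c' : G)⁻¹) * (c : G) := by group
      _ = (c' : G)⁻¹ * ((c : G) * h * (c : G)⁻¹) * (c : G) := by rw [h3]
      _ = ((c' : G)⁻¹ * (c : G)) * h := by group
  have h4 := hcent _ (N.mul_mem (N.inv_mem c'.2) c.2) h2
  apply Subtype.ext
  calc (c : G) = (c' : G) * ((c' : G)⁻¹ * (c : G)) := by group
    _ = (c' : G) := by rw [h4, mul_one]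

omit [FaithfulSMul G Ω] in
/-- If `h` fixes `α` and centralizes no nonidentity element of the finite normal subgroup `N`
(transitive), then every element of the coset `N h` has a fixed point. -/
theorem exists_fixed_of_centralizer_trivial (N : Subgroup G) [N.Normal] [Finite N]
    (h : G) (α : Ω) (hα : h • α = α)
    (hcent : ∀ d ∈ N, h * d = d * h → d = 1) (c₀ : G) (hc₀ : c₀ ∈ N) :
    ∃ ω : Ω, (c₀ * h) • ω = ω := by
  have hsurj := Finite.injective_iff_surjective.1 (commMap_injective N h hcent)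
  obtain ⟨c, hc⟩ := hsurj ⟨c₀, hc₀⟩
  have h1 : (c : G) * h * (c : G)⁻¹ * h⁻¹ = c₀ := congrArg Subtype.val hc
  refine ⟨(c : G) • α, ?_⟩
  rw [← h1, ← mul_smul]
  have h2 : (c : G) * h * (c : G)⁻¹ * h⁻¹ * h * (c : G) = (c : G) * h := by group
  rw [h2, mul_smul, hα]

/-- Conversely, if every element of the coset `N h` has a fixed point (`N` normal abelian
transitive finite, `h` fixing `α`), then `h` centralizes no nonidentity element of `N`. -/
theorem centralizer_trivial_of_exists_fixed (N : Subgroup G) [hN : N.Normal] [Finite N]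
    (hc : ∀ x ∈ N, ∀ y ∈ N, x * y = y * x) [MulAction.IsPretransitive N Ω]
    (h : G) (α : Ω) (hα : h • α = α)
    (hfix : ∀ c₀ ∈ N, ∃ ω : Ω, (c₀ * h) • ω = ω) : ∀ d ∈ N, h * d = d * h → d = 1 := by
  have hα' : h⁻¹ • α = α := by rw [inv_smul_eq_iff, hα]
  have hsurj : Function.Surjective (commMap N h) := by
    rintro ⟨c₀, hc₀⟩
    obtain ⟨ω, hω⟩ := hfix c₀ hc₀
    obtain ⟨c, rfl⟩ := MulAction.exists_smul_eq N α ω
    refine ⟨c, Subtype.ext ?_⟩
    show (c : G) * h * (c : G)⁻¹ * h⁻¹ = c₀
    have hu : ((c : G)⁻¹ * c₀ * (h * (c : G) * h⁻¹)) ∈ N :=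
      N.mul_mem (N.mul_mem (N.inv_mem c.2) hc₀) (hN.conj_mem _ c.2 h)
    have hua : ((c : G)⁻¹ * c₀ * (h * (c : G) * h⁻¹)) • α = α := by
      have h1 : (c : G)⁻¹ * c₀ * (h * (c : G) * h⁻¹) = (c : G)⁻¹ * (c₀ * h) * (c : G) * h⁻¹ := by
        group
      rw [h1, mul_smul, hα', mul_smul, mul_smul]
      have h2 : (c₀ * h) • ((c : G) • α) = (c : G) • α := hω
      rw [h2, inv_smul_smul]
    have hu1 := eq_one_of_comm_of_smul_eq N hc hu hua
    calc (c : G) * h * (c : G)⁻¹ * h⁻¹
        = (c : G) * 1 * (h * (c : G) * h⁻¹)⁻¹ := by group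
      _ = (c : G) * ((c : G)⁻¹ * c₀ * (h * (c : G) * h⁻¹)) * (h * (c : G) * h⁻¹)⁻¹ := by rw [hu1]
      _ = c₀ := by group
  have hinj := Finite.injective_iff_surjective.2 hsurj
  intro d hd hdh
  have h1 : commMap N h ⟨d, hd⟩ = commMap N h 1 := by
    apply Subtype.ext
    show d * h * d⁻¹ * h⁻¹ = ((1 : N) : G) * h * ((1 : N) : G)⁻¹ * h⁻¹
    rw [← hdh]
    simp
  have h2 := hinj h1
  exact congrArg Subtype.val h2

end abelian

section abelian2

variable {G Ω : Type*} [Group G] [MulAction G Ω] [FaithfulSMul G Ω]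

/-- If all derangements lie in the abelian regular normal subgroup `N`, then no nonidentity
element fixes two points. -/
theorem fix_le_one_of_derangements_subset (N : Subgroup G) [hN : N.Normal] [Finite N]
    (hc : ∀ x ∈ N, ∀ y ∈ N, x * y = y * x) [MulAction.IsPretransitive N Ω]
    (hD : ∀ x : G, (∀ ω : Ω, x • ω ≠ ω) → x ∈ N) (g : G) (hg : g ≠ 1) (β γ : Ω) (hβγ : β ≠ γ)
    (hβ : g • β = β) : g • γ ≠ γ := by
  intro hγ
  have hgN : g ∉ N := fun h => hg (eq_one_of_comm_of_smul_eq N hc h hβ)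
  have hfix : ∀ c₀ ∈ N, ∃ ω : Ω, (c₀ * g) • ω = ω := by
    intro c₀ hc₀
    by_contra hcon
    push Not at hcon
    have h1 := hD _ hcon
    apply hgN
    have h2 : g = c₀⁻¹ * (c₀ * g) := by group
    rw [h2]
    exact N.mul_mem (N.inv_mem hc₀) h1
  have hcent := centralizer_trivial_of_exists_fixed N hc g β hβ hfix
  obtain ⟨d, hd⟩ := MulAction.exists_smul_eq N β γ
  have hβ' : g⁻¹ • β = β := by rw [inv_smul_eq_iff, hβ]
  have hdγ : (d : G) • β = γ := hd
  have h1 : g * (d : G) * g⁻¹ = (d : G) := by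
    apply eq_of_comm_of_smul_eq_smul N hc (hN.conj_mem _ d.2 g) d.2 (a := β)
    rw [mul_smul, mul_smul, hβ', hdγ, hγ]
  have h2 : g * (d : G) = (d : G) * g := by
    calc g * (d : G) = g * (d : G) * g⁻¹ * g := by group
      _ = (d : G) * g := by rw [h1]
  have h3 := hcent _ d.2 h2
  apply hβγ
  rw [← hdγ, h3, one_smul]

/-- If the nonidentity elements of the abelian regular normal subgroup `N` are all conjugate in `G`,
then `G` is 2-transitive. -/
theorem two_transitive_of_conj (N : Subgroup G) [hN : N.Normal]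
    (hc : ∀ x ∈ N, ∀ y ∈ N, x * y = y * x) [MulAction.IsPretransitive N Ω]
    (hconj : ∀ d ∈ N, ∀ d' ∈ N, d ≠ 1 → d' ≠ 1 → IsConj d d') :
    MulAction.IsMultiplyPretransitive G Ω 2 := by
  rw [MulAction.is_two_pretransitive_iff]
  intro a b c d hab hcd
  obtain ⟨n₁, hn₁⟩ := MulAction.exists_smul_eq N a c
  have hn₁' : (n₁ : G) • a = c := hn₁
  obtain ⟨x, hx⟩ := MulAction.exists_smul_eq N c ((n₁ : G) • b)
  have hx' : (x : G) • c = (n₁ : G) • b := hx
  obtain ⟨y, hy⟩ := MulAction.exists_smul_eq N c d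
  have hy' : (y : G) • c = d := hy
  have hx1 : (x : G) ≠ 1 := by
    intro h
    rw [h, one_smul, ← hn₁'] at hx'
    exact hab (smul_left_cancel _ hx')
  have hy1 : (y : G) ≠ 1 := by
    intro h
    rw [h, one_smul] at hy'
    exact hcd hy'
  obtain ⟨g, hg⟩ := isConj_iff.1 (hconj _ x.2 _ y.2 hx1 hy1)
  obtain ⟨k, hk⟩ := MulAction.exists_smul_eq N c (g • c)
  have hk' : (k : G) • c = g • c := hk
  -- h = k⁻¹ g fixes c and conjugates x to y
  have hhc : ((k : G)⁻¹ * g) • c = c := by rw [mul_smul, ← hk', inv_smul_smul]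
  have hhx : ((k : G)⁻¹ * g) * (x : G) * ((k : G)⁻¹ * g)⁻¹ = (y : G) := by
    have h1 : ((k : G)⁻¹ * g) * (x : G) * ((k : G)⁻¹ * g)⁻¹ = (k : G)⁻¹ * (g * x * g⁻¹) * k := by
      group
    rw [h1, hg, mul_assoc, ← hc _ k.2 _ y.2, ← mul_assoc, inv_mul_cancel, one_mul]
  refine ⟨((k : G)⁻¹ * g) * n₁, ?_, ?_⟩
  · rw [mul_smul, hn₁', hhc]
  · rw [mul_smul, ← hx', ← mul_smul]
    have h2 : (k : G)⁻¹ * g * (x : G) = (y : G) * ((k : G)⁻¹ * g) := by
      rw [← hhx]; group
    rw [h2, mul_smul, hhc, hy']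

/-- a derangement outside the abelian regular normal subgroup `N` produces a nonidentity element
with two fixed points -/
theorem exists_two_fixed_of_derangement_not_mem (N : Subgroup G) [hN : N.Normal] [Finite N]
    (hc : ∀ x ∈ N, ∀ y ∈ N, x * y = y * x) [MulAction.IsPretransitive N Ω] (α : Ω)
    (d' : G) (hd' : ∀ ω : Ω, d' • ω ≠ ω) (hnot : d' ∉ N) :
    ∃ g : G, g ≠ 1 ∧ ∃ a b : Ω, a ≠ b ∧ g • a = a ∧ g • b = b := by
  obtain ⟨c₀, hc₀⟩ := MulAction.exists_smul_eq N α (d' • α)
  have hc₀' : (c₀ : G) • α = d' • α := hc₀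
  have hα : ((c₀ : G)⁻¹ * d') • α = α := by rw [mul_smul, ← hc₀', inv_smul_smul]
  have hne : (c₀ : G)⁻¹ * d' ≠ 1 := by
    intro h
    apply hnot
    have : d' = (c₀ : G) := by
      calc d' = (c₀ : G) * ((c₀ : G)⁻¹ * d') := by group
        _ = (c₀ : G) := by rw [h, mul_one]
    rw [this]; exact c₀.2
  have hncent : ¬ ∀ d ∈ N, ((c₀ : G)⁻¹ * d') * d = d * ((c₀ : G)⁻¹ * d') → d = 1 := by
    intro hcent
    obtain ⟨ω, hω⟩ := exists_fixed_of_centralizer_trivial N _ α hα hcent c₀ c₀.2
    apply hd' ω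
    rw [← hω]
    congr 1
    group
  push Not at hncent
  obtain ⟨d, hdN, hcomm, hd1⟩ := hncent
  refine ⟨(c₀ : G)⁻¹ * d', hne, α, d • α, ?_, hα, ?_⟩
  · intro h
    exact hd1 (eq_one_of_comm_of_smul_eq N hc hdN h.symm)
  · rw [← mul_smul, hcomm, mul_smul, hα]

/-- If no nonidentity element fixes two points and the nonidentity elements of the abelian regular
normal subgroup `N` fall into exactly two `G`-classes (represented by `d₁`, `d₂`), then
`2 |G_α| = |Ω| - 1`. -/
theorem two_mul_card_stabilizer (N : Subgroup G) [hN : N.Normal] [Fintype Ω]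
    (hc : ∀ x ∈ N, ∀ y ∈ N, x * y = y * x) [MulAction.IsPretransitive N Ω] (α : Ω)
    (hfrob : ∀ g : G, g ≠ 1 → ∀ a b : Ω, a ≠ b → g • a = a → g • b ≠ b)
    (d₁ d₂ : G) (hd₁ : d₁ ∈ N) (hd₂ : d₂ ∈ N) (h₁ : d₁ ≠ 1) (h₂ : d₂ ≠ 1) (hnc : ¬ IsConj d₁ d₂)
    (hall : ∀ x ∈ N, x ≠ 1 → IsConj d₁ x ∨ IsConj d₂ x) :
    2 * Nat.card (MulAction.stabilizer G α) = Fintype.card Ω - 1 := by
  classical
  -- the two representatives as a function on `Fin 2`
  let dd : Fin 2 → G := ![d₁, d₂]
  have hddN : ∀ i, dd i ∈ N := by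
    intro i; fin_cases i <;> simp [dd, hd₁, hd₂]
  have hdd1 : ∀ i, dd i ≠ 1 := by
    intro i; fin_cases i <;> simp [dd, h₁, h₂]
  have hddnc : ∀ i j, IsConj (dd i) (dd j) → i = j := by
    intro i j hij
    fin_cases i <;> fin_cases j
    · rfl
    · exact absurd hij hnc
    · exact absurd hij.symm hnc
    · rfl
  have hddall : ∀ x ∈ N, x ≠ 1 → ∃ i, IsConj (dd i) x := by
    intro x hx hx1
    rcases hall x hx hx1 with h | h
    · exact ⟨0, h⟩
    · exact ⟨1, h⟩
  have hmove : ∀ i, dd i • α ≠ α := fun i h =>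
    hdd1 i (eq_one_of_comm_of_smul_eq N hc (hddN i) h)
  let f : (MulAction.stabilizer G α) × Fin 2 → {ω : Ω // ω ≠ α} := fun p =>
    ⟨(p.1 : G) • dd p.2 • α, by
      intro h
      have h1 : (p.1 : G) • dd p.2 • α = (p.1 : G) • α := by rw [h, p.1.2]
      exact hmove p.2 (smul_left_cancel _ h1)⟩
  have hconjpt : ∀ (h : MulAction.stabilizer G α) (i : Fin 2),
      (h : G) • dd i • α = ((h : G) * dd i * (h : G)⁻¹) • α := by
    intro h i
    have h1 : (h : G)⁻¹ • α = α := by rw [inv_smul_eq_iff]; exact h.2.symm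
    rw [mul_smul, mul_smul, h1]
  have hfinj : Function.Injective f := by
    rintro ⟨h, i⟩ ⟨h', i'⟩ hff
    have h1 : (h : G) • dd i • α = (h' : G) • dd i' • α := congrArg Subtype.val hff
    rw [hconjpt, hconjpt] at h1
    have h2 : (h : G) * dd i * (h : G)⁻¹ = (h' : G) * dd i' * (h' : G)⁻¹ :=
      eq_of_comm_of_smul_eq_smul N hc (hN.conj_mem _ (hddN i) _) (hN.conj_mem _ (hddN i') _) h1
    have hii : i = i' := by
      apply hddnc
      rw [isConj_iff]
      refine ⟨(h' : G)⁻¹ * (h : G), ?_⟩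
      calc (h' : G)⁻¹ * (h : G) * dd i * ((h' : G)⁻¹ * (h : G))⁻¹
          = (h' : G)⁻¹ * ((h : G) * dd i * (h : G)⁻¹) * (h' : G) := by group
        _ = (h' : G)⁻¹ * ((h' : G) * dd i' * (h' : G)⁻¹) * (h' : G) := by rw [h2]
        _ = dd i' := by group
    subst hii
    -- u = h'⁻¹ h fixes α and dd i • α
    have hu : ((h' : G)⁻¹ * (h : G)) * dd i = dd i * ((h' : G)⁻¹ * (h : G)) := by
      calc ((h' : G)⁻¹ * (h : G)) * dd i
          = (h' : G)⁻¹ * ((h : G) * dd i * (h : G)⁻¹) * (h : G) := by group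
        _ = (h' : G)⁻¹ * ((h' : G) * dd i * (h' : G)⁻¹) * (h : G) := by rw [h2]
        _ = dd i * ((h' : G)⁻¹ * (h : G)) := by group
    have huα : ((h' : G)⁻¹ * (h : G)) • α = α := by
      rw [mul_smul, h.2, inv_smul_eq_iff]; exact h'.2.symm
    have hu1 : (h' : G)⁻¹ * (h : G) = 1 := by
      by_contra hne
      apply hfrob _ hne α (dd i • α) (hmove i).symm huα
      rw [← mul_smul, hu, mul_smul, huα]
    have : (h : G) = (h' : G) := by
      calc (h : G) = (h' : G) * ((h' : G)⁻¹ * (h : G)) := by group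
        _ = (h' : G) := by rw [hu1, mul_one]
    rw [Prod.mk.injEq]
    exact ⟨Subtype.ext this, rfl⟩
  have hfsurj : Function.Surjective f := by
    rintro ⟨ω, hω⟩
    obtain ⟨x, hx⟩ := MulAction.exists_smul_eq N α ω
    have hx' : (x : G) • α = ω := hx
    have hx1 : (x : G) ≠ 1 := by
      intro h
      rw [h, one_smul] at hx'
      exact hω hx'.symm
    obtain ⟨i, hi⟩ := hddall _ x.2 hx1
    obtain ⟨g, hg⟩ := isConj_iff.1 hi
    obtain ⟨k, hk⟩ := MulAction.exists_smul_eq N α (g • α)
    have hk' : (k : G) • α = g • α := hk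
    have hhα : ((k : G)⁻¹ * g) • α = α := by rw [mul_smul, ← hk', inv_smul_smul]
    have hhx : ((k : G)⁻¹ * g) * dd i * ((k : G)⁻¹ * g)⁻¹ = (x : G) := by
      have h1 : ((k : G)⁻¹ * g) * dd i * ((k : G)⁻¹ * g)⁻¹ = (k : G)⁻¹ * (g * dd i * g⁻¹) * k := by
        group
      rw [h1, hg, mul_assoc, ← hc _ k.2 _ x.2, ← mul_assoc, inv_mul_cancel, one_mul]
    refine ⟨(⟨(k : G)⁻¹ * g, hhα⟩, i), Subtype.ext ?_⟩
    show ((k : G)⁻¹ * g) • dd i • α = ω
    rw [hconjpt ⟨(k : G)⁻¹ * g, hhα⟩ i]
    show (((k : G)⁻¹ * g) * dd i * ((k : G)⁻¹ * g)⁻¹) • α = ω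
    rw [hhx, hx']
  have hcard := Nat.card_congr (Equiv.ofBijective f ⟨hfinj, hfsurj⟩)
  rw [Nat.card_prod, Nat.card_fin] at hcard
  have h2 : Nat.card {ω : Ω // ω ≠ α} = Fintype.card Ω - 1 := by
    rw [Nat.card_eq_fintype_card, Fintype.card_subtype_compl, Fintype.card_subtype_eq]
  rw [h2] at hcard
  rw [← hcard, mul_comm]

end abelian2

end Cfsg.Agent.Lib.Helper59
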