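import Mathlib

/-!
# helper59: S4306 MODULES [M0] and [M4] (helper76, board #2494)

* `exists_frobenius_gens`: a nonabelian group of order `p * q` is generated by `f` of prime order
  `r` and `h` of prime order `s`, `h` normalizing `⟨f⟩` and not centralizing `f`.
* `dvd_sub_one_of_frobenius`: in that situation `s ∣ r - 1`.
-/

namespace Cfsg.Agent.Lib.Helper59.FrobGens

/-- [M4] of board #2494, exact statement. -/
theorem dvd_sub_one_of_frobenius {X : Type*} [Group X] {r s : ℕ} (hr : r.Prime) (hs : s.Prime)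
    (f h : X) (hf : f ^ r = 1) (hf1 : f ≠ 1) (hh : h ^ s = 1)
    (hnorm : h * f * h⁻¹ ∈ Subgroup.zpowers f) (hncomm : h * f ≠ f * h) : s ∣ r - 1 := by
  have : Fact r.Prime := ⟨hr⟩
  have : Fact s.Prime := ⟨hs⟩
  have hord : orderOf f = r := orderOf_eq_prime hf hf1
  have hr0 : 0 < r := hr.pos
  -- natural exponent
  obtain ⟨k, hk⟩ := Subgroup.mem_zpowers_iff.1 hnorm
  have hkmod : f ^ (k % (r : ℤ)) = f ^ k := by
    rw [← hord]; exact zpow_mod_orderOf f k
  have hnn : 0 ≤ k % (r : ℤ) := Int.emod_nonneg _ (by exact_mod_cast hr.ne_zero)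
  obtain ⟨n, hn⟩ := Int.eq_ofNat_of_zero_le hnn
  have hfn : f ^ n = h * f * h⁻¹ := by
    rw [← hk, ← hkmod, hn, zpow_natCast]
  -- iterate
  have hiter : ∀ j : ℕ, h ^ j * f * (h ^ j)⁻¹ = f ^ (n ^ j) := by
    intro j
    induction j with
    | zero => simp
    | succ j ih =>
      have : h ^ (j + 1) * f * (h ^ (j + 1))⁻¹ = h * (h ^ j * f * (h ^ j)⁻¹) * h⁻¹ := by
        rw [pow_succ']; group
      rw [this, ih]
      have hc : h * f ^ (n ^ j) * h⁻¹ = (h * f * h⁻¹) ^ (n ^ j) := by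
        rw [conj_pow]
      rw [hc, ← hfn, ← pow_mul, pow_succ, mul_comm]
  have hs1 : f ^ (n ^ s) = f ^ 1 := by
    rw [← hiter s, hh]; simp
  have hmod : n ^ s ≡ 1 [MOD r] := by
    rw [← hord]; exact pow_eq_pow_iff_modEq.1 hs1
  have hn1 : ¬ n ≡ 1 [MOD r] := by
    intro h1
    apply hncomm
    have : f ^ n = f ^ 1 := by
      rw [pow_eq_pow_iff_modEq, hord]; exact h1
    rw [pow_one, hfn] at this
    -- this : h * f * h⁻¹ = f
    calc h * f = (h * f * h⁻¹) * h := by group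
      _ = f * h := by rw [this]
  have hz : ((n : ZMod r)) ^ s = 1 := by
    have := (ZMod.natCast_eq_natCast_iff _ _ _).2 hmod
    simpa using this
  have hz1 : (n : ZMod r) ≠ 1 := by
    intro h1
    apply hn1
    have : ((n : ℕ) : ZMod r) = ((1 : ℕ) : ZMod r) := by simpa using h1
    exact (ZMod.natCast_eq_natCast_iff _ _ _).1 this
  have hunit : IsUnit (n : ZMod r) := IsUnit.of_pow_eq_one hz hs.ne_zero
  obtain ⟨u, hu⟩ := hunit
  have hus : u ^ s = 1 := by
    apply Units.ext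
    rw [Units.val_pow_eq_pow_val, hu, hz, Units.val_one]
  have hu1 : u ≠ 1 := by
    intro h1
    apply hz1
    rw [← hu, h1, Units.val_one]
  have hou : orderOf u = s := orderOf_eq_prime hus hu1
  have hcard : Fintype.card (ZMod r)ˣ = r - 1 := ZMod.card_units r
  rw [← hcard, ← hou]
  exact orderOf_dvd_card

private theorem gens_aux {A : Type*} [Group A] [Finite A] (r s : ℕ) (hr : r.Prime) (hs : s.Prime)
    (hsr : s < r) (hA : Nat.card A = r * s) (hAna : ¬ IsMulCommutative A) :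
    ∃ (f h : A), f ^ r = 1 ∧ f ≠ 1 ∧ h ^ s = 1 ∧ h ≠ 1 ∧ h * f * h⁻¹ ∈ Subgroup.zpowers f ∧
      h * f ≠ f * h ∧ Subgroup.closure {f, h} = ⊤ := by
  classical
  have : Fact r.Prime := ⟨hr⟩
  have : Fact s.Prime := ⟨hs⟩
  obtain ⟨f, hf⟩ := exists_prime_orderOf_dvd_card' (G := A) r (hA ▸ dvd_mul_right r s)
  obtain ⟨h, hh⟩ := exists_prime_orderOf_dvd_card' (G := A) s (hA ▸ dvd_mul_left s r)
  have hf1 : f ≠ 1 := by
    rintro rfl; rw [orderOf_one] at hf; exact hr.one_lt.ne hf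
  have hh1 : h ≠ 1 := by
    rintro rfl; rw [orderOf_one] at hh; exact hs.one_lt.ne hh
  have hfr : f ^ r = 1 := hf ▸ pow_orderOf_eq_one f
  have hhs : h ^ s = 1 := hh ▸ pow_orderOf_eq_one h
  -- ⟨f⟩ has index s = minFac
  have hcardF : Nat.card (Subgroup.zpowers f) = r := by rw [Nat.card_zpowers, hf]
  have hidx : (Subgroup.zpowers f).index = s := by
    have := Subgroup.card_mul_index (Subgroup.zpowers f)
    rw [hcardF, hA] at this
    exact Nat.eq_of_mul_eq_mul_left hr.pos this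
  have hmin : (Nat.card A).minFac = s := by
    rw [hA]
    have hne : r * s ≠ 1 := by
      have := hr.one_lt; have := hs.one_lt; nlinarith
    have hpm := Nat.minFac_prime hne
    have hle : (r * s).minFac ≤ s := Nat.minFac_le_of_dvd hs.two_le (dvd_mul_left s r)
    rcases (Nat.Prime.dvd_mul hpm).1 (Nat.minFac_dvd (r * s)) with h1 | h1
    · have := (Nat.prime_dvd_prime_iff_eq hpm hr).1 h1
      omega
    · exact (Nat.prime_dvd_prime_iff_eq hpm hs).1 h1
  have hnorm : (Subgroup.zpowers f).Normal :=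
    Subgroup.normal_of_index_eq_minFac_card (hidx.trans hmin.symm)
  have hconj : h * f * h⁻¹ ∈ Subgroup.zpowers f :=
    hnorm.conj_mem f (Subgroup.mem_zpowers f) h
  -- closure is everything
  have htop : Subgroup.closure ({f, h} : Set A) = ⊤ := by
    apply Subgroup.eq_top_of_card_eq
    have h1 : r ∣ Nat.card (Subgroup.closure ({f, h} : Set A)) := by
      rw [← hf]
      exact Subgroup.orderOf_dvd_natCard _ (Subgroup.subset_closure (by simp))
    have h2 : s ∣ Nat.card (Subgroup.closure ({f, h} : Set A)) := by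
      rw [← hh]
      exact Subgroup.orderOf_dvd_natCard _ (Subgroup.subset_closure (by simp))
    have hcop : Nat.Coprime r s := (Nat.coprime_primes hr hs).2 (by omega)
    have h3 : r * s ∣ Nat.card (Subgroup.closure ({f, h} : Set A)) :=
      hcop.mul_dvd_of_dvd_of_dvd h1 h2
    have h4 : Nat.card (Subgroup.closure ({f, h} : Set A)) ∣ Nat.card A :=
      Subgroup.card_subgroup_dvd_card _
    rw [hA] at h4 ⊢
    exact Nat.dvd_antisymm h4 h3
  refine ⟨f, h, hfr, hf1, hhs, hh1, hconj, ?_, htop⟩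
  intro hcomm
  apply hAna
  have hc : ∀ x ∈ ({f, h} : Set A), ∀ y ∈ ({f, h} : Set A), x * y = y * x := by
    intro x hx y hy
    simp only [Set.mem_insert_iff, Set.mem_singleton_iff] at hx hy
    rcases hx with rfl | rfl <;> rcases hy with rfl | rfl
    · rfl
    · exact hcomm.symm
    · exact hcomm
    · rfl
  have hcl : IsMulCommutative (Subgroup.closure ({f, h} : Set A)) :=
    Subgroup.isMulCommutative_closure hc
  refine ⟨⟨fun a b => ?_⟩⟩
  have ha : a ∈ Subgroup.closure ({f, h} : Set A) := htop ▸ Subgroup.mem_top a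
  have hb : b ∈ Subgroup.closure ({f, h} : Set A) := htop ▸ Subgroup.mem_top b
  have := hcl.is_comm.comm (⟨a, ha⟩ : Subgroup.closure ({f, h} : Set A)) ⟨b, hb⟩
  exact congrArg Subtype.val this

/-- [M0] of board #2494, exact statement. -/
theorem exists_frobenius_gens {A : Type*} [Group A] [Finite A] (p q : ℕ) (hp : p.Prime)
    (hq : q.Prime) (hpq : p ≠ q) (hA : Nat.card A = p * q) (hAna : ¬ IsMulCommutative A) :
    ∃ (r s : ℕ) (f h : A), r.Prime ∧ s.Prime ∧ r ≠ s ∧ r * s = p * q ∧ f ^ r = 1 ∧ f ≠ 1 ∧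
      h ^ s = 1 ∧ h ≠ 1 ∧ h * f * h⁻¹ ∈ Subgroup.zpowers f ∧ h * f ≠ f * h ∧
      Subgroup.closure {f, h} = ⊤ := by
  rcases lt_or_gt_of_ne hpq with hlt | hlt
  · -- p < q : r = q, s = p
    obtain ⟨f, h, h1, h2, h3, h4, h5, h6, h7⟩ :=
      gens_aux q p hq hp hlt (by rw [hA, mul_comm]) hAna
    exact ⟨q, p, f, h, hq, hp, hpq.symm, mul_comm q p, h1, h2, h3, h4, h5, h6, h7⟩
  · obtain ⟨f, h, h1, h2, h3, h4, h5, h6, h7⟩ := gens_aux p q hp hq hlt hA hAna
    exact ⟨p, q, f, h, hp, hq, hpq, rfl, h1, h2, h3, h4, h5, h6, h7⟩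

end Cfsg.Agent.Lib.Helper59.FrobGens
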