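import Mathlib
import Cfsg.Prelude.Def_Perm
import Cfsg.Agent.S0683
import Cfsg.Agent.Lib.Helper59.MoebiusBasic
import Cfsg.Agent.Lib.Helper59.NearFieldAlg
import Cfsg.Agent.Lib.Helper19.KTSetup

/-!
# Sharply 3-transitive groups of even degree with abelian two-point stabilizers are `PGL₂(F)`
(helper59; module `S3043-[A6-pgl]` of helper90's S3043 project)

Adapted from `Cfsg.Agent.S0730.main`.  The near-field on `α ∖ {∞}` is commutative because the
two-point stabilizer is abelian, hence a field (of odd order, so of characteristic `≠ 2`), and a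
multiplicative involution `τ` of a field of characteristic `≠ 2` fixing only `±1` and satisfying
the identity coming from an element of order three is the inversion.
-/

set_option autoImplicit false

namespace Cfsg.Agent.Lib.Helper59.TIInvA6pgl

open Cfsg Cfsg.Agent.Lib.Helper59 Cfsg.Agent.Lib.Helper19.KTAlg
open scoped MatrixGroups LinearAlgebra.Projectivization

/-- a finite field of odd order has characteristic `≠ 2` -/
theorem two_ne_zero_of_odd_card {K : Type*} [Field K] [Fintype K]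
    (hodd : Odd (Fintype.card K)) : (1 : K) + 1 ≠ 0 := by
  intro h
  have h2 : ((2 : ℕ) : K) = 0 := by
    rw [Nat.cast_ofNat, ← one_add_one_eq_two]
    exact h
  have hc : ringChar K = 2 := CharP.ringChar_of_prime_eq_zero Nat.prime_two h2
  have h3 := FiniteField.even_card_of_char_two hc
  obtain ⟨r, hr⟩ := hodd
  omega

/-- **Algebraic core.**  In a field of characteristic `≠ 2`, a multiplicative involution `τ` of
the non-zero elements fixing only `±1` and satisfying the order-three identity is the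
inversion. -/
theorem tau_eq_inv {K : Type*} [Field K] (h2 : (1 : K) + 1 ≠ 0) (τ : K → K)
    (h1 : τ 1 = 1)
    (hmul : ∀ x a : K, x ≠ 0 → a ≠ 0 → τ (x * a) = τ x * τ a)
    (hne : ∀ a : K, a ≠ 0 → τ a ≠ 0) (hinv : ∀ a : K, a ≠ 0 → τ (τ a) = a)
    (hfix : ∀ a : K, a ≠ 0 → τ a = a → a = 1 ∨ a = -1)
    (hKT : ∀ x : K, x ≠ 0 → x ≠ 1 →
      τ (τ x * (-1) + 1) * (-1) + 1 = τ ((x + -1) * (-1))) :
    ∀ a : K, a ≠ 0 → a * τ a = 1 := by
  have h2' : (2 : K) ≠ 0 := by
    intro h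
    apply h2
    rw [one_add_one_eq_two]
    exact h
  have hm1 : (-1 : K) ≠ 0 := neg_ne_zero.2 one_ne_zero
  have hm1' : (-1 : K) ≠ 1 := by
    intro h
    apply h2
    calc (1 : K) + 1 = -1 + 1 := by rw [h]
      _ = 0 := neg_add_cancel 1
  -- the character `e a = τ a * a` takes the values `±1`
  have he : ∀ a : K, a ≠ 0 → τ a * a = 1 ∨ τ a * a = -1 := by
    intro a ha
    apply hfix _ (mul_ne_zero (hne a ha) ha)
    rw [hmul _ _ (hne a ha) ha, hinv a ha, mul_comm]
  have hemul : ∀ a b : K, a ≠ 0 → b ≠ 0 → τ (a * b) * (a * b) = (τ a * a) * (τ b * b) := by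
    intro a b ha hb
    rw [hmul a b ha hb]
    ring
  -- `τ (-1) = -1`
  have hτm1 : τ (-1) = -1 := by
    rcases he (-1) hm1 with h | h
    · have : τ (-1) = -1 := by linear_combination (-1 : K) * h
      exact this
    · exfalso
      have h3 : τ (-1) = 1 := by linear_combination (-1 : K) * h
      have h4 := hinv (-1) hm1
      rw [h3, h1] at h4
      exact hm1' h4.symm
  by_contra hcon
  push Not at hcon
  obtain ⟨n₀, hn₀, hn₀'⟩ := hcon
  set S : K → Prop := fun a => τ a * a = 1 with hS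
  have hS1 : S 1 := by
    show τ 1 * 1 = 1
    rw [h1, mul_one]
  have hSm1 : S (-1) := by
    show τ (-1) * (-1) = 1
    rw [hτm1]
    ring
  have hSmul : ∀ a b : K, a ≠ 0 → b ≠ 0 → S a → S b → S (a * b) := by
    intro a b ha hb hsa hsb
    show τ (a * b) * (a * b) = 1
    rw [hemul a b ha hb, hsa, hsb, mul_one]
  have hτS : ∀ a : K, a ≠ 0 → S a → τ a * a = 1 := fun a _ h => h
  have hτN : ∀ a : K, a ≠ 0 → ¬ S a → τ a * a = -1 := by
    intro a ha hs
    rcases he a ha with h | h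
    · exact absurd h hs
    · exact h
  have hSne : ∀ a : K, S a → a ≠ 0 := by
    rintro a hs rfl
    have : τ 0 * (0 : K) = 1 := hs
    rw [mul_zero] at this
    exact zero_ne_one this
  -- no witness for `field_KT_contra`
  have hH : ∀ x : K, x ≠ 0 → ¬ S x → 1 + -x ≠ 0 → ¬ S (1 + -x) := by
    intro x hx0 hxN h1x hx1
    exact field_KT_contra (K := K) h2 τ S hSm1 hτS hτN hKT x hx0 hxN hx1 h1x
  -- the set `T = S ∪ {0}`
  set T : K → Prop := fun x => x = 0 ∨ S x with hT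
  have hT1 : ∀ x : K, T x → T (1 + -x) := by
    intro x hx
    rcases hx with rfl | hx
    · right
      rw [neg_zero, add_zero]
      exact hS1
    · by_contra hnT
      have hy0 : 1 + -x ≠ 0 := fun h => hnT (Or.inl h)
      have hyS : ¬ S (1 + -x) := fun h => hnT (Or.inr h)
      have hxx : 1 + -(1 + -x) = x := by ring
      have := hH (1 + -x) hy0 hyS (by rw [hxx]; exact hSne x hx)
      rw [hxx] at this
      exact this hx
  have hTneg : ∀ x : K, T x → T (-x) := by
    intro x hx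
    rcases hx with rfl | hx
    · left
      exact neg_zero
    · right
      have := hSmul (-1) x hm1 (hSne x hx) hSm1 hx
      rwa [neg_one_mul] at this
  have hTsub : ∀ x : K, T x → T (x + -1) := by
    intro x hx
    have := hTneg _ (hT1 x hx)
    have hxx : -(1 + -x) = x + -1 := by ring
    rwa [hxx] at this
  have hn₀S : ¬ S n₀ := by
    intro h
    apply hn₀'
    have : τ n₀ * n₀ = 1 := h
    rw [mul_comm]
    exact this
  have hen₀ : τ n₀ * n₀ = -1 := hτN n₀ hn₀ hn₀S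
  have hinv₀ : n₀⁻¹ ≠ 0 := inv_ne_zero hn₀
  have heinv : τ n₀⁻¹ * n₀⁻¹ = -1 := by
    have h3 := hemul n₀⁻¹ n₀ hinv₀ hn₀
    rw [inv_mul_cancel₀ hn₀, h1, one_mul, hen₀] at h3
    linear_combination h3
  by_cases hc : T (1 + n₀)
  · have h3 := hTsub _ hc
    have hxx : 1 + n₀ + -1 = n₀ := by ring
    rw [hxx] at h3
    rcases h3 with h3 | h3
    · exact hn₀ h3
    · exact hn₀S h3
  · have hy0 : 1 + n₀ ≠ 0 := fun h => hc (Or.inl h)
    have hyS : ¬ S (1 + n₀) := fun h => hc (Or.inr h)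
    have hey : τ (1 + n₀) * (1 + n₀) = -1 := hτN _ hy0 hyS
    have hs : S (n₀⁻¹ * (1 + n₀)) := by
      show τ (n₀⁻¹ * (1 + n₀)) * (n₀⁻¹ * (1 + n₀)) = 1
      rw [hemul _ _ hinv₀ hy0, heinv, hey]
      ring
    have h3 := hTsub _ (Or.inr hs)
    have hxx : n₀⁻¹ * (1 + n₀) + -1 = n₀⁻¹ := by
      rw [mul_add, mul_one, inv_mul_cancel₀ hn₀, add_neg_cancel_right]
    rw [hxx] at h3
    rcases h3 with h3 | h3
    · exact hinv₀ h3
    · have h4 : τ n₀⁻¹ * n₀⁻¹ = 1 := h3
      rw [heinv] at h4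
      exact hm1' h4


/-- **Module `S3043-[A6-pgl]`.**  A sharply 3-transitive permutation group of even degree `≥ 4`
whose two-point stabilizers are abelian is `PGL₂(F)` acting on the projective line. -/
theorem pgl2_of_sharply3_abelian {α : Type} [Fintype α] [DecidableEq α]
    (K : Subgroup (Equiv.Perm α)) (hcard : 4 ≤ Fintype.card α) (hev : Even (Fintype.card α))
    (T3 : ∀ a b c a' b' c' : α, a ≠ b → a ≠ c → b ≠ c → a' ≠ b' → a' ≠ c' → b' ≠ c' →
      ∃ g ∈ K, g a = a' ∧ g b = b' ∧ g c = c')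
    (S3 : ∀ g ∈ K, ∀ a b c : α, a ≠ b → a ≠ c → b ≠ c → g a = a → g b = b → g c = c → g = 1)
    (hab : ∀ a b : α, a ≠ b → ∀ g ∈ K, ∀ g' ∈ K, g a = a → g b = b → g' a = a → g' b = b →
      g * g' = g' * g) :
    ∃ (F : Type) (_ : Field F) (_ : Fintype F), Fintype.card F + 1 = Fintype.card α ∧
      Nonempty (K ≃* Matrix.ProjGenLinGroup (Fin 2) F) := by
  classical
  have hne : Nonempty α := by
    rw [← Fintype.card_pos_iff]; omega
  obtain ⟨inf⟩ := hne
  -- the remaining points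
  have hβcard : Fintype.card {x : α // x ≠ inf} + 1 = Fintype.card α := by
    have := Fintype.card_congr (Equiv.optionSubtypeNe inf)
    rw [Fintype.card_option] at this
    exact this
  have hβodd : Odd (Fintype.card {x : α // x ≠ inf}) := by
    obtain ⟨r, hr⟩ := hev
    exact ⟨r - 1, by omega⟩
  -- restriction of an element fixing `inf`
  have hres : ∀ g : Equiv.Perm α, g inf = inf → ∀ x : α, g x ≠ inf ↔ x ≠ inf := by
    intro g hg x
    rw [not_iff_not]
    constructor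
    · intro h
      apply g.injective
      rw [h, hg]
    · intro h
      rw [h, hg]
  -- the point stabilizer, as a permutation group on the remaining points
  let H : Subgroup (Equiv.Perm {x : α // x ≠ inf}) :=
    { carrier := {σ | ∃ g ∈ K, g inf = inf ∧ ∀ x : {x : α // x ≠ inf}, (σ x : α) = g x}
      one_mem' := ⟨1, K.one_mem, rfl, fun x => rfl⟩
      mul_mem' := by
        rintro σ₁ σ₂ ⟨g₁, hg₁, h₁, h₁'⟩ ⟨g₂, hg₂, h₂, h₂'⟩
        refine ⟨g₁ * g₂, K.mul_mem hg₁ hg₂, by simp [h₁, h₂], fun x => ?_⟩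
        simp [h₁', h₂']
      inv_mem' := by
        rintro σ ⟨g, hg, h, h'⟩
        refine ⟨g⁻¹, K.inv_mem hg, ?_, fun x => ?_⟩
        · rw [Equiv.Perm.inv_eq_iff_eq]; exact h.symm
        · rw [Equiv.Perm.eq_inv_iff_eq, ← h']; simp }
  have hHmem : ∀ σ : Equiv.Perm {x : α // x ≠ inf}, σ ∈ H ↔
      ∃ g ∈ K, g inf = inf ∧ ∀ x : {x : α // x ≠ inf}, (σ x : α) = g x := fun σ => Iff.rfl
  have hHres : ∀ g ∈ K, ∀ hg : g inf = inf, g.subtypePerm (hres g hg) ∈ H := by
    intro g hgG hg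
    exact ⟨g, hgG, hg, fun x => rfl⟩
  -- H is sharply 2-transitive
  have h2H : MulAction.IsMultiplyPretransitive H {x : α // x ≠ inf} 2 := by
    rw [MulAction.is_two_pretransitive_iff]
    intro a b c d hab hcd
    obtain ⟨g, hgG, hg0, hga, hgb⟩ := T3 inf a b inf c d (Ne.symm a.2) (Ne.symm b.2)
      (fun h => hab (Subtype.ext h)) (Ne.symm c.2) (Ne.symm d.2) (fun h => hcd (Subtype.ext h))
    refine ⟨⟨g.subtypePerm (hres g hg0), hHres g hgG hg0⟩, ?_, ?_⟩
    · apply Subtype.ext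
      exact hga
    · apply Subtype.ext
      exact hgb
  have hsharpH : ∀ x : Fin 2 ↪ {x : α // x ≠ inf}, MulAction.stabilizer H x = ⊥ := by
    intro x
    rw [eq_bot_iff]
    rintro ⟨σ, hσ⟩ hs
    rw [Subgroup.mem_bot]
    rw [MulAction.mem_stabilizer_iff] at hs
    have h0 : σ (x 0) = x 0 := DFunLike.congr_fun hs 0
    have h1 : σ (x 1) = x 1 := DFunLike.congr_fun hs 1
    obtain ⟨g, hgG, hg0, hgx⟩ := hσ
    have hne01 : x 0 ≠ x 1 := fun h => by simpa using x.injective h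
    have hg1 : g = 1 := S3 g hgG inf (x 0) (x 1) (Ne.symm (x 0).2) (Ne.symm (x 1).2)
      (fun h => hne01 (Subtype.ext h)) hg0 (by rw [← hgx, h0]) (by rw [← hgx, h1])
    apply Subtype.ext
    ext y
    show ((σ y : {x : α // x ≠ inf}) : α) = y
    rw [hgx, hg1]
    rfl
  obtain ⟨nf, hH⟩ := Cfsg.Agent.S0683.result H hsharpH (by omega)
  let _ : NearField {x : α // x ≠ inf} := nf
  -- affine maps come from `K`, and conversely
  have hA : ∀ a b : {x : α // x ≠ inf}, a ≠ 0 → ∃ g ∈ K, g inf = inf ∧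
      ∀ x : {x : α // x ≠ inf}, g x = ((x * a + b : {x : α // x ≠ inf}) : α) := by
    intro a b ha
    have h1 : nfAff a b ha ∈ H := (hH _).mpr ⟨a, b, ha, fun x => rfl⟩
    obtain ⟨g, hgG, hg0, hgx⟩ := h1
    exact ⟨g, hgG, hg0, fun x => (hgx x).symm⟩
  have hB : ∀ g ∈ K, g inf = inf → ∃ a b : {x : α // x ≠ inf}, a ≠ 0 ∧
      ∀ x : {x : α // x ≠ inf}, g x = ((x * a + b : {x : α // x ≠ inf}) : α) := by
    intro g hgG hg0
    obtain ⟨a, b, ha, hab⟩ := (hH _).mp (hHres g hgG hg0)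
    refine ⟨a, b, ha, fun x => ?_⟩
    rw [← hab x]
    rfl
  -- the points 0 and 1
  have hzo : ((0 : {x : α // x ≠ inf}) : α) ≠ ((1 : {x : α // x ≠ inf}) : α) :=
    fun h => NearField.zero_ne_one (Subtype.ext h)
  obtain ⟨t, htG, ht1, ht2, ht3⟩ := T3 inf ((0 : {x : α // x ≠ inf}) : α)
    ((1 : {x : α // x ≠ inf}) : α) ((0 : {x : α // x ≠ inf}) : α) inf
    ((1 : {x : α // x ≠ inf}) : α)
    (Ne.symm (0 : {x : α // x ≠ inf}).2) (Ne.symm (1 : {x : α // x ≠ inf}).2) hzo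
    ((0 : {x : α // x ≠ inf}).2) hzo (Ne.symm (1 : {x : α // x ≠ inf}).2)
  have htt : t * t = 1 := by
    apply S3 (t * t) (K.mul_mem htG htG) inf ((0 : {x : α // x ≠ inf}) : α)
      ((1 : {x : α // x ≠ inf}) : α) (Ne.symm (0 : {x : α // x ≠ inf}).2)
      (Ne.symm (1 : {x : α // x ≠ inf}).2) hzo
    · rw [Equiv.Perm.mul_apply, ht1, ht2]
    · rw [Equiv.Perm.mul_apply, ht2, ht1]
    · rw [Equiv.Perm.mul_apply, ht3, ht3]
  have htx : ∀ x : α, t (t x) = x := by
    intro x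
    rw [← Equiv.Perm.mul_apply, htt]
    rfl
  have ht_ne_one : t ≠ 1 := by
    intro h
    rw [h] at ht1
    exact (0 : {x : α // x ≠ inf}).2 ht1.symm
  -- t has at most two fixed points
  have hfix3 : ∀ x y : α, t x = x → t y = y → x ≠ ((1 : {x : α // x ≠ inf}) : α) →
      y ≠ ((1 : {x : α // x ≠ inf}) : α) → x = y := by
    intro x y hx hy hx1 hy1
    by_contra hxy
    exact ht_ne_one (S3 t htG _ x y (Ne.symm hx1) (Ne.symm hy1) hxy ht3 hx hy)
  -- the restriction of t to the non-zero elements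
  have htne : ∀ a : {x : α // x ≠ inf}, a ≠ 0 → t a ≠ inf := by
    intro a ha h
    apply ha
    apply Subtype.ext
    have := htx a
    rw [h, ht1] at this
    exact this.symm
  let τ : {x : α // x ≠ inf} → {x : α // x ≠ inf} := fun a => if h : a = 0 then 0 else ⟨t a, htne a h⟩
  have hτcoe : ∀ a : {x : α // x ≠ inf}, a ≠ 0 → ((τ a : {x : α // x ≠ inf}) : α) = t a := by
    intro a ha
    show ((if h : a = 0 then (0 : {x : α // x ≠ inf}) else ⟨t a, htne a h⟩ : {x : α // x ≠ inf}) : α) = t a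
    rw [dif_neg ha]
  have hτne : ∀ a : {x : α // x ≠ inf}, a ≠ 0 → τ a ≠ 0 := by
    intro a ha h
    have h1 := hτcoe a ha
    rw [h] at h1
    have h2 := htx a
    rw [← h1, ht2] at h2
    exact a.2 h2.symm
  have hτinv : ∀ a : {x : α // x ≠ inf}, a ≠ 0 → τ (τ a) = a := by
    intro a ha
    apply Subtype.ext
    rw [hτcoe (τ a) (hτne a ha), hτcoe a ha, htx]
  have hτ1 : τ 1 = 1 := by
    apply Subtype.ext
    rw [hτcoe 1 (Ne.symm NearField.zero_ne_one), ht3]
  have hτ0 : τ 0 = 0 := by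
    show (if h : (0 : {x : α // x ≠ inf}) = 0 then (0 : {x : α // x ≠ inf}) else ⟨t (0 : {x : α // x ≠ inf}), htne 0 h⟩) = 0
    rw [dif_pos rfl]
  have hτmul : ∀ x a : {x : α // x ≠ inf}, x ≠ 0 → a ≠ 0 → τ (x * a) = τ x * τ a := by
    intro x a hx ha
    obtain ⟨g, hgG, hg0, hgx⟩ := hA a 0 ha
    have hkG : t * g * t ∈ K := K.mul_mem (K.mul_mem htG hgG) htG
    have hk0 : (t * g * t) inf = inf := by
      rw [Equiv.Perm.mul_apply, Equiv.Perm.mul_apply, ht1, hgx, nf_zero_mul, add_zero, ht2]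
    obtain ⟨a', b', ha', hk⟩ := hB _ hkG hk0
    have hkz : (t * g * t) ((0 : {x : α // x ≠ inf}) : α) = ((0 : {x : α // x ≠ inf}) : α) := by
      rw [Equiv.Perm.mul_apply, Equiv.Perm.mul_apply, ht2, hg0, ht1]
    have hb' : b' = 0 := by
      have h1 := hk 0
      rw [hkz, nf_zero_mul, zero_add] at h1
      exact (Subtype.ext h1).symm
    have hke : (t * g * t) ((1 : {x : α // x ≠ inf}) : α) = ((τ a : {x : α // x ≠ inf}) : α) := by
      rw [Equiv.Perm.mul_apply, Equiv.Perm.mul_apply, ht3, hgx, one_mul, add_zero, hτcoe a ha]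
    have ha'eq : a' = τ a := by
      have h1 := hk 1
      rw [hke, one_mul, hb', add_zero] at h1
      exact (Subtype.ext h1).symm
    have hxa : x * a ≠ 0 := nf_mul_ne_zero hx ha
    have h1 := hk (τ x)
    rw [hb', add_zero, ha'eq] at h1
    have h2 : (t * g * t) ((τ x : {x : α // x ≠ inf}) : α) = ((τ (x * a) : {x : α // x ≠ inf}) : α) := by
      rw [Equiv.Perm.mul_apply, Equiv.Perm.mul_apply, hτcoe x hx, htx, hgx, add_zero,
        hτcoe (x * a) hxa]
    rw [h2] at h1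
    exact Subtype.ext h1
  -- the multiplication is commutative, as the two-point stabilizers are abelian
  have hcomm : ∀ a b : {x : α // x ≠ inf}, a * b = b * a := by
    intro a b
    by_cases ha : a = 0
    · rw [ha, nf_zero_mul, NearField.mul_zero]
    by_cases hb : b = 0
    · rw [hb, nf_zero_mul, NearField.mul_zero]
    obtain ⟨ga, hgaK, hga0, hgax⟩ := hA a 0 ha
    obtain ⟨gb, hgbK, hgb0, hgbx⟩ := hA b 0 hb
    have hgaz : ga ((0 : {x : α // x ≠ inf}) : α) = ((0 : {x : α // x ≠ inf}) : α) := by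
      rw [hgax, nf_zero_mul, add_zero]
    have hgbz : gb ((0 : {x : α // x ≠ inf}) : α) = ((0 : {x : α // x ≠ inf}) : α) := by
      rw [hgbx, nf_zero_mul, add_zero]
    have h1 := hab inf ((0 : {x : α // x ≠ inf}) : α) (Ne.symm (0 : {x : α // x ≠ inf}).2)
      gb hgbK ga hgaK hgb0 hgbz hga0 hgaz
    have hL : (gb * ga) ((1 : {x : α // x ≠ inf}) : α) = ((a * b : {x : α // x ≠ inf}) : α) := by
      rw [Equiv.Perm.mul_apply, hgax, one_mul, add_zero, hgbx, add_zero]
    have hR : (ga * gb) ((1 : {x : α // x ≠ inf}) : α) = ((b * a : {x : α // x ≠ inf}) : α) := by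
      rw [Equiv.Perm.mul_apply, hgbx, one_mul, add_zero, hgax, add_zero]
    rw [h1, hR] at hL
    exact (Subtype.ext hL).symm
  have hadd : ∀ x y : {x : α // x ≠ inf}, x + y = y + x := by
    intro x y
    let _ : Field {x : α // x ≠ inf} := fieldOfNearField hcomm
    exact add_comm x y
  have h2 : (1 : {x : α // x ≠ inf}) + 1 ≠ 0 := by
    let _ : Field {x : α // x ≠ inf} := fieldOfNearField hcomm
    exact two_ne_zero_of_odd_card (K := {x : α // x ≠ inf}) hβodd
  -- `τ` fixes `-1`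
  have hm1 : (-1 : {x : α // x ≠ inf}) ≠ 0 := neg_one_ne_zero_nf
  have hτm1 : τ (-1) = -1 := by
    have h : τ (-1) * τ (-1) = 1 := by
      rw [← hτmul _ _ hm1 hm1, neg_one_mul_neg_one_nf, hτ1]
    rcases sq_eq_one_nf hadd h with h' | h'
    · exfalso
      have h3 := hτinv _ hm1
      rw [h', hτ1] at h3
      exact neg_one_ne_one_nf h2 h3.symm
    · exact h'
  have hτfix : ∀ a : {x : α // x ≠ inf}, a ≠ 0 → τ a = a → a = 1 ∨ a = -1 := by
    intro a ha h
    by_cases ha1 : a = 1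
    · exact Or.inl ha1
    · right
      apply Subtype.ext
      apply hfix3
      · rw [← hτcoe a ha, h]
      · rw [← hτcoe _ hm1, hτm1]
      · exact fun h' => ha1 (Subtype.ext h')
      · exact fun h' => neg_one_ne_one_nf h2 (Subtype.ext h')
  -- the element of order three
  obtain ⟨gn, hgnG, hgn0, hgnx⟩ := hA (-1) 0 hm1
  obtain ⟨gp, hgpG, hgp0, hgpx⟩ := hA 1 1 (Ne.symm NearField.zero_ne_one)
  set g : Equiv.Perm α := gp * gn * t with hg
  have hgG : g ∈ K := K.mul_mem (K.mul_mem hgpG hgnG) htG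
  have hg_inf : g inf = ((1 : {x : α // x ≠ inf}) : α) := by
    rw [hg, Equiv.Perm.mul_apply, Equiv.Perm.mul_apply, ht1, hgnx, hgpx, nf_zero_mul, zero_add,
      nf_zero_mul, zero_add]
  have hg_zero : g ((0 : {x : α // x ≠ inf}) : α) = inf := by
    rw [hg, Equiv.Perm.mul_apply, Equiv.Perm.mul_apply, ht2, hgn0, hgp0]
  have hg_one : g ((1 : {x : α // x ≠ inf}) : α) = ((0 : {x : α // x ≠ inf}) : α) := by
    rw [hg, Equiv.Perm.mul_apply, Equiv.Perm.mul_apply, ht3, hgnx, hgpx, one_mul, add_zero,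
      mul_one, neg_add_cancel]
  have hg3 : g * g * g = 1 := by
    apply S3 (g * g * g) (K.mul_mem (K.mul_mem hgG hgG) hgG) inf ((0 : {x : α // x ≠ inf}) : α)
      ((1 : {x : α // x ≠ inf}) : α) (Ne.symm (0 : {x : α // x ≠ inf}).2)
      (Ne.symm (1 : {x : α // x ≠ inf}).2) hzo
    · rw [Equiv.Perm.mul_apply, Equiv.Perm.mul_apply, hg_inf, hg_one, hg_zero]
    · rw [Equiv.Perm.mul_apply, Equiv.Perm.mul_apply, hg_zero, hg_inf, hg_one]
    · rw [Equiv.Perm.mul_apply, Equiv.Perm.mul_apply, hg_one, hg_zero, hg_inf]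
  have hgval : ∀ x : {x : α // x ≠ inf}, x ≠ 0 →
      g (x : α) = ((τ x * (-1) + 1 : {x : α // x ≠ inf}) : α) := by
    intro x hx
    rw [hg, Equiv.Perm.mul_apply, Equiv.Perm.mul_apply, ← hτcoe x hx, hgnx, hgpx, add_zero,
      mul_one]
  have hKT : ∀ x : {x : α // x ≠ inf}, x ≠ 0 → x ≠ 1 →
      τ (τ x * (-1) + 1) * (-1) + 1 = τ ((x + -1) * (-1)) := by
    intro x hx0 hx1
    have hν0 : τ x * (-1) + 1 ≠ 0 := by
      intro h
      apply hx1
      apply Subtype.ext
      apply g.injective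
      rw [hg_one, hgval x hx0, h]
    have hw0 : (x + -1) * (-1) ≠ 0 := by
      apply nf_mul_ne_zero _ hm1
      intro h
      exact hx1 (eq_neg_of_add_eq_zero_left h ▸ (neg_neg (1 : {x : α // x ≠ inf})))
    have hτw0 := hτne _ hw0
    have h1 : g (((τ ((x + -1) * (-1))) : {x : α // x ≠ inf}) : α) = (x : α) := by
      rw [hgval _ hτw0, hτinv _ hw0, mul_assoc, neg_one_mul_neg_one_nf, mul_one,
        neg_add_cancel_right]
    have h3 : g (g (g (x : α))) = (x : α) := by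
      have := congrArg (fun σ : Equiv.Perm α => σ (x : α)) hg3
      simpa only [Equiv.Perm.mul_apply, Equiv.Perm.one_apply] using this
    have h4 : g (g (x : α)) = (((τ ((x + -1) * (-1))) : {x : α // x ≠ inf}) : α) := by
      apply g.injective
      rw [h3, h1]
    rw [hgval x hx0, hgval _ hν0] at h4
    exact Subtype.ext h4
  have hτinv' : ∀ a : {x : α // x ≠ inf}, a ≠ 0 → a * τ a = 1 := by
    let _ : Field {x : α // x ≠ inf} := fieldOfNearField hcomm
    exact tau_eq_inv (K := {x : α // x ≠ inf}) h2 τ hτ1 hτmul hτne hτinv hτfix hKT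
  -- the field
  let fld : Field {x : α // x ≠ inf} := fieldOfNearField hcomm
  refine ⟨{x : α // x ≠ inf}, fld, inferInstance, hβcard, ?_⟩
  -- the projective line
  let ε : α ≃ ℙ {x : α // x ≠ inf} (Fin 2 → {x : α // x ≠ inf}) := (Equiv.optionSubtypeNe inf).symm.trans (lineEquiv {x : α // x ≠ inf})
  have hε0 : ε inf = infPt {x : α // x ≠ inf} := by
    show lineEquiv {x : α // x ≠ inf} ((Equiv.optionSubtypeNe inf).symm inf) = _
    rw [Equiv.optionSubtypeNe_symm_self]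
    rfl
  have hεx : ∀ x : {x : α // x ≠ inf}, ε (x : α) = finPt x := by
    intro x
    show lineEquiv {x : α // x ≠ inf} ((Equiv.optionSubtypeNe inf).symm (x : α)) = _
    rw [Equiv.optionSubtypeNe_symm_of_ne x.2]
    rfl
  have hεs0 : ε.symm (infPt {x : α // x ≠ inf}) = inf := by rw [Equiv.symm_apply_eq, hε0]
  have hεsx : ∀ x : {x : α // x ≠ inf}, ε.symm (finPt x) = (x : α) := by
    intro x; rw [Equiv.symm_apply_eq, hεx]
  -- Möbius maps
  have hmul : ∀ (g₁ g₂ : Equiv.Perm α) (m₁ m₂ : PGL(Fin 2, {x : α // x ≠ inf})),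
      (∀ y, ε (g₁ y) = m₁ • ε y) → (∀ y, ε (g₂ y) = m₂ • ε y) →
      ∀ y, ε ((g₁ * g₂) y) = (m₁ * m₂) • ε y := by
    intro g₁ g₂ m₁ m₂ h₁ h₂ y
    rw [Equiv.Perm.mul_apply, h₁, h₂, mul_smul]
  have haff : ∀ g ∈ K, g inf = inf → ∃ m : PGL(Fin 2, {x : α // x ≠ inf}), ∀ y, ε (g y) = m • ε y := by
    intro g hgG hg0
    obtain ⟨a, b, ha, hab⟩ := hB g hgG hg0
    refine ⟨affPGL a b ha, fun y => ?_⟩
    by_cases hy : y = inf
    · rw [hy, hg0, hε0, affPGL_infPt]
    · have h1 := hab ⟨y, hy⟩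
      have h2 : ε y = finPt (⟨y, hy⟩ : {x : α // x ≠ inf}) := hεx ⟨y, hy⟩
      have h3 : g y = (((⟨y, hy⟩ : {x : α // x ≠ inf}) * a + b : {x : α // x ≠ inf}) : α) := h1
      rw [h2, h3, hεx, affPGL_finPt]
      congr 1
      exact congrArg (· + b) (hcomm _ _)
  have hswap : ∀ y, ε (t y) = swapPGL {x : α // x ≠ inf} • ε y := by
    intro y
    by_cases hy : y = inf
    · rw [hy, ht1, hε0, swapPGL_infPt]
      exact hεx 0
    · by_cases hy0 : (⟨y, hy⟩ : {x : α // x ≠ inf}) = 0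
      · have h1 : y = ((0 : {x : α // x ≠ inf}) : α) := congrArg Subtype.val hy0
        rw [h1, ht2, hε0]
        have h2 : ε ((0 : {x : α // x ≠ inf}) : α) = finPt (0 : {x : α // x ≠ inf}) := hεx 0
        rw [h2]
        exact swapPGL_zero.symm
      · have h2 : ε y = finPt (⟨y, hy⟩ : {x : α // x ≠ inf}) := hεx ⟨y, hy⟩
        have h3 : t y = ((τ ⟨y, hy⟩ : {x : α // x ≠ inf}) : α) := (hτcoe ⟨y, hy⟩ hy0).symm
        rw [h2, h3, hεx, swapPGL_finPt _ hy0]
        congr 1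
        exact eq_inv_of_mul_eq_one_right (hτinv' _ hy0)
  have hgen : ∀ g ∈ K, ∃ m : PGL(Fin 2, {x : α // x ≠ inf}), ∀ y, ε (g y) = m • ε y := by
    intro g hgG
    by_cases hg0 : g inf = inf
    · exact haff g hgG hg0
    · -- g = u₁ t u₂
      obtain ⟨u₁, hu₁G, hu₁0, hu₁x⟩ := hA 1 ⟨g inf, hg0⟩ (Ne.symm NearField.zero_ne_one)
      have hu₁z : u₁ ((0 : {x : α // x ≠ inf}) : α) = g inf := by
        rw [hu₁x, nf_zero_mul, zero_add]
      have hu₂G : (u₁ * t)⁻¹ * g ∈ K := K.mul_mem (K.inv_mem (K.mul_mem hu₁G htG)) hgG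
      have hu₂0 : ((u₁ * t)⁻¹ * g) inf = inf := by
        rw [Equiv.Perm.mul_apply, Equiv.Perm.inv_eq_iff_eq, Equiv.Perm.mul_apply, ht1, hu₁z]
      obtain ⟨m₁, hm₁⟩ := haff u₁ hu₁G hu₁0
      obtain ⟨m₂, hm₂⟩ := haff _ hu₂G hu₂0
      refine ⟨m₁ * swapPGL {x : α // x ≠ inf} * m₂, ?_⟩
      have hg : g = u₁ * t * ((u₁ * t)⁻¹ * g) := by group
      rw [hg]
      exact hmul _ _ _ _ (hmul _ _ _ _ hm₁ hswap) hm₂
  apply recog_pgl2 K ε hgen
  intro a b c hab hac hbc
  rw [hεs0, hεsx, hεsx]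
  exact T3 inf _ _ a b c (Ne.symm (0 : {x : α // x ≠ inf}).2) (Ne.symm (1 : {x : α // x ≠ inf}).2) hzo hab hac hbc

end Cfsg.Agent.Lib.Helper59.TIInvA6pgl
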