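import Mathlib
import Cfsg.Agent.Lib.Helper95.D4Iso.Defs

/-!
# Project D4ISO (S1082), module [G-ROOT] of helper95's sheet (helper59)

Root elements `x_{a,b}(t) = 1 + t e_{a,b}`: `e_{a,b}² = 0`, additivity, isometry, the commutator
relation `[x_{ab}(t), x_{bc}(u)] = x_{ac}(tu)`, and existence of an intermediate index.
-/

set_option autoImplicit false

namespace Cfsg.Agent.Lib.Helper59.D4Iso

open Matrix Cfsg.Agent.Lib.Helper95.D4Iso

/-! ## [G-ROOT] root elements -/
section root
variable {R : Type*} [CommRing R]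

theorem single_mul_single_ite (a b c d : I8) :
    (Matrix.single a b (1 : R)) * Matrix.single c d (1 : R)
      = if b = c then Matrix.single a d 1 else 0 := by
  split_ifs with h
  · subst h
    simp
  · exact Matrix.single_mul_single_of_ne (1 : R) a b c h (1 : R)

theorem eM_mul_eM (a b c d : I8) :
    (eM a b : Matrix I8 I8 R) * eM c d
      = (if b = c then Matrix.single a d 1 else 0)
        - (if b = opp d then Matrix.single a (opp c) 1 else 0)
        - (if opp a = c then Matrix.single (opp b) d 1 else 0)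
        + (if opp a = opp d then Matrix.single (opp b) (opp c) 1 else 0) := by
  unfold eM
  rw [sub_mul, mul_sub, mul_sub, single_mul_single_ite, single_mul_single_ite,
    single_mul_single_ite, single_mul_single_ite]
  abel

theorem opp_eq_iff (a b : I8) : opp a = b ↔ a = opp b := by
  constructor
  · intro h; rw [← h, opp_opp]
  · intro h; rw [h, opp_opp]

theorem opp_eq_opp_iff (a b : I8) : opp a = opp b ↔ a = b :=
  opp_injective.eq_iff

theorem eM_mul_self (a b : I8) (h : Valid a b) : (eM a b : Matrix I8 I8 R) * eM a b = 0 := by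
  obtain ⟨h1, h2⟩ := h
  rw [eM_mul_eM]
  have e1 : ¬ b = a := fun e => h1 e.symm
  have e2 : ¬ b = opp b := fun e => opp_ne b e.symm
  have e3 : ¬ opp a = a := opp_ne a
  have e4 : ¬ opp a = opp b := fun e => h1 (opp_injective e)
  simp [e1, e2, e3, e4]

theorem xM_mul (a b : I8) (h : Valid a b) (t u : R) : xM a b t * xM a b u = xM a b (t + u) := by
  unfold xM
  rw [add_mul, mul_add, mul_add, one_mul, mul_one, one_mul, smul_mul_smul_comm, eM_mul_self a b h,
    smul_zero, add_zero, add_smul]
  abel

theorem xM_zero (a b : I8) : xM a b (0 : R) = 1 := by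
  simp [xM]

theorem Qr_xM (a b : I8) (h : Valid a b) (t : R) (x : I8 → R) : Qr (xM a b t *ᵥ x) = Qr x := by
  rcases a with a | a <;> rcases b with b | b <;> fin_cases a <;> fin_cases b <;>
    first
    | (exfalso; revert h; decide)
    | (simp [Qr, xM, eM, opp, Matrix.mulVec, dotProduct, Fin.sum_univ_four, Matrix.add_apply,
        Matrix.single_apply, Fintype.sum_sum_type, Matrix.one_apply, Matrix.sub_apply,
        Matrix.smul_apply]
       ring)

theorem comm_formula {S : Type*} [Ring S] (P Q : S) (hP : P * P = 0) (hQ : Q * Q = 0)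
    (h1 : P * Q * P = 0) (h2 : Q * P * Q = 0) :
    (1 + P) * (1 + Q) * (1 - P) * (1 - Q) = 1 + (P * Q - Q * P) := by
  have h : (1 + P) * (1 + Q) * (1 - P) * (1 - Q)
      = 1 + (P * Q - Q * P) - P * P - P * Q * P - Q * Q - P * (Q * Q) + (P * P) * Q + Q * P * Q
        + (P * Q * P) * Q := by noncomm_ring
  rw [h, hP, hQ, h1, h2]
  simp

/-- the commutator relation `[x_{ab}(t), x_{bc}(u)] = x_{ac}(tu)` -/
theorem xM_comm (a b c : I8) (hab : Valid a b) (hbc : Valid b c) (hac : Valid a c) (t u : R) :
    xM a b t * xM b c u * xM a b (-t) * xM b c (-u) = xM a c (t * u) := by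
  obtain ⟨ab1, ab2⟩ := hab
  obtain ⟨bc1, bc2⟩ := hbc
  obtain ⟨ac1, ac2⟩ := hac
  have AB : (eM a b : Matrix I8 I8 R) * eM b c = Matrix.single a c 1 := by
    rw [eM_mul_eM]
    have e2 : ¬ b = opp c := bc2
    have e3 : ¬ opp a = b := fun e => ab2 ((opp_eq_iff a b).mp e)
    have e4 : ¬ opp a = opp c := fun e => ac1 (opp_injective e)
    simp [e2, e3, e4]
  have BA : (eM b c : Matrix I8 I8 R) * eM a b = Matrix.single (opp c) (opp a) 1 := by
    rw [eM_mul_eM]
    have e1 : ¬ c = a := fun e => ac1 e.symm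
    have e2 : ¬ c = opp b := fun e => bc2 (by rw [e, opp_opp])
    have e3 : ¬ opp b = a := fun e => ab2 e.symm
    simp [e1, e2, e3]
  have ABA : (eM a b : Matrix I8 I8 R) * eM b c * eM a b = 0 := by
    rw [AB]
    unfold eM
    rw [mul_sub, single_mul_single_ite, single_mul_single_ite]
    have e1 : ¬ c = a := fun e => ac1 e.symm
    have e2 : ¬ c = opp b := fun e => bc2 (by rw [e, opp_opp])
    simp [e1, e2]
  have BAB : (eM b c : Matrix I8 I8 R) * eM a b * eM b c = 0 := by
    rw [BA]
    unfold eM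
    rw [mul_sub, single_mul_single_ite, single_mul_single_ite]
    have e1 : ¬ opp a = b := fun e => ab2 ((opp_eq_iff a b).mp e)
    have e2 : ¬ opp a = opp c := fun e => ac1 (opp_injective e)
    simp [e1, e2]
  have hP : (t • (eM a b : Matrix I8 I8 R)) * (t • eM a b) = 0 := by
    rw [smul_mul_smul_comm, eM_mul_self a b ⟨ab1, ab2⟩, smul_zero]
  have hQ : (u • (eM b c : Matrix I8 I8 R)) * (u • eM b c) = 0 := by
    rw [smul_mul_smul_comm, eM_mul_self b c ⟨bc1, bc2⟩, smul_zero]
  have h1 : (t • (eM a b : Matrix I8 I8 R)) * (u • eM b c) * (t • eM a b) = 0 := by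
    rw [smul_mul_smul_comm, smul_mul_smul_comm, ABA, smul_zero]
  have h2 : (u • (eM b c : Matrix I8 I8 R)) * (t • eM a b) * (u • eM b c) = 0 := by
    rw [smul_mul_smul_comm, smul_mul_smul_comm, BAB, smul_zero]
  have key := comm_formula (t • (eM a b : Matrix I8 I8 R)) (u • eM b c) hP hQ h1 h2
  have e1 : xM a b (-t) = 1 - t • (eM a b : Matrix I8 I8 R) := by
    unfold xM
    rw [neg_smul, sub_eq_add_neg]
  have e2 : xM b c (-u) = 1 - u • (eM b c : Matrix I8 I8 R) := by
    unfold xM
    rw [neg_smul, sub_eq_add_neg]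
  rw [e1, e2]
  unfold xM at key ⊢
  rw [key, smul_mul_smul_comm, smul_mul_smul_comm, AB, BA, mul_comm u t, ← smul_sub]
  rfl

/-- for a valid pair `(a,c)` there is an intermediate index -/
theorem exists_mid (a c : I8) (hac : Valid a c) : ∃ b, Valid a b ∧ Valid b c := by
  revert a c
  decide

end root

end Cfsg.Agent.Lib.Helper59.D4Iso
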