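import Mathlib
import Cfsg.Agent.S1491
import Cfsg.Agent.S1536
import Cfsg.Agent.Lib.Helper75.Clifford
import Cfsg.Agent.Lib.Helper23.TypeP

/-!
# Peterfalvi (12.2)(a), module (T2) of helper4 #2768

For `L` of Frobenius type and `θ` a non-principal irreducible character of `H = L_F`, the induced
function `Ind θ` is a multiplicity-free sum of irreducible characters of `L` of equal degree, none of
which has `H` in its kernel.
-/

set_option autoImplicit false

namespace Cfsg.Agent.Lib.Helper59.PFTwelveT2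

open Cfsg
open scoped ComplexConjugate Pointwise

/-- The inertia subgroup of a function on a normal subgroup. -/
def inertia {L : Type*} [Group L] (H : Subgroup L) [hN : H.Normal] (θ : ↥H → ℂ) : Subgroup L where
  carrier := {g | ∀ h : H, θ ⟨g * h * g⁻¹, hN.conj_mem h h.2 g⟩ = θ h}
  one_mem' := by
    intro h
    congr 1
    exact Subtype.ext (by simp)
  mul_mem' := by
    intro a b ha hb h
    have h1 := hb h
    have h2 := ha ⟨b * h * b⁻¹, hN.conj_mem h h.2 b⟩
    rw [← h1, ← h2]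
    congr 1
    exact Subtype.ext (by simp [mul_assoc])
  inv_mem' := by
    intro a ha h
    have h2 := ha ⟨a⁻¹ * h * a⁻¹⁻¹, hN.conj_mem h h.2 a⁻¹⟩
    rw [← h2]
    congr 1
    exact Subtype.ext (by simp [mul_assoc])

theorem mem_inertia {L : Type*} [Group L] (H : Subgroup L) [hN : H.Normal] (θ : ↥H → ℂ) (g : L) :
    g ∈ inertia H θ ↔ ∀ h : H, θ ⟨g * h * g⁻¹, hN.conj_mem h h.2 g⟩ = θ h := Iff.rfl

theorem le_inertia {L : Type*} [Group L] (H : Subgroup L) [hN : H.Normal] (θ : ↥H → ℂ)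
    (hθ : IsClassFunction ↥H θ) : H ≤ inertia H θ := by
  intro a ha h
  have := hθ h ⟨a, ha⟩
  rw [← this]
  congr 1

theorem ind_decomp_of_hall {L : Type*} [Group L] [Fintype L] (H : Subgroup L) [hN : H.Normal]
    (hHall : Nat.Coprime (Nat.card H) H.index) (U U₁ : Subgroup L)
    (hcompl : Subgroup.IsComplement' H U) (hU₁comm : IsMulCommutative ↥U₁)
    (hcent : ∀ x ∈ H, x ≠ 1 → U ⊓ Subgroup.centralizer ({x} : Set L) ≤ U₁)
    (θ : ↥H → ℂ) (hθ : IsIrrCharacter ↥H θ) (hθ1 : θ ≠ fun _ => 1) :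
    ∃ C : Finset (L → ℂ), (∀ χ ∈ C, IsIrrCharacter L χ) ∧
      indFun H θ = ∑ χ ∈ C, χ ∧ (∀ χ ∈ C, ∀ χ' ∈ C, χ 1 = χ' 1) ∧
      ∀ χ ∈ C, ∃ h ∈ H, χ h ≠ χ 1 := by
  classical
  have hθcf : IsClassFunction ↥H θ :=
    Cfsg.Agent.Lib.Helper78.IsCharacter.isClassFunction
      (Cfsg.Agent.Lib.Helper78.IsIrrCharacter.isCharacter hθ)
  set T : Subgroup L := inertia H θ with hTdef
  have hHT : H ≤ T := le_inertia H θ hθcf
  -- every element of `T` is `h * u` with `h ∈ H`, `u ∈ U₁`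
  have hdecomp : ∀ x ∈ T, ∃ h ∈ H, ∃ u ∈ U₁, x = h * u := by
    intro x hx
    have hx' : x ∈ (H : Set L) * (U : Set L) := by
      rw [hcompl.mul_eq]; exact Set.mem_univ x
    obtain ⟨h, hh, u, hu, rfl⟩ := hx'
    refine ⟨h, hh, u, ?_, rfl⟩
    have huT : u ∈ T := by
      have := T.mul_mem (T.inv_mem (hHT hh)) hx
      rwa [inv_mul_cancel_left] at this
    have hfix : (fun k : H => θ ⟨u * k * u⁻¹, hN.conj_mem k k.2 u⟩) = θ := by
      funext k
      exact huT k
    obtain ⟨k, hkH, hk1, hcomm⟩ :=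
      (Cfsg.Agent.S1536.result H hHall u).1 ⟨θ, hθ, hθ1, hfix⟩
    apply hcent k hkH hk1
    refine ⟨hu, ?_⟩
    show u ∈ Subgroup.centralizer ({k} : Set L)
    rw [Subgroup.mem_centralizer_iff]
    intro y hy
    rw [Set.mem_singleton_iff] at hy
    rw [hy]
    exact hcomm.symm
  have hab : ∀ x ∈ T, ∀ y ∈ T, x * y * x⁻¹ * y⁻¹ ∈ H := by
    intro x hx y hy
    obtain ⟨h, hh, u, hu, rfl⟩ := hdecomp x hx
    obtain ⟨h', hh', u', hu', rfl⟩ := hdecomp y hy
    have huu' : u * u' = u' * u := by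
      have := hU₁comm.is_comm.comm (⟨u, hu⟩ : ↥U₁) ⟨u', hu'⟩
      exact congrArg Subtype.val this
    rw [← QuotientGroup.eq_one_iff]
    have e1 : ((h : L) : L ⧸ H) = 1 := (QuotientGroup.eq_one_iff h).2 hh
    have e2 : ((h' : L) : L ⧸ H) = 1 := (QuotientGroup.eq_one_iff h').2 hh'
    simp only [QuotientGroup.mk_mul, QuotientGroup.mk_inv, e1, e2, one_mul]
    rw [← QuotientGroup.mk_mul, huu', QuotientGroup.mk_mul]
    group
  have hcop : Nat.Coprime (Nat.card H) (H.relIndex T) :=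
    hHall.coprime_dvd_right (Subgroup.relIndex_dvd_index_of_normal H T)
  obtain ⟨C, hCirr, -, hCsum, hCdeg⟩ :=
    Cfsg.Agent.S1491.result H T θ hθ (fun g => mem_inertia H θ g) hab hcop
  refine ⟨C, hCirr, hCsum, ?_, ?_⟩
  · intro χ hχ χ' hχ'
    rw [hCdeg χ hχ, hCdeg χ' hχ']
  · intro χ hχ
    by_contra hcon
    push Not at hcon
    -- inner product computed in two ways
    have hχcf : IsClassFunction L χ :=
      Cfsg.Agent.Lib.Helper78.IsCharacter.isClassFunction
        (Cfsg.Agent.Lib.Helper78.IsIrrCharacter.isCharacter (hCirr χ hχ))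
    have h1 : classInner (indFun H θ) χ = 1 := by
      rw [hCsum, Cfsg.Agent.Lib.Helper78.classInner_sum_left]
      rw [Finset.sum_eq_single χ]
      · exact Cfsg.Agent.Lib.Helper78.classInner_irr_self (hCirr χ hχ)
      · intro χ' hχ' hne
        exact Cfsg.Agent.Lib.Helper78.classInner_irr_ne (hCirr χ' hχ') (hCirr χ hχ) hne
      · intro h; exact absurd hχ h
    have h2 : classInner (indFun H θ) χ = 0 := by
      rw [Cfsg.Agent.Lib.Helper75.frobenius_reciprocity H θ hχcf]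
      have e : (fun h : H => χ h) = fun _ => χ 1 := by
        funext h
        exact hcon h h.2
      rw [e]
      have h3 := Cfsg.Agent.Lib.Helper78.classInner_irr_ne hθ
        (Cfsg.Agent.Lib.Helper78.isIrrCharacter_one (G := ↥H)) hθ1
      unfold classInner at h3 ⊢
      have h4 : ∑ g : ↥H, θ g * conj (χ 1) = (∑ g : ↥H, θ g * conj (1 : ℂ)) * conj (χ 1) := by
        rw [Finset.sum_mul]
        apply Finset.sum_congr rfl
        intro g _
        simp
      rw [h4, ← mul_assoc, h3, zero_mul]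
    rw [h1] at h2
    exact one_ne_zero h2

theorem typeF_ind_decomp {L : Type*} [Group L] [Fintype L] (hF : IsOfTypeF L)
    (θ : ↥(fittingHall L) → ℂ) (hθ : IsIrrCharacter ↥(fittingHall L) θ)
    (hθ1 : θ ≠ fun _ => 1) :
    ∃ C : Finset (L → ℂ), (∀ χ ∈ C, IsIrrCharacter L χ) ∧
      indFun (fittingHall L) θ = ∑ χ ∈ C, χ ∧ (∀ χ ∈ C, ∀ χ' ∈ C, χ 1 = χ' 1) ∧
      ∀ χ ∈ C, ∃ h ∈ fittingHall L, χ h ≠ χ 1 := by
  obtain ⟨-, -, -, -, U, -, hcompl, ⟨U₁, -, -, hU₁comm, hcent⟩, -⟩ := hF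
  exact ind_decomp_of_hall (fittingHall L) (Cfsg.Agent.Lib.Helper23.fittingHall_coprime L) U U₁
    hcompl hU₁comm hcent θ hθ hθ1

end Cfsg.Agent.Lib.Helper59.PFTwelveT2
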