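import Mathlib

/-!
# helper59: S2510 MODULE MC (helper40, board #2386)

A matrix `A` whose minimal polynomial is not a prime power commutes with a matrix `Z` of
determinant one, with `Z ^ r = 1`, such that `Z ^ k` scalar forces `r ∣ k`
(`r` a prime not dividing `n`, `l` an element of order `r` of the field).
-/

namespace Cfsg.Agent.Lib.Helper59.CommNotPrimary

open Polynomial

variable {F : Type*} [Field F] {n : ℕ}

/-- The abstract part: two complementary orthogonal nonzero idempotent matrices. -/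
theorem exists_of_idem {π1 π2 : Matrix (Fin n) (Fin n) F} (hs : π1 + π2 = 1)
    (h12 : π1 * π2 = 0) (h21 : π2 * π1 = 0) (h1 : π1 ≠ 0) (h2 : π2 ≠ 0)
    {r : ℕ} (hr : r.Prime) (hrn : ¬ r ∣ n) {l : F} (hl : orderOf l = r) :
    ∃ c1 c2 : F, (c1 • π1 + c2 • π2).det = 1 ∧ (c1 • π1 + c2 • π2) ^ r = 1 ∧
      ∀ k : ℕ, (∃ c : F, (c1 • π1 + c2 • π2) ^ k = c • (1 : Matrix (Fin n) (Fin n) F)) →
        r ∣ k := by
  classical
  have h11 : π1 * π1 = π1 := by
    have := congrArg (fun x => π1 * x) hs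
    simpa [mul_add, h12] using this
  have h22 : π2 * π2 = π2 := by
    have := congrArg (fun x => π2 * x) hs
    simpa [mul_add, h21] using this
  have Wmul : ∀ c1 c2 d1 d2 : F, (c1 • π1 + c2 • π2) * (d1 • π1 + d2 • π2) =
      (c1 * d1) • π1 + (c2 * d2) • π2 := by
    intro c1 c2 d1 d2
    simp only [add_mul, mul_add, smul_mul_smul_comm, h11, h12, h21, h22, smul_zero, add_zero,
      zero_add]
  have Wone : (1 : F) • π1 + (1 : F) • π2 = 1 := by simpa using hs
  have Wpow : ∀ (c1 c2 : F) (k : ℕ), (c1 • π1 + c2 • π2) ^ k = (c1 ^ k) • π1 + (c2 ^ k) • π2 := by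
    intro c1 c2 k
    induction k with
    | zero => simp [hs]
    | succ k ih => rw [pow_succ, ih, Wmul, pow_succ, pow_succ]
  have Wscal : ∀ c : F, c • π1 + c • π2 = c • (1 : Matrix (Fin n) (Fin n) F) := by
    intro c; rw [← smul_add, hs]
  -- coefficient extraction
  have hcoef : ∀ a b c : F, a • π1 + b • π2 = c • (1 : Matrix (Fin n) (Fin n) F) →
      a = c ∧ b = c := by
    intro a b c h
    constructor
    · have := congrArg (fun x => x * π1) h
      simp only [add_mul, smul_mul_assoc, h11, h21, smul_zero, add_zero, one_mul] at this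
      by_contra hne
      apply h1
      have h' : (a - c) • π1 = 0 := by rw [sub_smul, this, sub_self]
      rcases smul_eq_zero.1 h' with h'' | h''
      · exact absurd (sub_eq_zero.1 h'') hne
      · exact h''
    · have := congrArg (fun x => x * π2) h
      simp only [add_mul, smul_mul_assoc, h22, h12, smul_zero, zero_add, one_mul] at this
      by_contra hne
      apply h2
      have h' : (b - c) • π2 = 0 := by rw [sub_smul, this, sub_self]
      rcases smul_eq_zero.1 h' with h'' | h''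
      · exact absurd (sub_eq_zero.1 h'') hne
      · exact h''
  have hr0 : r ≠ 0 := hr.ne_zero
  have : NeZero r := ⟨hr0⟩
  have hlr : l ^ r = 1 := by rw [← hl]; exact pow_orderOf_eq_one l
  have hprim : IsPrimitiveRoot l r := IsPrimitiveRoot.iff_orderOf.2 hl
  -- the two determinants are powers of l
  have hD1 : (l • π1 + (1 : F) • π2).det ^ r = 1 := by
    rw [← Matrix.det_pow, Wpow, hlr, one_pow, Wone, Matrix.det_one]
  have hD2 : ((1 : F) • π1 + l • π2).det ^ r = 1 := by
    rw [← Matrix.det_pow, Wpow, hlr, one_pow, Wone, Matrix.det_one]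
  obtain ⟨e1, -, he1⟩ := hprim.eq_pow_of_pow_eq_one hD1
  obtain ⟨e2, -, he2⟩ := hprim.eq_pow_of_pow_eq_one hD2
  have hsum : l ^ (e1 + e2) = l ^ n := by
    rw [pow_add, he1, he2, ← Matrix.det_mul, Wmul, mul_one, one_mul, Wscal, Matrix.det_smul,
      Matrix.det_one, mul_one, Fintype.card_fin]
  refine ⟨l ^ e2, l ^ ((r - 1) * e1), ?_, ?_, ?_⟩
  · -- determinant
    have hfac : (l ^ e2) • π1 + (l ^ ((r - 1) * e1)) • π2 =
        (l • π1 + (1 : F) • π2) ^ e2 * ((1 : F) • π1 + l • π2) ^ ((r - 1) * e1) := by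
      rw [Wpow, Wpow, Wmul, one_pow, one_pow, mul_one, one_mul]
    rw [hfac, Matrix.det_mul, Matrix.det_pow, Matrix.det_pow, ← he1, ← he2, ← pow_mul, ← pow_mul,
      ← pow_add]
    have : e1 * e2 + e2 * ((r - 1) * e1) = r * (e1 * e2) := by
      obtain ⟨r', rfl⟩ : ∃ r', r = r' + 1 := ⟨r - 1, by omega⟩
      simp only [Nat.add_sub_cancel]; ring
    rw [this, pow_mul, hlr, one_pow]
  · rw [Wpow, ← pow_mul, ← pow_mul, mul_comm e2 r, mul_comm ((r - 1) * e1) r, pow_mul, pow_mul, hlr,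
      one_pow, one_pow, Wone]
  · rintro k ⟨c, hc⟩
    rw [Wpow] at hc
    obtain ⟨ha, hb⟩ := hcoef _ _ _ hc
    have hab : (l ^ e2) ^ k = (l ^ ((r - 1) * e1)) ^ k := ha.trans hb.symm
    have h1' : l ^ ((e1 + e2) * k) = 1 := by
      have : l ^ ((e1 + e2) * k) = (l ^ e1) ^ k * (l ^ e2) ^ k := by
        rw [← mul_pow, ← pow_add]; exact pow_mul _ _ _
      rw [this, hab, ← mul_pow, ← pow_add]
      have : e1 + (r - 1) * e1 = r * e1 := by
        obtain ⟨r', rfl⟩ : ∃ r', r = r' + 1 := ⟨r - 1, by omega⟩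
        simp only [Nat.add_sub_cancel]; ring
      rw [this, pow_mul, hlr, one_pow, one_pow]
    have h2' : l ^ (n * k) = 1 := by rw [pow_mul, ← hsum, ← pow_mul]; exact h1'
    have hdvd : r ∣ n * k := by rw [← hl]; exact orderOf_dvd_of_pow_eq_one h2'
    exact (hr.dvd_mul.1 hdvd).resolve_left hrn

/-- MODULE MC of board #2386 (S2510), exact statement. -/
theorem exists_commuting_of_not_primary {F : Type*} [Field F] {n : ℕ}
    (A : Matrix (Fin n) (Fin n) F)
    (hA : ¬ ∃ (f : F[X]) (k : ℕ), Irreducible f ∧ aeval A (f ^ k) = 0) (r : ℕ) (hr : r.Prime)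
    (hrn : ¬ r ∣ n) (l : F) (hl : orderOf l = r) :
    ∃ Z : Matrix (Fin n) (Fin n) F, Z.det = 1 ∧ Z * A = A * Z ∧ Z ^ r = 1 ∧
      ∀ k : ℕ, (∃ c : F, Z ^ k = c • (1 : Matrix (Fin n) (Fin n) F)) → r ∣ k := by
  classical
  have hnt : Nontrivial (Matrix (Fin n) (Fin n) F) := by
    by_contra hnt
    rw [not_nontrivial_iff_subsingleton] at hnt
    exact hA ⟨X, 0, irreducible_X, Subsingleton.elim _ _⟩
  have hint : IsIntegral F A := Algebra.IsIntegral.isIntegral A
  have hμ0 : minpoly F A ≠ 0 := minpoly.ne_zero hint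
  have hμu : ¬ IsUnit (minpoly F A) := minpoly.not_isUnit F A
  obtain ⟨f, hf, hfμ⟩ := WfDvdMonoid.exists_irreducible_factor hμu hμ0
  have hfin : FiniteMultiplicity f (minpoly F A) :=
    FiniteMultiplicity.of_not_isUnit hf.not_isUnit hμ0
  obtain ⟨g2, hg2, hfg2⟩ := hfin.exists_eq_pow_mul_and_not_dvd
  set k := multiplicity f (minpoly F A) with hk
  have hk0 : k ≠ 0 := by
    intro h0
    rw [h0, pow_zero, one_mul] at hg2
    exact hfg2 (hg2 ▸ hfμ)
  have hg20 : g2 ≠ 0 := by
    rintro rfl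
    rw [mul_zero] at hg2
    exact hμ0 hg2
  have hcop : IsCoprime (f ^ k) g2 := ((hf.coprime_iff_not_dvd).2 hfg2).pow_left
  obtain ⟨u, v, huv⟩ := hcop
  have hfku : ¬ IsUnit (f ^ k) := fun h => hf.not_isUnit ((isUnit_pow_iff hk0).1 h)
  have hg2u : ¬ IsUnit g2 := by
    intro h
    obtain ⟨w, hw⟩ := h.exists_right_inv
    apply hA
    refine ⟨f, k, hf, ?_⟩
    have : f ^ k = minpoly F A * w := by rw [hg2, mul_assoc, hw, mul_one]
    rw [this, map_mul, minpoly.aeval, zero_mul]
  set π1 : Matrix (Fin n) (Fin n) F := aeval A (v * g2) with hπ1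
  set π2 : Matrix (Fin n) (Fin n) F := aeval A (u * f ^ k) with hπ2
  have hs : π1 + π2 = 1 := by
    rw [hπ1, hπ2, ← map_add, add_comm, huv, map_one]
  have h12 : π1 * π2 = 0 := by
    rw [hπ1, hπ2, ← map_mul]
    have : v * g2 * (u * f ^ k) = minpoly F A * (u * v) := by rw [hg2]; ring
    rw [this, map_mul, minpoly.aeval, zero_mul]
  have h21 : π2 * π1 = 0 := by
    rw [hπ1, hπ2, ← map_mul]
    have : u * f ^ k * (v * g2) = minpoly F A * (u * v) := by rw [hg2]; ring
    rw [this, map_mul, minpoly.aeval, zero_mul]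
  have h1 : π1 ≠ 0 := by
    intro h
    have hd : minpoly F A ∣ v * g2 := minpoly.dvd F A h
    rw [hg2] at hd
    have hd' : f ^ k ∣ v := (mul_dvd_mul_iff_right hg20).1 hd
    apply hfku
    have : f ^ k ∣ 1 := by
      rw [← huv]
      exact dvd_add (dvd_mul_left _ _) (dvd_mul_of_dvd_left hd' _)
    exact isUnit_of_dvd_one this
  have h2 : π2 ≠ 0 := by
    intro h
    have hd : minpoly F A ∣ u * f ^ k := minpoly.dvd F A h
    rw [hg2, mul_comm u] at hd
    have hd' : g2 ∣ u := (mul_dvd_mul_iff_left (pow_ne_zero k hf.ne_zero)).1 hd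
    apply hg2u
    have : g2 ∣ 1 := by
      rw [← huv]
      exact dvd_add (dvd_mul_of_dvd_left hd' _) (dvd_mul_left _ _)
    exact isUnit_of_dvd_one this
  obtain ⟨c1, c2, hdet, hpow, hsc⟩ := exists_of_idem hs h12 h21 h1 h2 hr hrn hl
  refine ⟨c1 • π1 + c2 • π2, hdet, ?_, hpow, hsc⟩
  have hc : ∀ p : F[X], aeval A p * A = A * aeval A p := by
    intro p
    have := (Polynomial.commute_X p).map (aeval A)
    rw [aeval_X] at this
    exact this.eq.symm
  rw [add_mul, mul_add, smul_mul_assoc, smul_mul_assoc, mul_smul_comm, mul_smul_comm, hπ1, hπ2,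
    hc, hc]

end Cfsg.Agent.Lib.Helper59.CommNotPrimary
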