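import Mathlib
import Cfsg.Agent.Lib.Helper59.CommNotPrimary

/-!
# helper59: S2511 MODULE IDEM (helper40, board #2562)

A matrix `A` over the field with `q ^ 2` elements commuting with a nontrivial Hermitian idempotent
commutes with a unitary matrix `Z` of determinant one, with `Z ^ r = 1`, such that `Z ^ i` scalar
forces `r ∣ i` (`r` a prime dividing `q + 1` and not dividing `n`).
-/

namespace Cfsg.Agent.Lib.Helper59.UnitaryIdem

open Polynomial Matrix

/-- a finite field has an element of each order dividing `|F| - 1` -/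
theorem exists_orderOf_eq {F : Type*} [Field F] [Fintype F] (r : ℕ)
    (hr : r ∣ Fintype.card F - 1) : ∃ l : F, orderOf l = r := by
  classical
  have hcard : Nat.card Fˣ = Fintype.card F - 1 := by
    rw [Nat.card_eq_fintype_card, Fintype.card_units]
  obtain ⟨g, hg⟩ := IsCyclic.exists_generator (α := Fˣ)
  have hog : orderOf g = Fintype.card F - 1 := by
    rw [← hcard]
    exact orderOf_eq_card_of_forall_mem_zpowers hg
  obtain ⟨d, hd⟩ := hr
  have hpos : 0 < Fintype.card F - 1 := by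
    have := Fintype.one_lt_card (α := F)
    omega
  have hr0 : r ≠ 0 := by
    rintro rfl
    rw [zero_mul] at hd
    omega
  have hd0 : d ≠ 0 := by
    rintro rfl
    rw [mul_zero] at hd
    omega
  refine ⟨((g ^ d : Fˣ) : F), ?_⟩
  rw [orderOf_units, orderOf_pow' g hd0, hog, hd, Nat.gcd_eq_right (Dvd.intro_left r rfl),
    Nat.mul_div_cancel _ (Nat.pos_of_ne_zero hd0)]

/-- MODULE IDEM of board #2562 (S2511), exact statement. -/
theorem exists_unitary_commuting_of_idem {F : Type*} [Field F] [Fintype F] (p : ℕ) [Fact p.Prime]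
    [CharP F p] (k : ℕ) (hF : Fintype.card F = (p ^ k) ^ 2) {n : ℕ}
    (A π : Matrix (Fin n) (Fin n) F) (hπ : π * π = π) (h0 : π ≠ 0) (h1 : π ≠ 1)
    (hc : π * A = A * π) (hs : πᵀ = π.map (· ^ (p ^ k)))
    (r : ℕ) (hr : r.Prime) (hrq : r ∣ p ^ k + 1) (hrn : ¬ r ∣ n) :
    ∃ Z : Matrix (Fin n) (Fin n) F, Z.det = 1 ∧ Zᵀ * Z.map (· ^ (p ^ k)) = 1 ∧ Z * A = A * Z ∧
      Z ^ r = 1 ∧ ∀ i : ℕ, (∃ c : F, Z ^ i = c • (1 : Matrix (Fin n) (Fin n) F)) → r ∣ i := by
  classical
  set q := p ^ k with hq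
  have hq1 : 1 ≤ q := Nat.one_le_pow _ _ (Fact.out : p.Prime).pos
  -- an element of order `r`
  have hrF : r ∣ Fintype.card F - 1 := by
    rw [hF]
    have : q ^ 2 - 1 = (q + 1) * (q - 1) := by
      obtain ⟨q', hq'⟩ : ∃ q', q = q' + 1 := ⟨q - 1, by omega⟩
      rw [hq']
      simp only [Nat.add_sub_cancel]
      have : (q' + 1) ^ 2 = (q' + 1 + 1) * q' + 1 := by ring
      rw [this, Nat.add_sub_cancel]
    rw [this]
    exact Dvd.dvd.mul_right hrq _
  obtain ⟨l, hl⟩ := exists_orderOf_eq r hrF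
  -- the complementary idempotents
  set π2 : Matrix (Fin n) (Fin n) F := 1 - π with hπ2
  have hsum : π + π2 = 1 := by rw [hπ2]; abel
  have h12 : π * π2 = 0 := by rw [hπ2, mul_sub, mul_one, hπ, sub_self]
  have h21 : π2 * π = 0 := by rw [hπ2, sub_mul, one_mul, hπ, sub_self]
  have h22 : π2 * π2 = π2 := by
    rw [hπ2, mul_sub, mul_one, sub_mul, one_mul, hπ, sub_self, sub_zero]
  have h2 : π2 ≠ 0 := by
    intro h
    apply h1
    rw [hπ2, sub_eq_zero] at h
    exact h.symm
  obtain ⟨c1, c2, hdet, hpow, hsc⟩ :=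
    Cfsg.Agent.Lib.Helper59.CommNotPrimary.exists_of_idem hsum h12 h21 h0 h2 hr hrn hl
  have Wmul : ∀ a1 a2 d1 d2 : F, (a1 • π + a2 • π2) * (d1 • π + d2 • π2) =
      (a1 * d1) • π + (a2 * d2) • π2 := by
    intro a1 a2 d1 d2
    simp only [add_mul, mul_add, smul_mul_smul_comm, hπ, h12, h21, h22, smul_zero, add_zero,
      zero_add]
  have Wpow : ∀ (a1 a2 : F) (j : ℕ), (a1 • π + a2 • π2) ^ j = (a1 ^ j) • π + (a2 ^ j) • π2 := by
    intro a1 a2 j
    induction j with
    | zero => simp [hsum]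
    | succ j ih => rw [pow_succ, ih, Wmul, pow_succ, pow_succ]
  -- `c1 ^ r = 1`, `c2 ^ r = 1`
  rw [Wpow] at hpow
  have hc1 : c1 ^ r = 1 := by
    have := congrArg (fun x => x * π) hpow
    simp only [add_mul, smul_mul_assoc, hπ, h21, smul_zero, add_zero, one_mul] at this
    by_contra hne
    apply h0
    have h' : (c1 ^ r - 1) • π = 0 := by rw [sub_smul, this, one_smul, sub_self]
    rcases smul_eq_zero.1 h' with h'' | h''
    · exact absurd (sub_eq_zero.1 h'') hne
    · exact h''
  have hc2 : c2 ^ r = 1 := by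
    have := congrArg (fun x => x * π2) hpow
    simp only [add_mul, smul_mul_assoc, h22, h12, smul_zero, zero_add, one_mul] at this
    by_contra hne
    apply h2
    have h' : (c2 ^ r - 1) • π2 = 0 := by rw [sub_smul, this, one_smul, sub_self]
    rcases smul_eq_zero.1 h' with h'' | h''
    · exact absurd (sub_eq_zero.1 h'') hne
    · exact h''
  obtain ⟨d, hd⟩ := hrq
  have hc1q : c1 * c1 ^ q = 1 := by
    rw [← pow_succ', hd, pow_mul, hc1, one_pow]
  have hc2q : c2 * c2 ^ q = 1 := by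
    rw [← pow_succ', hd, pow_mul, hc2, one_pow]
  refine ⟨c1 • π + c2 • π2, hdet, ?_, ?_, ?_, hsc⟩
  · -- unitary
    have hmap : ∀ M : Matrix (Fin n) (Fin n) F,
        M.map (· ^ q) = (iterateFrobenius F p k).mapMatrix M := by
      intro M
      ext i j
      simp [iterateFrobenius_def, hq]
    have hs' : (iterateFrobenius F p k).mapMatrix π = πᵀ := by rw [hs, hmap]
    have hs2 : (iterateFrobenius F p k).mapMatrix π2 = π2ᵀ := by
      rw [hπ2, map_sub, map_one, hs', Matrix.transpose_sub, Matrix.transpose_one]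
    have hZm : (iterateFrobenius F p k).mapMatrix (c1 • π + c2 • π2) =
        (c1 ^ q) • πᵀ + (c2 ^ q) • π2ᵀ := by
      rw [map_add, ← hs', ← hs2]
      congr 1
      · ext i j
        simp [iterateFrobenius_def, hq, mul_pow]
      · ext i j
        simp [iterateFrobenius_def, hq, mul_pow]
    rw [hmap, hZm, Matrix.transpose_add, Matrix.transpose_smul, Matrix.transpose_smul]
    have e11 : πᵀ * πᵀ = πᵀ := by rw [← Matrix.transpose_mul, hπ]
    have e12 : πᵀ * π2ᵀ = 0 := by rw [← Matrix.transpose_mul, h21, Matrix.transpose_zero]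
    have e21 : π2ᵀ * πᵀ = 0 := by rw [← Matrix.transpose_mul, h12, Matrix.transpose_zero]
    have e22 : π2ᵀ * π2ᵀ = π2ᵀ := by rw [← Matrix.transpose_mul, h22]
    simp only [add_mul, mul_add, smul_mul_smul_comm, e11, e12, e21, e22, smul_zero, add_zero,
      zero_add, hc1q, hc2q, one_smul]
    rw [← Matrix.transpose_add, hsum, Matrix.transpose_one]
  · -- commutes with `A`
    have hc2' : π2 * A = A * π2 := by
      rw [hπ2, sub_mul, mul_sub, one_mul, mul_one, hc]
    rw [add_mul, mul_add, smul_mul_assoc, smul_mul_assoc, mul_smul_comm, mul_smul_comm, hc, hc2']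
  · rw [Wpow, hc1, hc2, one_smul, one_smul, hsum]

end Cfsg.Agent.Lib.Helper59.UnitaryIdem
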