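import Mathlib
import Cfsg.Agent.Lib.Helper95.D4Iso.Defs

/-!
# Project D4ISO (S1082), module [R-KER1] of helper95's sheet (helper59)

A matrix commuting with all `e_{a,b}` (valid `(a,b)`) is scalar.
-/

set_option autoImplicit false

namespace Cfsg.Agent.Lib.Helper59.D4Iso

open Matrix Cfsg.Agent.Lib.Helper95.D4Iso

variable {F : Type*} [Field F]

theorem mul_single_entry (g : Matrix I8 I8 F) (a b i j : I8) :
    (g * Matrix.single a b (1 : F)) i j = if j = b then g i a else 0 := by
  split_ifs with h
  · subst h
    rw [Matrix.mul_single_apply_same, mul_one]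
  · exact Matrix.mul_single_apply_of_ne (1 : F) a b i j h g

theorem single_mul_entry (g : Matrix I8 I8 F) (a b i j : I8) :
    (Matrix.single a b (1 : F) * g) i j = if i = a then g b j else 0 := by
  split_ifs with h
  · subst h
    rw [Matrix.single_mul_apply_same, one_mul]
  · exact Matrix.single_mul_apply_of_ne (1 : F) a b i j h g

/-- entrywise form of `g * e_{a,b} = e_{a,b} * g` -/
theorem commute_eM_entry (g : Matrix I8 I8 F) (a b : I8) (h : g * eM a b = eM a b * g) (i j : I8) :
    (if j = b then g i a else 0) - (if j = opp a then g i (opp b) else 0)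
      = (if i = a then g b j else 0) - (if i = opp b then g (opp a) j else 0) := by
  have := congrFun (congrFun h i) j
  unfold eM at this
  rw [Matrix.mul_sub, Matrix.sub_mul, Matrix.sub_apply, Matrix.sub_apply, mul_single_entry,
    mul_single_entry, single_mul_entry, single_mul_entry] at this
  exact this

theorem exists_aux1 : ∀ a i : I8, i ≠ a → ∃ b, Valid a b ∧ opp b ≠ i ∧ b ≠ opp a := by
  decide

theorem exists_aux2 : ∀ a : I8, ∃ c, Valid a c ∧ Valid c (opp a) := by
  decide

/-- a matrix commuting with all `e_{a,b}` is scalar -/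
theorem scalar_of_commute (g : Matrix I8 I8 F)
    (h : ∀ a b, Valid a b → g * eM a b = eM a b * g) : ∃ c : F, g = c • (1 : Matrix I8 I8 F) := by
  -- off-diagonal entries vanish
  have hoff : ∀ i a : I8, i ≠ a → g i a = 0 := by
    intro i a hia
    obtain ⟨b, hab, hbi, hba⟩ := exists_aux1 a i hia
    have e := commute_eM_entry g a b (h a b hab) i b
    have h1 : ¬ b = opp a := hba
    have h2 : ¬ i = a := hia
    have h3 : ¬ i = opp b := fun e => hbi e.symm
    simpa [h1, h2, h3] using e
  -- diagonal entries agree on valid pairs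
  have hdiag : ∀ a b : I8, Valid a b → g a a = g b b := by
    intro a b hab
    have e := commute_eM_entry g a b (h a b hab) a b
    have h1 : ¬ b = opp a := fun e => hab.2 (by rw [e, opp_opp])
    have h3 : ¬ a = opp b := hab.2
    simpa [h1, h3] using e
  have hall : ∀ a b : I8, g a a = g b b := by
    intro a b
    by_cases e1 : a = b
    · rw [e1]
    by_cases e2 : a = opp b
    · obtain ⟨c, hc1, hc2⟩ := exists_aux2 a
      have : opp a = b := by rw [e2, opp_opp]
      rw [this] at hc2
      rw [hdiag a c hc1, hdiag c b hc2]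
    · exact hdiag a b ⟨e1, e2⟩
  refine ⟨g (Sum.inl 0) (Sum.inl 0), ?_⟩
  ext i j
  by_cases hij : i = j
  · subst hij
    simp [hall i (Sum.inl 0)]
  · simp [hij, hoff i j hij]

end Cfsg.Agent.Lib.Helper59.D4Iso
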