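import Cfsg.Agent.Lib.Helper77.DefOneDefs

set_option autoImplicit false

/-!
MODULE (M1) of the defect-one project (board #2293): for a Sylow `p`-subgroup `P` of order `p`
with normaliser `N`, every `N`-fixed vector of an `F[G]`-module (`char F = p`) is the sum of a
`G`-fixed vector and an `N`-trace `Tr_1^N y`.
-/

namespace Cfsg.Agent.Lib.Helper59.DefOneM1

open Cfsg.Agent.Lib.Helper77.DefOne

section Free

variable {F : Type*} [Field F] {N : Type*} [Group N] [Fintype N]
  {V : Type*} [AddCommGroup V] [Module F V]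
  {Y : Type*} [Fintype Y] [MulAction N Y]

/-- The sum of an equivariant function over a finite set with a free action is a trace. -/
theorem sum_free_action (ρ : N →* (V →ₗ[F] V)) (h : Y → V)
    (hh : ∀ (n : N) (y : Y), h (n • y) = ρ n (h y))
    (hfree : ∀ y : Y, MulAction.stabilizer N y = ⊥) :
    ∃ y' : V, ∑ y, h y = ∑ n : N, ρ n y' := by
  classical
  have key : ∀ ω : Quotient (MulAction.orbitRel N Y),
      ∑ y : {y : Y // (Quotient.mk'' y : Quotient (MulAction.orbitRel N Y)) = ω}, h y
        = ∑ n : N, ρ n (h (Quotient.out ω)) := by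
    intro ω
    have hmem : ∀ n : N, (Quotient.mk'' (n • Quotient.out ω) :
        Quotient (MulAction.orbitRel N Y)) = ω := by
      intro n
      have h1 : (Quotient.mk'' (n • Quotient.out ω) : Quotient (MulAction.orbitRel N Y))
          = Quotient.mk'' (Quotient.out ω) := by
        apply Quotient.sound'
        rw [MulAction.orbitRel_apply]
        exact MulAction.mem_orbit _ _
      rw [h1]
      exact Quotient.out_eq' ω
    let e : N → {y : Y // (Quotient.mk'' y : Quotient (MulAction.orbitRel N Y)) = ω} :=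
      fun n => ⟨n • Quotient.out ω, hmem n⟩
    have he : Function.Bijective e := by
      constructor
      · intro n n' hnn
        have h2 : n • Quotient.out ω = n' • Quotient.out ω := congrArg Subtype.val hnn
        have h3 : n'⁻¹ * n ∈ MulAction.stabilizer N (Quotient.out ω) := by
          rw [MulAction.mem_stabilizer_iff, mul_smul, h2, inv_smul_smul]
        rw [hfree, Subgroup.mem_bot] at h3
        have : n = n' * (n'⁻¹ * n) := by group
        rw [this, h3, mul_one]
      · rintro ⟨y, hy⟩
        have h4 : (Quotient.mk'' y : Quotient (MulAction.orbitRel N Y))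
            = Quotient.mk'' (Quotient.out ω) := by rw [hy]; exact (Quotient.out_eq' ω).symm
        have h5 : MulAction.orbitRel N Y y (Quotient.out ω) := Quotient.exact' h4
        rw [MulAction.orbitRel_apply] at h5
        obtain ⟨n, hn⟩ := h5
        exact ⟨n, Subtype.ext hn⟩
    symm
    refine Fintype.sum_bijective e he _ _ ?_
    intro n
    exact (hh n _).symm
  refine ⟨∑ ω : Quotient (MulAction.orbitRel N Y), h (Quotient.out ω), ?_⟩
  rw [← Fintype.sum_fiberwise (fun y : Y => (Quotient.mk'' y : Quotient (MulAction.orbitRel N Y))) h]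
  simp_rw [key]
  rw [Finset.sum_comm]
  refine Finset.sum_congr rfl fun n _ => ?_
  rw [map_sum]

end Free


section Main

variable {F : Type*} [Field F] {G : Type*} [Group G] [Fintype G]
  {V : Type*} [AddCommGroup V] [Module F V] {p : ℕ} [Fact p.Prime] [CharP F p]

/-- An element of the normaliser of `P` stabilising a coset `gP` with `g ∉ N_G(P)` is trivial. -/
theorem eq_one_of_conj_mem (P : Sylow p G) (hP : Nat.card P = p) (g n : G)
    (hg : g ∉ Subgroup.normalizer ((P : Subgroup G) : Set G))
    (hn : n ∈ Subgroup.normalizer ((P : Subgroup G) : Set G))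
    (hu : g⁻¹ * n * g ∈ (P : Subgroup G)) : n = 1 := by
  classical
  by_contra hn1
  have hpp : p.Prime := Fact.out
  -- `u := g⁻¹ n g` has order dividing `p`
  have hup : (g⁻¹ * n * g) ^ p = 1 := by
    have h1 : ((⟨g⁻¹ * n * g, hu⟩ : (P : Subgroup G)) ^ Nat.card (P : Subgroup G)) = 1 :=
      pow_card_eq_one'
    rw [hP] at h1
    exact congrArg Subtype.val h1
  have hnp : n ^ p = 1 := by
    have h2 : n = g * (g⁻¹ * n * g) * g⁻¹ := by group
    rw [h2, conj_pow, hup]; group
  -- `zpowers n` is a `p`-group normalising `P`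
  have hZ : IsPGroup p (Subgroup.zpowers n) := by
    intro x
    refine ⟨1, ?_⟩
    obtain ⟨x, hx⟩ := x
    obtain ⟨k, rfl⟩ := Subgroup.mem_zpowers_iff.mp hx
    apply Subtype.ext
    simp only [pow_one, Subgroup.coe_pow, Subgroup.coe_one]
    rw [← zpow_natCast, ← zpow_mul, mul_comm, zpow_mul, zpow_natCast, hnp, one_zpow]
  have hle : Subgroup.zpowers n ≤ Subgroup.normalizer ((P : Subgroup G) : Set G) :=
    (Subgroup.zpowers_le).mpr hn
  have hsup : IsPGroup p (Subgroup.zpowers n ⊔ (P : Subgroup G) : Subgroup G) :=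
    IsPGroup.to_sup_of_normal_right' hZ P.2 hle
  have heq : Subgroup.zpowers n ⊔ (P : Subgroup G) = (P : Subgroup G) :=
    P.is_maximal' hsup le_sup_right
  have hnP : n ∈ (P : Subgroup G) := by
    rw [← heq]; exact Subgroup.mem_sup_left (Subgroup.mem_zpowers n)
  -- both `n` and `u` generate `P`
  have hgen : ∀ x : G, x ∈ (P : Subgroup G) → x ≠ 1 → Subgroup.zpowers x = (P : Subgroup G) := by
    intro x hx hx1
    have hle' : Subgroup.zpowers x ≤ (P : Subgroup G) := (Subgroup.zpowers_le).mpr hx
    apply Subgroup.eq_of_le_of_card_ge hle'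
    rw [hP, Nat.card_zpowers]
    have hd : orderOf x ∣ p := by
      have : (⟨x, hx⟩ : (P : Subgroup G)) ^ Nat.card (P : Subgroup G) = 1 := pow_card_eq_one'
      rw [hP] at this
      exact orderOf_dvd_of_pow_eq_one (congrArg Subtype.val this)
    rcases (Nat.dvd_prime hpp).mp hd with h1 | h1
    · exact absurd (orderOf_eq_one_iff.mp h1) hx1
    · exact h1.ge
  have hu1 : g⁻¹ * n * g ≠ 1 := by
    intro h
    apply hn1
    have : n = g * (g⁻¹ * n * g) * g⁻¹ := by group
    rw [this, h]; group
  have h1 := hgen n hnP hn1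
  have h2 := hgen _ hu hu1
  -- hence `g` normalises `P`
  apply hg
  rw [Subgroup.mem_normalizer_iff]
  intro x
  constructor
  · intro hx
    rw [← h2] at hx
    obtain ⟨k, hk⟩ := Subgroup.mem_zpowers_iff.mp hx
    have : g * x * g⁻¹ = n ^ k := by
      rw [← hk]
      have : (g⁻¹ * n * g) ^ k = g⁻¹ * n ^ k * g := by
        rw [show g⁻¹ * n * g = g⁻¹ * n * g⁻¹⁻¹ by group, conj_zpow]; group
      rw [this]; group
    have hx' : g * x * g⁻¹ ∈ (P : Subgroup G) := by
      rw [this]; exact Subgroup.zpow_mem _ hnP k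
    simpa using hx'
  · intro hx
    have hx' : g * x * g⁻¹ ∈ (P : Subgroup G) := by simpa using hx
    rw [← h1] at hx'
    obtain ⟨k, hk⟩ := Subgroup.mem_zpowers_iff.mp hx'
    have : x = (g⁻¹ * n * g) ^ k := by
      have : (g⁻¹ * n * g) ^ k = g⁻¹ * n ^ k * g := by
        rw [show g⁻¹ * n * g = g⁻¹ * n * g⁻¹⁻¹ by group, conj_zpow]; group
      rw [this, hk]; group
    rw [this]; exact Subgroup.zpow_mem _ hu k


/-- MODULE (M1): `V^N ≤ V^G + Tr_1^N V` for `N = N_G(P)`, `P` a Sylow `p`-subgroup of order `p`. -/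
theorem M1 (P : Sylow p G) (hP : Nat.card P = p) (ρ : Representation F G V) (w : V)
    (hw : ∀ n ∈ Subgroup.normalizer ((P : Subgroup G) : Set G), ρ n w = w) :
    ∃ w₀ y : V, (∀ g : G, ρ g w₀ = w₀) ∧
      w = w₀ + trOne ρ (Subgroup.normalizer ((P : Subgroup G) : Set G)) y := by
  classical
  have hpp : p.Prime := Fact.out
  have hPN : (P : Subgroup G) ≤ Subgroup.normalizer ((P : Subgroup G) : Set G) :=
    Subgroup.le_normalizer
  -- the coset function `gP ↦ ρ g w`
  have hwell : ∀ a b : G, QuotientGroup.leftRel (P : Subgroup G) a b → ρ a w = ρ b w := by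
    intro a b hab
    rw [QuotientGroup.leftRel_apply] at hab
    have h1 : ρ (a⁻¹ * b) w = w := hw _ (hPN hab)
    have h2 : ρ b w = ρ a (ρ (a⁻¹ * b) w) := by
      rw [← Module.End.mul_apply, ← map_mul, mul_inv_cancel_left]
    rw [h2, h1]
  let h : G ⧸ (P : Subgroup G) → V := fun q => Quotient.liftOn' q (fun g => ρ g w) hwell
  have h_mk : ∀ g : G, h (QuotientGroup.mk g) = ρ g w := fun g => rfl
  have h_smul : ∀ (g : G) (q : G ⧸ (P : Subgroup G)), h (g • q) = ρ g (h q) := by
    intro g q
    induction q using QuotientGroup.induction_on with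
    | H x =>
      rw [MulAction.Quotient.smul_mk, h_mk, h_mk, smul_eq_mul, map_mul, Module.End.mul_apply]
  -- the total sum is `G`-invariant
  have hT : ∀ g : G, ρ g (∑ q, h q) = ∑ q, h q := by
    intro g
    rw [map_sum]
    refine Fintype.sum_bijective (fun q => g • q) (MulAction.bijective g) _ _ ?_
    intro q
    exact (h_smul g q).symm
  -- fixed points of `P` on `G ⧸ P`
  have hfix : ∀ x : G, (QuotientGroup.mk x : G ⧸ (P : Subgroup G)) ∈
      MulAction.fixedPoints (P : Subgroup G) (G ⧸ (P : Subgroup G)) ↔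
      x ∈ Subgroup.normalizer ((P : Subgroup G) : Set G) := fun x =>
    Sylow.mem_fixedPoints_mul_left_cosets_iff_mem_normalizer
  have hZw : ∀ q ∈ Finset.univ.filter (fun q : G ⧸ (P : Subgroup G) =>
      q ∈ MulAction.fixedPoints (P : Subgroup G) (G ⧸ (P : Subgroup G))), h q = w := by
    intro q hq
    rw [Finset.mem_filter] at hq
    have hq2 := hq.2
    induction q using QuotientGroup.induction_on with
    | H x => rw [h_mk]; exact hw x ((hfix x).mp hq2)
  -- the number of fixed points is prime to `p`
  have hc : ((Finset.univ.filter (fun q : G ⧸ (P : Subgroup G) =>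
      q ∈ MulAction.fixedPoints (P : Subgroup G) (G ⧸ (P : Subgroup G)))).card : F) ≠ 0 := by
    rw [Ne, CharP.cast_eq_zero_iff F p]
    intro hdvd
    have h1 := IsPGroup.card_modEq_card_fixedPoints (p := p) (G := (P : Subgroup G)) P.2
      (G ⧸ (P : Subgroup G))
    have h2 : Nat.card (MulAction.fixedPoints (P : Subgroup G) (G ⧸ (P : Subgroup G)))
        = (Finset.univ.filter (fun q : G ⧸ (P : Subgroup G) =>
          q ∈ MulAction.fixedPoints (P : Subgroup G) (G ⧸ (P : Subgroup G)))).card := by
      rw [Nat.card_eq_fintype_card, Fintype.card_subtype]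
    rw [h2] at h1
    have h3 : p ∣ Nat.card (G ⧸ (P : Subgroup G)) := (Nat.modEq_zero_iff_dvd.mp
      (h1.trans (Nat.modEq_zero_iff_dvd.mpr hdvd)))
    exact P.not_dvd_index h3
  -- the free part, with the action of the normaliser
  have hsm : ∀ (n : Subgroup.normalizer ((P : Subgroup G) : Set G)) (q : G ⧸ (P : Subgroup G)),
      n • q = (n : G) • q := by
    intro n q
    induction q using QuotientGroup.induction_on with
    | H x => rfl
  let Yc : SubMulAction (Subgroup.normalizer ((P : Subgroup G) : Set G))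
      (G ⧸ (P : Subgroup G)) :=
    { carrier := {q | q ∉ MulAction.fixedPoints (P : Subgroup G) (G ⧸ (P : Subgroup G))}
      smul_mem' := by
        intro n q hq
        induction q using QuotientGroup.induction_on with
        | H x =>
          simp only [Set.mem_ofPred_eq] at hq ⊢
          rw [hsm, MulAction.Quotient.smul_mk, hfix, smul_eq_mul]
          rw [hfix] at hq
          intro hmem
          exact hq ((Subgroup.mul_mem_cancel_left _ n.2).mp hmem) }
  have hfree : ∀ y : Yc, MulAction.stabilizer
      (Subgroup.normalizer ((P : Subgroup G) : Set G)) y = ⊥ := by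
    rintro ⟨q, hq⟩
    rw [eq_bot_iff]
    intro n hn
    rw [MulAction.mem_stabilizer_iff] at hn
    have hn' : (n : G) • q = q := by
      have := congrArg Subtype.val hn
      rw [SubMulAction.val_smul, hsm] at this
      exact this
    rw [Subgroup.mem_bot]
    apply Subtype.ext
    induction q using QuotientGroup.induction_on with
    | H x =>
      have hx : x ∉ Subgroup.normalizer ((P : Subgroup G) : Set G) := by
        have : (QuotientGroup.mk x : G ⧸ (P : Subgroup G)) ∉
            MulAction.fixedPoints (P : Subgroup G) (G ⧸ (P : Subgroup G)) := hq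
        rwa [hfix] at this
      rw [MulAction.Quotient.smul_mk, smul_eq_mul] at hn'
      have hu : x⁻¹ * (n : G) * x ∈ (P : Subgroup G) := by
        have := QuotientGroup.eq.mp hn'
        have h5 : ((n : G) * x)⁻¹ * x ∈ (P : Subgroup G) := this
        have h6 : x⁻¹ * (n : G) * x = (((n : G) * x)⁻¹ * x)⁻¹ := by group
        rw [h6]; exact Subgroup.inv_mem _ h5
      exact eq_one_of_conj_mem P hP x n hx n.2 hu
  obtain ⟨y', hy'⟩ := sum_free_action (F := F)
    (ρ.comp (Subgroup.normalizer ((P : Subgroup G) : Set G)).subtype)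
    (fun y : Yc => h (y : G ⧸ (P : Subgroup G)))
    (fun n y => by
      change h (((n • y : Yc)) : G ⧸ (P : Subgroup G)) = ρ (n : G) (h y)
      rw [SubMulAction.val_smul, hsm, h_smul]) hfree
  -- assemble
  have hsplit : ∑ q, h q =
      ((Finset.univ.filter (fun q : G ⧸ (P : Subgroup G) =>
        q ∈ MulAction.fixedPoints (P : Subgroup G) (G ⧸ (P : Subgroup G)))).card : F) • w
      + trOne ρ (Subgroup.normalizer ((P : Subgroup G) : Set G)) y' := by
    rw [← Finset.sum_filter_add_sum_filter_not Finset.univ (fun q : G ⧸ (P : Subgroup G) =>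
      q ∈ MulAction.fixedPoints (P : Subgroup G) (G ⧸ (P : Subgroup G)))]
    congr 1
    · rw [Finset.sum_congr rfl hZw, Finset.sum_const, Nat.cast_smul_eq_nsmul]
    · rw [trOne_apply]
      have e1 : ∑ q ∈ Finset.univ.filter (fun q : G ⧸ (P : Subgroup G) =>
          ¬ q ∈ MulAction.fixedPoints (P : Subgroup G) (G ⧸ (P : Subgroup G))), h q
          = ∑ y : Yc, h (y : G ⧸ (P : Subgroup G)) := by
        refine Finset.sum_subtype _ ?_ _
        intro q
        rw [Finset.mem_filter]
        exact ⟨fun hq => hq.2, fun hq => ⟨Finset.mem_univ _, hq⟩⟩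
      have e2 : ∑ g ∈ Finset.univ.filter (fun g : G =>
          g ∈ Subgroup.normalizer ((P : Subgroup G) : Set G)), ρ g y'
          = ∑ n : Subgroup.normalizer ((P : Subgroup G) : Set G), ρ (n : G) y' := by
        refine Finset.sum_subtype _ ?_ _
        intro g
        rw [Finset.mem_filter]
        exact ⟨fun hq => hq.2, fun hq => ⟨Finset.mem_univ _, hq⟩⟩
      rw [e1, e2, hy']
      rfl
  set c : F := ((Finset.univ.filter (fun q : G ⧸ (P : Subgroup G) =>
        q ∈ MulAction.fixedPoints (P : Subgroup G) (G ⧸ (P : Subgroup G)))).card : F) with hcdef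
  refine ⟨c⁻¹ • ∑ q, h q, -(c⁻¹ • y'), ?_, ?_⟩
  · intro g
    rw [map_smul, hT]
  · rw [map_neg, map_smul, hsplit, smul_add, smul_smul, inv_mul_cancel₀ hc, one_smul]
    abel

end Main

end Cfsg.Agent.Lib.Helper59.DefOneM1
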