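import Mathlib
import Cfsg.Agent.Lib.Helper59.Derangement

set_option autoImplicit false

/-!
# Index of the derangement subgroup (helper59)
-/

namespace Cfsg.Agent.Lib.Helper59

open MulAction

section General

variable {H : Type*} {X : Type*} [Group H] [MulAction H X]

/-- If every point stabilizer is contained in `N`, then the index of `N` divides the number of
points. -/
theorem index_dvd_card_of_stabilizer_le [Finite X] (N : Subgroup H)
    (hN : ∀ x : X, stabilizer H x ≤ N) : N.index ∣ Nat.card X := by
  classical
  have := Fintype.ofFinite X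
  have e := selfEquivSigmaOrbits' H X
  rw [Nat.card_congr e, Nat.card_sigma]
  apply Finset.dvd_sum
  intro ω _
  induction ω using Quotient.inductionOn' with
  | h x =>
    have h1 : orbitRel.Quotient.orbit (Quotient.mk'' x : orbitRel.Quotient H X) = orbit H x :=
      orbitRel.Quotient.orbit_mk x
    rw [h1, Nat.card_coe_set_eq, ← index_stabilizer]
    exact Subgroup.index_dvd_of_le (hN x)

end General

section Sub

variable {G : Type*} {Ω : Type*} [Group G] [MulAction G Ω]

/-- the sub-action of a subgroup `H` on an `H`-invariant subset `Y`. -/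
def subAct (H : Subgroup G) (Y : Set Ω) (hY : ∀ h ∈ H, ∀ y ∈ Y, h • y ∈ Y) :
    SubMulAction H Ω where
  carrier := Y
  smul_mem' := fun h y hy => hY h.1 h.2 y hy

/-- Relative version: if `Y` is an `H`-invariant finite set of points whose stabilizers in `H`
lie in `N`, then `[H : N ∩ H]` divides `|Y|`. -/
theorem relIndex_dvd_card_of_invariant (H N : Subgroup G) (Y : Set Ω) [Finite Y]
    (hY : ∀ h ∈ H, ∀ y ∈ Y, h • y ∈ Y)
    (hN : ∀ y ∈ Y, ∀ h ∈ H, h • y = y → h ∈ N) : N.relIndex H ∣ Nat.card Y := by
  have : Finite (subAct H Y hY) := ‹Finite Y›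
  have key := index_dvd_card_of_stabilizer_le (H := ↥H) (X := ↥(subAct H Y hY))
    (N.subgroupOf H) (by
      intro x h hh
      rw [Subgroup.mem_subgroupOf]
      rw [mem_stabilizer_iff] at hh
      apply hN x.1 x.2 h.1 h.2
      have := congrArg Subtype.val hh
      exact this)
  exact key

/-- Stabilizer of a point in a subgroup. -/
theorem stabilizer_subgroup_eq (C : Subgroup G) (β : Ω) :
    stabilizer ↥C β = (stabilizer G β).subgroupOf C := by
  ext; rfl

/-- Orbit size under a subgroup as a relative index. -/
theorem card_orbit_subgroup_eq_relIndex (C : Subgroup G) (β : Ω) :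
    Nat.card (orbit ↥C β) = (stabilizer G β).relIndex C := by
  rw [Subgroup.relIndex, ← stabilizer_subgroup_eq, index_stabilizer, Nat.card_coe_set_eq]

/-- For a transitive subgroup `D`, `[G_α : D ∩ G_α] = [G : D]`. -/
theorem relIndex_stabilizer_eq_index [Finite G] [Finite Ω] [IsPretransitive G Ω] (D : Subgroup G)
    (hDt : IsPretransitive D Ω) (α : Ω) : D.relIndex (stabilizer G α) = D.index := by
  have hn : 0 < Nat.card Ω := by
    have : Nonempty Ω := ⟨α⟩
    exact Nat.card_pos
  have h1 : (stabilizer G α).index = Nat.card Ω := index_stabilizer_of_transitive G α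
  have h2 : (stabilizer G α).relIndex D = Nat.card Ω := by
    rw [Subgroup.relIndex, ← stabilizer_subgroup_eq]
    exact index_stabilizer_of_transitive ↥D α
  have h3 : (D ⊓ stabilizer G α).relIndex D * D.index = (D ⊓ stabilizer G α).index :=
    Subgroup.relIndex_mul_index inf_le_left
  have h4 : (D ⊓ stabilizer G α).relIndex (stabilizer G α) * (stabilizer G α).index =
      (D ⊓ stabilizer G α).index := Subgroup.relIndex_mul_index inf_le_right
  rw [Subgroup.inf_relIndex_left, h2] at h3
  rw [Subgroup.inf_relIndex_right, h1] at h4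
  have : Nat.card Ω * D.index = Nat.card Ω * D.relIndex (stabilizer G α) := by
    rw [h3, ← h4, mul_comm]
  exact (Nat.eq_of_mul_eq_mul_left hn this).symm

end Sub

section DerIndex

variable {G : Type*} {Ω : Type*} [Group G] [Finite G] [MulAction G Ω] [Finite Ω]

omit [Finite G] [Finite Ω] in
/-- An element with two distinct fixed points does not have exactly one fixed point. -/
theorem card_fixedBy_ne_one_of_two (g : G) (a b : Ω) (hab : a ≠ b) (ha : g • a = a)
    (hb : g • b = b) : Nat.card (fixedBy Ω g) ≠ 1 := by
  intro h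
  have := (Nat.card_eq_one_iff_unique.mp h).1
  have h2 := this.elim (⟨a, ha⟩ : fixedBy Ω g) ⟨b, hb⟩
  exact hab (congrArg Subtype.val h2)

/-- The index of (a subgroup containing) the derangement subgroup divides the size of any
`G_α`-invariant set not containing `α`. -/
theorem der_index_dvd [IsPretransitive G Ω] (D : Subgroup G)
    (hD : ∀ g : G, (∀ ω : Ω, g • ω ≠ ω) → g ∈ D) (α : Ω) (Y : Set Ω) (hα : α ∉ Y)
    (hY : ∀ h ∈ stabilizer G α, ∀ y ∈ Y, h • y ∈ Y) : D.index ∣ Nat.card Y := by
  rw [← relIndex_stabilizer_eq_index D (der_pretransitive D hD) α]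
  apply relIndex_dvd_card_of_invariant _ _ _ hY
  intro y hy h hh hfix
  apply mem_of_card_fixedBy_ne_one D hD
  exact card_fixedBy_ne_one_of_two h α y (fun e => hα (e ▸ hy)) hh hfix

end DerIndex

end Cfsg.Agent.Lib.Helper59
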