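import Mathlib

/-!
# Diagonal and anti-diagonal endomorphisms of a 2-dimensional complex space (helper59)
-/

set_option autoImplicit false

namespace Cfsg.Agent.Lib.Helper59

open Module

variable {V : Type*} [AddCommGroup V] [Module ℂ V]

/-- `S` is diagonal with respect to the basis `b`. -/
def IsDiagB (b : Basis (Fin 2) ℂ V) (S : Module.End ℂ V) : Prop :=
  ∀ i, ∃ c : ℂ, S (b i) = c • b i

/-- `S` is anti-diagonal with respect to the basis `b`. -/
def IsAntiB (b : Basis (Fin 2) ℂ V) (S : Module.End ℂ V) : Prop :=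
  (∃ c : ℂ, S (b 0) = c • b 1) ∧ (∃ c : ℂ, S (b 1) = c • b 0)

theorem IsDiagB.commute {b : Basis (Fin 2) ℂ V} {S T : Module.End ℂ V}
    (hS : IsDiagB b S) (hT : IsDiagB b T) : S * T = T * S := by
  apply b.ext
  intro i
  obtain ⟨c, hc⟩ := hS i
  obtain ⟨d, hd⟩ := hT i
  simp only [Module.End.mul_apply, hc, hd, map_smul]
  rw [smul_smul, smul_smul, mul_comm]

theorem IsDiagB.mul {b : Basis (Fin 2) ℂ V} {S T : Module.End ℂ V}
    (hS : IsDiagB b S) (hT : IsDiagB b T) : IsDiagB b (S * T) := by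
  intro i
  obtain ⟨c, hc⟩ := hS i
  obtain ⟨d, hd⟩ := hT i
  exact ⟨d * c, by simp only [Module.End.mul_apply, hd, map_smul, hc, smul_smul]⟩

theorem IsAntiB.mul {b : Basis (Fin 2) ℂ V} {S T : Module.End ℂ V}
    (hS : IsAntiB b S) (hT : IsAntiB b T) : IsDiagB b (S * T) := by
  obtain ⟨⟨c0, hc0⟩, ⟨c1, hc1⟩⟩ := hS
  obtain ⟨⟨d0, hd0⟩, ⟨d1, hd1⟩⟩ := hT
  intro i
  fin_cases i
  · exact ⟨d0 * c1, by simp only [Fin.zero_eta, Module.End.mul_apply, hd0, map_smul, hc1, smul_smul]⟩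
  · exact ⟨d1 * c0, by simp only [Fin.mk_one, Module.End.mul_apply, hd1, map_smul, hc0, smul_smul]⟩

theorem IsDiagB.one (b : Basis (Fin 2) ℂ V) : IsDiagB b (1 : Module.End ℂ V) :=
  fun i => ⟨1, by simp⟩

/-- coordinates of the image under a diagonal map -/
theorem repr_diag_apply (b : Basis (Fin 2) ℂ V) (T : Module.End ℂ V) (μ : Fin 2 → ℂ)
    (hT : ∀ i, T (b i) = μ i • b i) (v : V) (i : Fin 2) :
    b.repr (T v) i = b.repr v i * μ i := by
  have h1 : T v = ∑ j, (b.repr v j * μ j) • b j := by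
    conv_lhs => rw [← b.sum_repr v]
    rw [map_sum]
    refine Finset.sum_congr rfl fun j _ => ?_
    rw [map_smul, hT, smul_smul]
  rw [h1, Basis.repr_sum_self]

/-- An eigenvector of a diagonal map with two distinct eigenvalues lies on one of the two
coordinate axes. -/
theorem eigvec_cases (b : Basis (Fin 2) ℂ V) (T : Module.End ℂ V) (μ : Fin 2 → ℂ)
    (hT : ∀ i, T (b i) = μ i • b i) (hμ : μ 0 ≠ μ 1) (v : V) (d : ℂ) (hv : T v = d • v)
    (hv0 : v ≠ 0) :
    (d = μ 0 ∧ ∃ c : ℂ, v = c • b 0) ∨ (d = μ 1 ∧ ∃ c : ℂ, v = c • b 1) := by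
  have hsum : v = b.repr v 0 • b 0 + b.repr v 1 • b 1 := by
    conv_lhs => rw [← b.sum_repr v]
    rw [Fin.sum_univ_two]
  have e0 : b.repr v 0 * μ 0 = d * b.repr v 0 := by
    rw [← repr_diag_apply b T μ hT v 0, hv]; simp
  have e1 : b.repr v 1 * μ 1 = d * b.repr v 1 := by
    rw [← repr_diag_apply b T μ hT v 1, hv]; simp
  by_cases ha : b.repr v 0 = 0
  · right
    have hb : b.repr v 1 ≠ 0 := by
      intro hb
      apply hv0
      rw [hsum, ha, hb]; simp
    refine ⟨?_, b.repr v 1, ?_⟩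
    · have : b.repr v 1 * (μ 1 - d) = 0 := by rw [mul_sub, e1]; ring
      rcases mul_eq_zero.mp this with h | h
      · exact absurd h hb
      · exact (sub_eq_zero.mp h).symm
    · conv_lhs => rw [hsum, ha]
      simp
  · left
    have hd : d = μ 0 := by
      have : b.repr v 0 * (μ 0 - d) = 0 := by rw [mul_sub, e0]; ring
      rcases mul_eq_zero.mp this with h | h
      · exact absurd h ha
      · exact (sub_eq_zero.mp h).symm
    refine ⟨hd, b.repr v 0, ?_⟩
    have hb : b.repr v 1 = 0 := by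
      have : b.repr v 1 * (μ 1 - μ 0) = 0 := by rw [mul_sub, e1, hd]; ring
      rcases mul_eq_zero.mp this with h | h
      · exact h
      · exact absurd (sub_eq_zero.mp h).symm hμ
    conv_lhs => rw [hsum, hb]
    simp

/-- A map commuting with a diagonal map with distinct eigenvalues is diagonal. -/
theorem isDiagB_of_commute (b : Basis (Fin 2) ℂ V) (T S : Module.End ℂ V) (μ : Fin 2 → ℂ)
    (hT : ∀ i, T (b i) = μ i • b i) (hμ : μ 0 ≠ μ 1) (hST : S * T = T * S) : IsDiagB b S := by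
  intro i
  by_cases h0 : S (b i) = 0
  · exact ⟨0, by rw [h0, zero_smul]⟩
  have hv : T (S (b i)) = μ i • S (b i) := by
    rw [← Module.End.mul_apply, ← hST, Module.End.mul_apply, hT, map_smul]
  rcases eigvec_cases b T μ hT hμ _ _ hv h0 with ⟨hd, c, hc⟩ | ⟨hd, c, hc⟩
  · fin_cases i
    · exact ⟨c, hc⟩
    · exact absurd hd.symm hμ
  · fin_cases i
    · exact absurd hd hμ
    · exact ⟨c, hc⟩

/-- A diagonal map commutes with any map having `b` as eigenbasis. -/
theorem IsDiagB.of_eig {b : Basis (Fin 2) ℂ V} {T : Module.End ℂ V} {μ : Fin 2 → ℂ}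
    (hT : ∀ i, T (b i) = μ i • b i) : IsDiagB b T := fun i => ⟨μ i, hT i⟩

/-- An injective map sending each basis vector to an eigenvector of a diagonal map with
distinct eigenvalues is diagonal or anti-diagonal. -/
theorem isDiagB_or_isAntiB (b : Basis (Fin 2) ℂ V) (T S : Module.End ℂ V) (μ : Fin 2 → ℂ)
    (hT : ∀ i, T (b i) = μ i • b i) (hμ : μ 0 ≠ μ 1) (hinj : Function.Injective S)
    (heig : ∀ i, ∃ d : ℂ, T (S (b i)) = d • S (b i)) : IsDiagB b S ∨ IsAntiB b S := by
  have hne : ∀ i, S (b i) ≠ 0 := fun i h => b.ne_zero i (hinj (by rw [h, map_zero]))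
  obtain ⟨d0, hd0⟩ := heig 0
  obtain ⟨d1, hd1⟩ := heig 1
  have hindep : ∀ c c' : ℂ, ∀ j : Fin 2, S (b 0) = c • b j → S (b 1) = c' • b j → False := by
    intro c c' j h0 h1
    have hc : c ≠ 0 := by
      intro h; apply hne 0; rw [h0, h, zero_smul]
    have : S (c' • b 0) = S (c • b 1) := by
      rw [map_smul, map_smul, h0, h1, smul_smul, smul_smul, mul_comm]
    have h2 := hinj this
    have h3 := congrArg (fun w => b.repr w 1) h2
    simp only [map_smul, Basis.repr_self, Finsupp.smul_apply, smul_eq_mul] at h3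
    rw [Finsupp.single_apply, Finsupp.single_apply] at h3
    simp at h3
    exact hc h3.symm
  rcases eigvec_cases b T μ hT hμ _ _ hd0 (hne 0) with ⟨_, c, hc⟩ | ⟨_, c, hc⟩
  · rcases eigvec_cases b T μ hT hμ _ _ hd1 (hne 1) with ⟨_, c', hc'⟩ | ⟨_, c', hc'⟩
    · exact (hindep c c' 0 hc hc').elim
    · left
      intro i
      fin_cases i
      · exact ⟨c, hc⟩
      · exact ⟨c', hc'⟩
  · rcases eigvec_cases b T μ hT hμ _ _ hd1 (hne 1) with ⟨_, c', hc'⟩ | ⟨_, c', hc'⟩
    · right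
      exact ⟨⟨c, hc⟩, ⟨c', hc'⟩⟩
    · exact (hindep c c' 1 hc hc').elim

end Cfsg.Agent.Lib.Helper59
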