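/-
helper59: KSL-[COUNT-D] (hedge): tuples of degree sequence `d` and determinant one.
-/
import Cfsg.Agent.Lib.Helper99.KSL.Defs
import Cfsg.Agent.Lib.Helper96.KslCycIdx

set_option autoImplicit false

universe u

namespace Cfsg.Agent.Lib.Helper99.KSL

open Polynomial Finset DirectSum
open Cfsg.Agent.Lib.Helper99.GLClass

section field

variable {F : Type u} [Field F]

variable {n : ℕ}

/-- scaling the constant terms of the entries `j` with `d j ≠ 0` -/
noncomputable def countD_scale (d : Fin n → ℕ) (γ : Fin n → Fˣ) (H : Fin n → F[X]) : Fin n → F[X] :=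
  fun j => if d j = 0 then H j else H j + C (((γ j : F) - 1) * (H j).coeff 0)

/-- the character by which `tdet` changes under scaling -/
noncomputable def countD_chi (d : Fin n → ℕ) : (Fin n → Fˣ) →* Fˣ where
  toFun γ := ∏ j : Fin n, if d j = 0 then 1 else γ j ^ ((j : ℕ) + 1)
  map_one' := by simp
  map_mul' γ γ' := by
    rw [← Finset.prod_mul_distrib]
    refine Finset.prod_congr rfl (fun j _ => ?_)
    by_cases h : d j = 0
    · simp [h]
    · simp [h, mul_pow]

theorem countD_sc_scale (d : Fin n → ℕ) (γ : Fin n → Fˣ) (H : Fin n → F[X]) (j : Fin n) :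
    sc (countD_scale d γ H j) ^ ((j : ℕ) + 1) =
      ((if d j = 0 then 1 else γ j ^ ((j : ℕ) + 1) : Fˣ) : F) * sc (H j) ^ ((j : ℕ) + 1) := by
  by_cases h : d j = 0
  · simp [countD_scale, h]
  · simp only [countD_scale, h, if_false]
    rw [Units.val_pow_eq_pow_val, ← mul_pow]
    congr 1
    unfold sc
    rw [natDegree_add_C, coeff_add, coeff_C_zero]
    ring

theorem countD_tdet_scale (d : Fin n → ℕ) (γ : Fin n → Fˣ) (H : Fin n → F[X]) :
    tdet (countD_scale d γ H) = ((countD_chi d γ : Fˣ) : F) * tdet H := by
  unfold tdet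
  simp only [countD_sc_scale, Finset.prod_mul_distrib]
  congr 1
  simp [countD_chi]

theorem countD_scale_injective (d : Fin n → ℕ) (γ : Fin n → Fˣ) :
    Function.Injective (countD_scale (F := F) d γ) := by
  intro H H' hHH'
  funext j
  have hj := congrFun hHH' j
  by_cases h : d j = 0
  · simpa [countD_scale, h] using hj
  · simp only [countD_scale, h, if_false] at hj
    have h0 := congrArg (fun f : F[X] => f.coeff 0) hj
    simp only [coeff_add, coeff_C_zero] at h0
    have h1 : (γ j : F) * (H j).coeff 0 = (γ j : F) * (H' j).coeff 0 := by linear_combination h0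
    have h2 : (H j).coeff 0 = (H' j).coeff 0 := mul_left_cancel₀ (Units.ne_zero _) h1
    rw [h2] at hj
    exact add_right_cancel hj

variable [Fintype F]

theorem countD_scale_mem (d : Fin n → ℕ) (γ : Fin n → Fˣ) (H : Fin n → F[X]) (hH : H ∈ Td F d) :
    countD_scale d γ H ∈ Td F d := by
  unfold Td at *
  rw [Fintype.mem_piFinset] at *
  intro j
  have hj := hH j
  by_cases h : d j = 0
  · simpa [countD_scale, h] using hj
  · simp only [countD_scale, h, if_false]
    rw [mem_Pset] at *
    obtain ⟨hm, hd, hc⟩ := hj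
    refine ⟨?_, ?_, ?_⟩
    · apply hm.add_of_left
      refine lt_of_le_of_lt degree_C_le ?_
      rw [degree_eq_natDegree hm.ne_zero, hd]
      exact_mod_cast Nat.pos_of_ne_zero h
    · rw [natDegree_add_C, hd]
    · rw [coeff_add, coeff_C_zero]
      have : (H j).coeff 0 + ((γ j : F) - 1) * (H j).coeff 0 = (γ j : F) * (H j).coeff 0 := by ring
      rw [this]
      exact mul_ne_zero (Units.ne_zero _) hc

omit [Fintype F] in
theorem countD_chi_mulSingle (d : Fin n → ℕ) (j : Fin n) (hj : d j ≠ 0) (c : Fˣ) :
    countD_chi d (Pi.mulSingle j c) = c ^ ((j : ℕ) + 1) := by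
  classical
  show (∏ i : Fin n, if d i = 0 then 1 else (Pi.mulSingle j c : Fin n → Fˣ) i ^ ((i : ℕ) + 1)) =
    c ^ ((j : ℕ) + 1)
  rw [Finset.prod_eq_single j]
  · simp [hj]
  · intro i _ hij
    simp [Pi.mulSingle_eq_of_ne hij]
  · simp

theorem countD_index_le (d : Fin n → ℕ) :
    (countD_chi (F := F) d).range.index ≤ gd (Fintype.card F) d := by
  classical
  have h := index_le_gcd_of_pow_mem (countD_chi (F := F) d).range
    ((univ.filter (fun j : Fin n => d j ≠ 0)).image (fun j : Fin n => (j : ℕ) + 1)) ?_
  · rw [Nat.card_units, Finset.gcd_image, Nat.card_eq_fintype_card (α := F)] at h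
    exact h
  · intro m hm c
    rw [Finset.mem_image] at hm
    obtain ⟨j, hj, rfl⟩ := hm
    rw [Finset.mem_filter] at hj
    exact ⟨Pi.mulSingle j c, countD_chi_mulSingle d j hj.2 c⟩

theorem countD_card_Td (d : Fin n → ℕ) : (Td F d).card = w (Fintype.card F) d := by
  unfold Td w
  rw [Fintype.card_piFinset]
  simp [card_Pset]

theorem countD_tdet_ne_zero (d : Fin n → ℕ) (H : Fin n → F[X]) (hH : H ∈ Td F d) : tdet H ≠ 0 := by
  unfold tdet
  rw [Finset.prod_ne_zero_iff]
  intro j _
  apply pow_ne_zero
  unfold Td at hH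
  rw [Fintype.mem_piFinset] at hH
  have hj := hH j
  rw [mem_Pset] at hj
  unfold sc
  exact mul_ne_zero (pow_ne_zero _ (by norm_num)) hj.2.2

open Classical in
/-- [COUNT-D], general target value `v` (hedge name). -/
theorem card_Td_tdet_eq_le_h59 (d : Fin n → ℕ) (v : F) :
    (Fintype.card F - 1) * ((Td F d).filter (fun H => tdet H = v)).card ≤
      gd (Fintype.card F) d * w (Fintype.card F) d := by
  classical
  by_cases hv : v = 0
  · have hempty : (Td F d).filter (fun H => tdet H = v) = ∅ := by
      rw [Finset.filter_eq_empty_iff]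
      intro H hH h0
      exact countD_tdet_ne_zero d H hH (h0.trans hv)
    rw [hempty]
    simp
  set Q : Subgroup Fˣ := (countD_chi (F := F) d).range with hQ
  set S1 := (Td F d).filter (fun H => tdet H = v) with hS1
  have hinj : Nat.card Q * S1.card ≤ (Td F d).card := by
    have hch : ∀ u : Q, ∃ γ, countD_chi d γ = (u : Fˣ) := fun u => u.2
    choose g hg using hch
    have : Fintype Q := Fintype.ofFinite Q
    rw [Nat.card_eq_fintype_card, ← Finset.card_univ, ← Finset.card_product]
    apply Finset.card_le_card_of_injOn (fun x => countD_scale d (g x.1) x.2)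
    · rintro ⟨u, H⟩ hx
      have hH : H ∈ S1 := (Finset.mem_product.mp hx).2
      exact countD_scale_mem d _ H (Finset.mem_filter.mp hH).1
    · rintro ⟨u, H⟩ hx ⟨u', H'⟩ hx' heq
      have hH : H ∈ S1 := (Finset.mem_product.mp hx).2
      have hH' : H' ∈ S1 := (Finset.mem_product.mp hx').2
      have h1 : tdet H = v := (Finset.mem_filter.mp hH).2
      have h1' : tdet H' = v := (Finset.mem_filter.mp hH').2
      simp only at heq
      have ht := congrArg tdet heq
      rw [countD_tdet_scale, countD_tdet_scale, h1, h1', hg, hg] at ht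
      have hu : u = u' := Subtype.ext (Units.ext (mul_right_cancel₀ hv ht))
      subst hu
      have := countD_scale_injective d (g u) heq
      rw [this]
  have h2 := Subgroup.card_mul_index Q
  rw [Nat.card_units, Nat.card_eq_fintype_card (α := F)] at h2
  calc (Fintype.card F - 1) * S1.card = Q.index * (Nat.card Q * S1.card) := by rw [← h2]; ring
    _ ≤ gd (Fintype.card F) d * (Td F d).card := Nat.mul_le_mul (countD_index_le d) hinj
    _ = gd (Fintype.card F) d * w (Fintype.card F) d := by rw [countD_card_Td]

open Classical in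
/-- [COUNT-D] tuples of degree sequence `d` and determinant one (hedge name). -/
theorem card_Td_tdet_le_h59 (d : Fin n → ℕ) :
    (Fintype.card F - 1) * ((Td F d).filter (fun H => tdet H = 1)).card ≤
      gd (Fintype.card F) d * w (Fintype.card F) d :=
  card_Td_tdet_eq_le_h59 d 1

end field

end Cfsg.Agent.Lib.Helper99.KSL
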