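/-
helper71's S0747/S0748 module [ALT-SUB]: if the alternating group (of `α`, or of an invariant
subset `F` on which a subgroup `B` is induced) is available, then every even permutation of a
subset `Δ` is induced.
-/
import Mathlib
import Cfsg.Agent.Lib.Helper71.LWDefs

set_option autoImplicit false
set_option linter.unusedSectionVars false
open Equiv
open Cfsg.Agent.Lib.Helper71.LW

namespace Cfsg.Agent.Lib.Helper59.LW

variable {α : Type*} [Fintype α] [DecidableEq α]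

theorem inducesAlt_of_alt_le' (G : Subgroup (Perm α)) (h : alternatingGroup α ≤ G)
    (Δ : Finset α) : InducesAlt G Δ := by
  intro σ hσ
  refine ⟨Perm.ofSubtype σ, h ?_, fun x => ?_⟩
  · rw [Perm.mem_alternatingGroup, Perm.sign_ofSubtype]
    exact Perm.mem_alternatingGroup.1 hσ
  · exact Perm.ofSubtype_apply_coe σ x

theorem inducesAlt_of_alt_le (G : Subgroup (Perm α)) (h : alternatingGroup α ≤ G)
    (Δ : Finset α) (hΔ : Δ ≠ Finset.univ) : InducesAlt G Δ :=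
  inducesAlt_of_alt_le' G h Δ

theorem inducesAlt_univ_of_alt_le (G : Subgroup (Perm α)) (h : alternatingGroup α ≤ G) :
    InducesAlt G Finset.univ :=
  inducesAlt_of_alt_le' G h Finset.univ

theorem inducesAlt_of_alt_sub' (G : Subgroup (Perm α)) (F : Finset α)
    (B : Subgroup (Perm ↥F)) (hB : ∀ b ∈ B, ∃ g ∈ G, ∀ x : ↥F, g (x : α) = b x)
    (hBalt : alternatingGroup ↥F ≤ B) (Δ : Finset α) (hΔ : Δ ⊆ F) : InducesAlt G Δ := by
  intro σ hσ
  -- the subtype of `↥F` corresponding to `Δ`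
  let e : {y : ↥F // (y : α) ∈ Δ} ≃ ↥Δ :=
    { toFun := fun y => ⟨(y.1 : α), y.2⟩
      invFun := fun x => ⟨⟨(x : α), hΔ x.2⟩, x.2⟩
      left_inv := fun y => rfl
      right_inv := fun x => rfl }
  let σ' : Perm {y : ↥F // (y : α) ∈ Δ} := e.symm.permCongr σ
  have hsign : Perm.sign (Perm.ofSubtype σ') = 1 := by
    rw [Perm.sign_ofSubtype, Perm.sign_permCongr]
    exact Perm.mem_alternatingGroup.1 hσ
  obtain ⟨g, hg, hgb⟩ := hB (Perm.ofSubtype σ') (hBalt (Perm.mem_alternatingGroup.2 hsign))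
  refine ⟨g, hg, fun x => ?_⟩
  have h1 := hgb ⟨(x : α), hΔ x.2⟩
  have h2 := Perm.ofSubtype_apply_coe σ' (⟨⟨(x : α), hΔ x.2⟩, x.2⟩ : {y : ↥F // (y : α) ∈ Δ})
  rw [h1]
  have h3 : ((Perm.ofSubtype σ') ⟨(x : α), hΔ x.2⟩ : ↥F) = (σ' ⟨⟨(x : α), hΔ x.2⟩, x.2⟩ : ↥F) := h2
  rw [h3]
  rfl

theorem inducesAlt_of_alt_sub (G : Subgroup (Perm α)) (F : Finset α) (B : Subgroup (Perm ↥F))
    (hB : ∀ b ∈ B, ∃ g ∈ G, ∀ x : ↥F, g (x : α) = b x) (hBalt : alternatingGroup ↥F ≤ B)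
    (Δ : Finset α) (hΔ : Δ ⊆ F) (hΔF : Δ ≠ F) : InducesAlt G Δ :=
  inducesAlt_of_alt_sub' G F B hB hBalt Δ hΔ

end Cfsg.Agent.Lib.Helper59.LW
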