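/-
helper71's S0747/S0748 module [BRIDGE]: elementary transitivity / homogeneity versus the
Mathlib predicates.
-/
import Mathlib
import Cfsg.Agent.Lib.Helper71.LWDefs

set_option autoImplicit false
open Equiv
open Cfsg.Agent.Lib.Helper71.LW

namespace Cfsg.Agent.Lib.Helper59.LW

variable {α : Type*} [Fintype α] [DecidableEq α]

omit [Fintype α] [DecidableEq α] in
theorem trans_iff (G : Subgroup (Perm α)) (k : ℕ) :
    Trans G k ↔ MulAction.IsMultiplyPretransitive G α k := by
  constructor
  · intro h
    refine ⟨fun x y => ?_⟩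
    obtain ⟨g, hg, hgxy⟩ := h x y
    refine ⟨⟨g, hg⟩, ?_⟩
    ext i
    exact hgxy i
  · intro h x y
    obtain ⟨g, hg⟩ := h.exists_smul_eq x y
    refine ⟨g.1, g.2, fun i => ?_⟩
    have := DFunLike.congr_fun hg i
    exact this

open scoped Pointwise in
theorem homog_iff (G : Subgroup (Perm α)) (j : ℕ) :
    Homog G j ↔ MulAction.IsPretransitive G (Set.powersetCard α j) := by
  constructor
  · intro h
    refine ⟨fun A B => ?_⟩
    obtain ⟨g, hg, hgAB⟩ := h (A : Finset α) (B : Finset α) A.2 B.2
    refine ⟨⟨g, hg⟩, ?_⟩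
    apply Subtype.ext
    have h3 := Set.powersetCard.coe_smul (g := (⟨g, hg⟩ : G)) (s := A)
    refine h3.trans ?_
    rw [← hgAB]
    ext a
    simp only [Finset.mem_image, Finset.mem_smul_finset]
    rfl
  · intro h A B hA hB
    obtain ⟨g, hg⟩ := h.exists_smul_eq (Set.powersetCard.ofCard hA) (Set.powersetCard.ofCard hB)
    refine ⟨g.1, g.2, ?_⟩
    have h3 := Set.powersetCard.coe_smul (g := g) (s := Set.powersetCard.ofCard hA)
    have h4 : B = g • A := (congrArg Subtype.val hg).symm.trans h3
    rw [h4]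
    ext a
    simp only [Finset.mem_image, Finset.mem_smul_finset]
    rfl

end Cfsg.Agent.Lib.Helper59.LW
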