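/-
helper71's S0747/S0748 module [LAST]: `t`-transitive of degree `t + 1` is `(t+1)`-transitive;
the alternating group of degree at least `k + 2` is `k`-transitive.
-/
import Mathlib
import Cfsg.Agent.Lib.Helper71.LWDefs
import Cfsg.Agent.Lib.Helper59.LW71Bridge

set_option autoImplicit false
set_option linter.unusedSectionVars false
open Equiv
open Cfsg.Agent.Lib.Helper71.LW

namespace Cfsg.Agent.Lib.Helper59.LW

variable {α : Type*} [Fintype α] [DecidableEq α]

theorem trans_succ_of_card (G : Subgroup (Perm α)) (t : ℕ) (hn : Fintype.card α = t + 1)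
    (h : Trans G t) : Trans G (t + 1) := by
  intro x y
  obtain ⟨g, hg, hgxy⟩ := h (Fin.castSuccEmb.trans x) (Fin.castSuccEmb.trans y)
  have hgxy' : ∀ i : Fin t, g (x i.castSucc) = y i.castSucc := hgxy
  have hysurj : Function.Surjective y := by
    apply Function.Bijective.surjective
    rw [Fintype.bijective_iff_injective_and_card]
    exact ⟨y.injective, by rw [Fintype.card_fin, hn]⟩
  refine ⟨g, hg, fun i => ?_⟩
  rcases Fin.eq_castSucc_or_eq_last i with ⟨i', rfl⟩ | rfl
  · exact hgxy' i'
  · obtain ⟨j, hj⟩ := hysurj (g (x (Fin.last t)))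
    rcases Fin.eq_castSucc_or_eq_last j with ⟨j', rfl⟩ | rfl
    · exfalso
      rw [← hgxy' j'] at hj
      have h1 := x.injective (g.injective hj)
      exact (Fin.castSucc_lt_last j').ne h1
    · exact hj.symm

theorem trans_alt (k : ℕ) (hn : k + 2 ≤ Fintype.card α) : Trans (alternatingGroup α) k := by
  rw [trans_iff]
  have h1 := alternatingGroup.isMultiplyPretransitive α
  have hle : k ≤ Nat.card α - 2 := by
    rw [Nat.card_eq_fintype_card]
    omega
  exact @MulAction.isMultiplyPretransitive_of_le (alternatingGroup α) α _ _ k (Nat.card α - 2) h1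
    hle (by simp) _

end Cfsg.Agent.Lib.Helper59.LW
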