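/-
Livingstone–Wagner / Wielandt: the arithmetic enumerations for `t = 1, 2, 3`.
-/
import Mathlib

set_option autoImplicit false

namespace Cfsg.Agent.Lib.Helper59.LW

theorem arith_bound {r s m F : ℕ} (hF : 0 < F) (h2 : 2 ≤ r) (hd : r * (m - 1) ∣ F)
    (hm : m = r * s) (hs : Odd s) : r ≤ F ∧ s ≤ F := by
  have hle : r * (m - 1) ≤ F := Nat.le_of_dvd hF hd
  obtain ⟨c, rfl⟩ := hs
  subst hm
  have h1 : 1 ≤ r * (2 * c + 1) - 1 := by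
    have : 2 * 1 ≤ r * (2 * c + 1) := Nat.mul_le_mul h2 (by omega)
    omega
  have h3 : r * 1 ≤ r * (r * (2 * c + 1) - 1) := Nat.mul_le_mul_left r h1
  have h4 : r * (2 * c + 1) - 1 ≤ r * (r * (2 * c + 1) - 1) := by
    calc r * (2 * c + 1) - 1 = 1 * (r * (2 * c + 1) - 1) := (one_mul _).symm
      _ ≤ r * (r * (2 * c + 1) - 1) := Nat.mul_le_mul_right _ (by omega)
  have h5 : 2 * (2 * c + 1) ≤ r * (2 * c + 1) := Nat.mul_le_mul_right _ h2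
  constructor <;> omega

theorem arith1_dec : ∀ r ∈ Finset.range 7, ∀ s ∈ Finset.range 7, r ∣ 2 → 2 ≤ r → r * (r * s - 1) ∣ 6 → s % 2 = 1 →
    r = 2 ∧ s = 1 := by decide

theorem arith2_dec : ∀ r ∈ Finset.range 25, ∀ s ∈ Finset.range 25, r ∣ 6 → 2 ≤ r → r * (r * s - 1) ∣ 24 →
    s % 2 = 1 → (r = 2 ∧ s = 1) ∨ (r = 3 ∧ s = 1) ∨ (r = 3 ∧ s = 3) := by decide

set_option maxRecDepth 100000 in
theorem arith3_dec : ∀ r ∈ Finset.range 25, ∀ s ∈ Finset.range 62, r ∣ 24 → 2 ≤ r → r * (r * s - 1) ∣ 120 →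
    s % 2 = 1 → (r = 2 ∧ s = 1) ∨ (r = 3 ∧ s = 1) ∨ (r = 4 ∧ s = 1) ∨ (r = 2 ∧ s = 3) ∨
      (r = 6 ∧ s = 1) ∨ (r = 3 ∧ s = 3) ∨ (r = 3 ∧ s = 7) := by decide

/-- `t = 1` -/
theorem arith1 {r s m : ℕ} (hr : r ∣ 2) (h2 : 2 ≤ r) (hd : r * (m - 1) ∣ 6) (hm : m = r * s)
    (hs : Odd s) : r = 2 ∧ s = 1 := by
  obtain ⟨hb1, hb2⟩ := arith_bound (by norm_num) h2 hd hm hs
  subst hm
  exact arith1_dec r (Finset.mem_range.mpr (by omega)) s (Finset.mem_range.mpr (by omega)) hr h2 hd (Nat.odd_iff.mp hs)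

/-- `t = 2` -/
theorem arith2 {r s m : ℕ} (hr : r ∣ 6) (h2 : 2 ≤ r) (hd : r * (m - 1) ∣ 24) (hm : m = r * s)
    (hs : Odd s) : (r = 2 ∧ s = 1) ∨ (r = 3 ∧ s = 1) ∨ (r = 3 ∧ s = 3) := by
  obtain ⟨hb1, hb2⟩ := arith_bound (by norm_num) h2 hd hm hs
  subst hm
  exact arith2_dec r (Finset.mem_range.mpr (by omega)) s (Finset.mem_range.mpr (by omega)) hr h2 hd (Nat.odd_iff.mp hs)

/-- `t = 3` -/
theorem arith3 {r s m : ℕ} (hr : r ∣ 24) (h2 : 2 ≤ r) (hd : r * (m - 1) ∣ 120) (hm : m = r * s)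
    (hs : Odd s) : (r = 2 ∧ s = 1) ∨ (r = 3 ∧ s = 1) ∨ (r = 4 ∧ s = 1) ∨ (r = 2 ∧ s = 3) ∨
      (r = 6 ∧ s = 1) ∨ (r = 3 ∧ s = 3) ∨ (r = 3 ∧ s = 7) := by
  have hr24 : r ≤ 24 := Nat.le_of_dvd (by norm_num) hr
  obtain ⟨-, hb2⟩ := arith_bound (F := 120) (by norm_num) h2 hd hm hs
  have hs61 : s ≤ 61 := by
    have hle : r * (m - 1) ≤ 120 := Nat.le_of_dvd (by norm_num) hd
    have : 2 * (m - 1) ≤ r * (m - 1) := Nat.mul_le_mul_right _ h2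
    have hm61 : m ≤ 61 := by omega
    have : 2 * s ≤ r * s := Nat.mul_le_mul_right _ h2
    omega
  subst hm
  exact arith3_dec r (Finset.mem_range.mpr (by omega)) s (Finset.mem_range.mpr (by omega)) hr h2 hd (Nat.odd_iff.mp hs)

end Cfsg.Agent.Lib.Helper59.LW
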