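/-
Livingstone–Wagner / Wielandt core, part A: pointwise stabilisers of finsets in a
permutation group, conjugacy, orbit–stabiliser (finset form, on top of helper60's
`Cfsg.Agent.S0738` toolkit).
-/
import Mathlib
import Cfsg.Agent.S0738

set_option autoImplicit false
set_option linter.unusedSectionVars false

namespace Cfsg.Agent.Lib.Helper59.LW

open Equiv
open Cfsg.Agent.S0738

variable {α : Type*} [Fintype α] [DecidableEq α]

/-- the natural action of permutations, function style -/
def pact : Perm α → α → α := fun g a => g a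

theorem isAct_pact : IsAct (pact (α := α)) where
  one := fun _ => rfl
  mul := fun _ _ _ => rfl

/-- pointwise stabiliser in `G` of a finset, as a subgroup of `Perm α` -/
def fixG (G : Subgroup (Perm α)) (A : Finset α) : Subgroup (Perm α) where
  carrier := {g | g ∈ G ∧ ∀ a ∈ A, g a = a}
  mul_mem' := by
    rintro g h ⟨hg, hg'⟩ ⟨hh, hh'⟩
    refine ⟨G.mul_mem hg hh, fun a ha => ?_⟩
    rw [Perm.mul_apply, hh' a ha, hg' a ha]
  one_mem' := ⟨G.one_mem, fun _ _ => rfl⟩
  inv_mem' := by
    rintro g ⟨hg, hg'⟩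
    refine ⟨G.inv_mem hg, fun a ha => ?_⟩
    rw [Perm.inv_eq_iff_eq, hg' a ha]

theorem mem_fixG {G : Subgroup (Perm α)} {A : Finset α} {g : Perm α} :
    g ∈ fixG G A ↔ g ∈ G ∧ ∀ a ∈ A, g a = a := Iff.rfl

theorem fixG_le (G : Subgroup (Perm α)) (A : Finset α) : fixG G A ≤ G := fun _ h => h.1

theorem fixG_mono (G : Subgroup (Perm α)) {A B : Finset α} (h : A ⊆ B) :
    fixG G B ≤ fixG G A := fun _ hg => ⟨hg.1, fun a ha => hg.2 a (h ha)⟩

theorem fixG_empty (G : Subgroup (Perm α)) : fixG G ∅ = G := by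
  ext g
  simp [mem_fixG]

/-- conjugate pointwise stabilisers have the same order -/
theorem card_fixG_image (G : Subgroup (Perm α)) (A : Finset α) {g : Perm α} (hg : g ∈ G) :
    Nat.card (fixG G (A.image g)) = Nat.card (fixG G A) := by
  refine Nat.card_congr
    { toFun := fun k => ⟨g⁻¹ * k.1 * g, ?_⟩
      invFun := fun k => ⟨g * k.1 * g⁻¹, ?_⟩
      left_inv := fun k => by ext; simp [mul_assoc]
      right_inv := fun k => by ext; simp [mul_assoc] }
  · refine ⟨G.mul_mem (G.mul_mem (G.inv_mem hg) k.2.1) hg, fun a ha => ?_⟩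
    have := k.2.2 (g a) (Finset.mem_image_of_mem g ha)
    simp [Perm.mul_apply, this]
  · refine ⟨G.mul_mem (G.mul_mem hg k.2.1) (G.inv_mem hg), fun b hb => ?_⟩
    obtain ⟨a, ha, rfl⟩ := Finset.mem_image.mp hb
    have := k.2.2 a ha
    simp [Perm.mul_apply, this]

/-- the stabiliser of `x` inside `fixG G A` is `fixG G (insert x A)` -/
theorem filter_elems_fixG (G : Subgroup (Perm α)) (A : Finset α) (x : α)
    (inst : DecidablePred fun k : Perm α => pact k x = x) :
    @Finset.filter _ (fun k => pact k x = x) inst (elems (fixG G A)) =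
      elems (fixG G (insert x A)) := by
  ext k
  rw [Finset.mem_filter, mem_elems, mem_elems, mem_fixG, mem_fixG]
  simp only [Finset.mem_insert, pact]
  constructor
  · rintro ⟨⟨h1, h2⟩, h3⟩
    refine ⟨h1, ?_⟩
    rintro a (rfl | ha)
    · exact h3
    · exact h2 a ha
  · rintro ⟨h1, h2⟩
    exact ⟨⟨h1, fun a ha => h2 a (Or.inr ha)⟩, h2 x (Or.inl rfl)⟩

/-- orbit–stabiliser for pointwise stabilisers -/
theorem card_orb_fixG (G : Subgroup (Perm α)) (A : Finset α) (x : α) :
    (orb pact (fixG G A) x).card * Nat.card (fixG G (insert x A)) = Nat.card (fixG G A) := by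
  have h := card_orb_mul (isAct_pact (α := α)) (fixG G A) x
  rw [filter_elems_fixG, card_elems, card_elems] at h
  exact h

theorem card_fixG_pos (G : Subgroup (Perm α)) (A : Finset α) : 0 < Nat.card (fixG G A) :=
  Nat.card_pos

/-- points of an orbit of `fixG G A` of a point outside `A` stay outside `A` -/
theorem notMem_of_mem_orb {G : Subgroup (Perm α)} {A : Finset α} {x z : α} (hx : x ∉ A)
    (hz : z ∈ orb pact (fixG G A) x) : z ∉ A := by
  obtain ⟨k, hk, rfl⟩ := mem_orb.mp hz
  intro h
  apply hx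
  have := hk.2 _ h
  have h2 : k x = x := k.injective this
  simpa [pact, h2] using h

end Cfsg.Agent.Lib.Helper59.LW
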