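/-
Livingstone–Wagner / Wielandt core, part B: sharpness.
If `G` is transitive on `t`-, `(t+1)`- and `(t+2)`-subsets and the pointwise stabiliser of
some `t`-set has at least two orbits on the remaining points, then only the identity fixes
`t+1` points, and the `t`-point stabilisers are semiregular on the remaining points.
-/
import Mathlib
import Cfsg.Agent.Lib.Helper59.LWCoreA

set_option autoImplicit false
set_option linter.unusedSectionVars false

namespace Cfsg.Agent.Lib.Helper59.LW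

open Equiv
open Cfsg.Agent.S0738

variable {α : Type*} [Fintype α] [DecidableEq α]

/-- `G` is transitive on `j`-subsets (elementwise form) -/
def Homog (G : Subgroup (Perm α)) (j : ℕ) : Prop :=
  ∀ A B : Finset α, A.card = j → B.card = j → ∃ g ∈ G, A.image g = B

theorem Homog.card_fixG_eq {G : Subgroup (Perm α)} {j : ℕ} (h : Homog G j) {A B : Finset α}
    (hA : A.card = j) (hB : B.card = j) : Nat.card (fixG G A) = Nat.card (fixG G B) := by
  obtain ⟨g, hg, rfl⟩ := h A B hA hB
  exact (card_fixG_image G A hg).symm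

/-- the hypotheses of the core -/
structure Hyp (G : Subgroup (Perm α)) (t : ℕ) : Prop where
  hom0 : Homog G t
  hom1 : Homog G (t + 1)
  hom2 : Homog G (t + 2)
  two_orbits : ∃ (Δ : Finset α) (x y : α), Δ.card = t ∧ x ∉ Δ ∧ y ∉ Δ ∧
    ∀ h ∈ fixG G Δ, h x ≠ y

theorem orb_fixG_invariant {G : Subgroup (Perm α)} {A B : Finset α} (hAB : A ⊆ B) {x : α}
    {k : Perm α} (hk : k ∈ fixG G B) {v : α} (hv : v ∈ orb pact (fixG G A) x) :
    pact k v ∈ orb pact (fixG G A) x := by
  obtain ⟨h, hh, rfl⟩ := mem_orb.mp hv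
  exact mem_orb.mpr ⟨k * h, (fixG G A).mul_mem (fixG_mono G hAB hk) hh, rfl⟩

/-- key step: the `(t+1)`-point and `(t+2)`-point stabilisers have the same order -/
theorem Hyp.card_eq {G : Subgroup (Perm α)} {t : ℕ} (H : Hyp G t) :
    ∀ Γ Θ : Finset α, Γ.card = t + 1 → Θ.card = t + 2 →
      Nat.card (fixG G Γ) = Nat.card (fixG G Θ) := by
  obtain ⟨Δ, x, y, hΔ, hx, hy, hxy⟩ := H.two_orbits
  have hxy' : x ≠ y := fun h => hxy 1 (fixG G Δ).one_mem (by simpa using h)
  set Γ0 := insert x Δ with hΓ0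
  have hΓ0c : Γ0.card = t + 1 := by rw [hΓ0, Finset.card_insert_of_notMem hx, hΔ]
  have hyΓ0 : y ∉ Γ0 := by
    rw [hΓ0, Finset.mem_insert]
    rintro (h | h)
    · exact hxy' h.symm
    · exact hy h
  set Θ0 := insert y Γ0 with hΘ0
  have hΘ0c : Θ0.card = t + 2 := by rw [hΘ0, Finset.card_insert_of_notMem hyΓ0, hΓ0c]
  -- it suffices to treat Γ0, Θ0
  suffices hmain : Nat.card (fixG G Γ0) = Nat.card (fixG G Θ0) by
    intro Γ Θ hΓ hΘ
    rw [H.hom1.card_fixG_eq hΓ hΓ0c, H.hom2.card_fixG_eq hΘ hΘ0c, hmain]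
  -- orbit sizes
  have hKpos := card_fixG_pos G Γ0
  have h1 := card_orb_fixG G Δ x
  have h2 := card_orb_fixG G Δ y
  have hΓy : (insert y Δ).card = t + 1 := by rw [Finset.card_insert_of_notMem hy, hΔ]
  rw [H.hom1.card_fixG_eq hΓy hΓ0c] at h2
  have hsxy : (orb pact (fixG G Δ) x).card = (orb pact (fixG G Δ) y).card := by
    have : (orb pact (fixG G Δ) x).card * Nat.card (fixG G Γ0) =
        (orb pact (fixG G Δ) y).card * Nat.card (fixG G Γ0) := by rw [h1, h2]
    exact Nat.eq_of_mul_eq_mul_right hKpos this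
  -- all orbits of K = fixG Γ0 off Γ0 have the same size ℓ
  set ℓ := (orb pact (fixG G Γ0) y).card with hℓ
  have hℓ1 := card_orb_fixG G Γ0 y
  have hc2pos := card_fixG_pos G Θ0
  have hall : ∀ z : α, z ∉ Γ0 → (orb pact (fixG G Γ0) z).card = ℓ := by
    intro z hz
    have hz1 := card_orb_fixG G Γ0 z
    have hzc : (insert z Γ0).card = t + 2 := by rw [Finset.card_insert_of_notMem hz, hΓ0c]
    rw [H.hom2.card_fixG_eq hzc hΘ0c] at hz1
    have : (orb pact (fixG G Γ0) z).card * Nat.card (fixG G Θ0) =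
        ℓ * Nat.card (fixG G Θ0) := by rw [hz1, hℓ, hℓ1]
    exact Nat.eq_of_mul_eq_mul_right hc2pos this
  have hΔΓ0 : Δ ⊆ Γ0 := Finset.subset_insert x Δ
  -- V1 = orbit of y under fixG Δ
  have hV1 : ℓ ∣ (orb pact (fixG G Δ) y).card := by
    refine dvd_card_of_orbits (isAct_pact (α := α)) (fixG G Γ0) ℓ _ _ rfl ?_ ?_
    · intro k hk v hv
      exact orb_fixG_invariant hΔΓ0 hk hv
    · intro v hv
      apply hall
      rw [hΓ0, Finset.mem_insert]
      rintro (h | h)
      · obtain ⟨k, hk, hkv⟩ := mem_orb.mp hv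
        apply hxy k⁻¹ ((fixG G Δ).inv_mem hk)
        rw [Perm.inv_eq_iff_eq, ← h]
        exact hkv.symm
      · exact notMem_of_mem_orb hy hv h
  -- V2 = orbit of x under fixG Δ, minus x
  have hxmem : x ∈ orb pact (fixG G Δ) x := self_mem_orb isAct_pact _ _
  have hV2 : ℓ ∣ ((orb pact (fixG G Δ) x).erase x).card := by
    refine dvd_card_of_orbits (isAct_pact (α := α)) (fixG G Γ0) ℓ _ _ rfl ?_ ?_
    · intro k hk v hv
      rw [Finset.mem_erase] at hv ⊢
      refine ⟨?_, orb_fixG_invariant hΔΓ0 hk hv.2⟩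
      intro h
      apply hv.1
      have hkx : k x = x := hk.2 x (Finset.mem_insert_self x Δ)
      apply k.injective
      rw [hkx]
      exact h
    · intro v hv
      rw [Finset.mem_erase] at hv
      apply hall
      rw [hΓ0, Finset.mem_insert]
      rintro (h | h)
      · exact hv.1 h
      · exact notMem_of_mem_orb hx hv.2 h
  rw [Finset.card_erase_of_mem hxmem, hsxy] at hV2
  have hpos : 0 < (orb pact (fixG G Δ) y).card :=
    Finset.card_pos.mpr ⟨y, self_mem_orb isAct_pact _ _⟩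
  have hℓone : ℓ = 1 := by
    have h3 := Nat.dvd_sub hV1 hV2
    have h4 : (orb pact (fixG G Δ) y).card - ((orb pact (fixG G Δ) y).card - 1) = 1 := by omega
    rw [h4] at h3
    exact Nat.dvd_one.mp h3
  rw [← hℓ, hℓone, one_mul] at hℓ1
  exact hℓ1.symm

/-- sharpness: only the identity of `G` fixes `t+1` points -/
theorem Hyp.sharp {G : Subgroup (Perm α)} {t : ℕ} (H : Hyp G t) (Γ : Finset α)
    (hΓ : Γ.card = t + 1) : fixG G Γ = ⊥ := by
  rw [eq_bot_iff]
  intro g hg
  rw [Subgroup.mem_bot]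
  ext z
  by_cases hz : z ∈ Γ
  · exact hg.2 z hz
  · have hzc : (insert z Γ).card = t + 2 := by rw [Finset.card_insert_of_notMem hz, hΓ]
    have hle : fixG G (insert z Γ) ≤ fixG G Γ := fixG_mono G (Finset.subset_insert z Γ)
    have hcard := H.card_eq Γ (insert z Γ) hΓ hzc
    have heq : fixG G (insert z Γ) = fixG G Γ :=
      Subgroup.eq_of_le_of_card_ge hle (by rw [hcard])
    rw [← heq] at hg
    exact hg.2 z (Finset.mem_insert_self z Γ)

theorem Hyp.eq_one_of_fix {G : Subgroup (Perm α)} {t : ℕ} (H : Hyp G t) {g : Perm α}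
    (hg : g ∈ G) (Γ : Finset α) (hΓ : Γ.card = t + 1) (hfix : ∀ a ∈ Γ, g a = a) : g = 1 := by
  have : g ∈ fixG G Γ := ⟨hg, hfix⟩
  rw [H.sharp Γ hΓ] at this
  exact Subgroup.mem_bot.mp this

end Cfsg.Agent.Lib.Helper59.LW
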