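/-
Livingstone–Wagner / Wielandt core, part C: numbers, and bridges to Mathlib's notions.
-/
import Mathlib
import Cfsg.Agent.Lib.Helper59.LWCoreB
import Cfsg.Agent.Lib.Helper89.LWParity
import Cfsg.Agent.Lib.Helper77.LWSwapTrans

set_option autoImplicit false
set_option linter.unusedSectionVars false

namespace Cfsg.Agent.Lib.Helper59.LW

open Equiv MulAction
open scoped Pointwise
open Cfsg.Agent.S0738

variable {α : Type*} [Fintype α] [DecidableEq α]

/-- the `t`-point stabilisers are semiregular off the fixed set, with at least two orbits -/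
theorem Hyp.numbers {G : Subgroup (Perm α)} {t : ℕ} (H : Hyp G t) :
    ∃ s : ℕ, 0 < s ∧ (∀ Δ : Finset α, Δ.card = t → Nat.card (fixG G Δ) = s) ∧
      s ∣ (Fintype.card α - t) ∧ 2 * s ≤ Fintype.card α - t := by
  obtain ⟨Δ, x, y, hΔ, hx, hy, hxy⟩ := H.two_orbits
  refine ⟨Nat.card (fixG G Δ), card_fixG_pos G Δ, fun Δ' hΔ' => H.hom0.card_fixG_eq hΔ' hΔ, ?_, ?_⟩
  all_goals
    have horb : ∀ z : α, z ∉ Δ → (orb pact (fixG G Δ) z).card = Nat.card (fixG G Δ) := by
      intro z hz
      have h := card_orb_fixG G Δ z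
      have hc : (insert z Δ).card = t + 1 := by rw [Finset.card_insert_of_notMem hz, hΔ]
      rw [H.sharp _ hc, Subgroup.card_bot, mul_one] at h
      exact h
    have hVcard : (Finset.univ \ Δ).card = Fintype.card α - t := by
      rw [Finset.card_sdiff_of_subset (Finset.subset_univ Δ), Finset.card_univ, hΔ]
  · rw [← hVcard]
    refine dvd_card_of_orbits (isAct_pact (α := α)) (fixG G Δ) _ _ _ rfl ?_ ?_
    · intro k hk v hv
      rw [Finset.mem_sdiff] at hv ⊢
      refine ⟨Finset.mem_univ _, ?_⟩
      exact notMem_of_mem_orb hv.2 (mem_orb.mpr ⟨k, hk, rfl⟩)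
    · intro v hv
      exact horb v (Finset.mem_sdiff.mp hv).2
  · have hsub : orb pact (fixG G Δ) x ∪ orb pact (fixG G Δ) y ⊆ Finset.univ \ Δ := by
      intro z hz
      rw [Finset.mem_sdiff]
      refine ⟨Finset.mem_univ _, ?_⟩
      rcases Finset.mem_union.mp hz with h | h
      · exact notMem_of_mem_orb hx h
      · exact notMem_of_mem_orb hy h
    have hdisj : Disjoint (orb pact (fixG G Δ) x) (orb pact (fixG G Δ) y) := by
      rw [Finset.disjoint_left]
      intro z hz1 hz2
      obtain ⟨h1, hh1, e1⟩ := mem_orb.mp hz1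
      obtain ⟨h2, hh2, e2⟩ := mem_orb.mp hz2
      apply hxy (h2⁻¹ * h1) ((fixG G Δ).mul_mem ((fixG G Δ).inv_mem hh2) hh1)
      rw [Perm.mul_apply, Perm.inv_eq_iff_eq]
      exact e1.trans e2.symm
    have hle := Finset.card_le_card hsub
    rw [Finset.card_union_of_disjoint hdisj, horb x hx, horb y hy, hVcard] at hle
    omega

/-- bridge: Mathlib homogeneity gives `Homog` -/
theorem homog_of_isPretransitive (G : Subgroup (Perm α)) (j : ℕ)
    (h : IsPretransitive G (Set.powersetCard α j)) : Homog G j := by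
  intro A B hA hB
  obtain ⟨g, hg⟩ := h.exists_smul_eq (Set.powersetCard.ofCard hA) (Set.powersetCard.ofCard hB)
  refine ⟨g.1, g.2, ?_⟩
  have h3 := Set.powersetCard.coe_smul (g := g) (s := Set.powersetCard.ofCard hA)
  have h4 : B = g • A := (congrArg Subtype.val hg).symm.trans h3
  rw [h4]
  ext a
  simp only [Finset.mem_image, Finset.mem_smul_finset]
  rfl

/-- bridge: binomial coefficient divides the group order -/
theorem choose_dvd_card (G : Subgroup (Perm α)) (j : ℕ) (hj : j ≤ Fintype.card α)
    (h : IsPretransitive G (Set.powersetCard α j)) :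
    (Fintype.card α).choose j ∣ Nat.card G := by
  classical
  obtain ⟨A, -, hA⟩ := Finset.exists_subset_card_eq (s := (Finset.univ : Finset α)) (n := j)
    (by rw [Finset.card_univ]; exact hj)
  let a : Set.powersetCard α j := Set.powersetCard.ofCard hA
  have h1 := MulAction.card_orbit_mul_card_stabilizer_eq_card_group G a
  have h2 : Nat.card (orbit G a) = (Fintype.card α).choose j := by
    rw [MulAction.orbit_eq_univ G a, Nat.card_congr (Equiv.Set.univ _),
      Set.powersetCard.card, Nat.card_eq_fintype_card]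
  rw [← Nat.card_eq_fintype_card, ← Nat.card_eq_fintype_card, ← Nat.card_eq_fintype_card,
    h2] at h1
  exact ⟨_, h1.symm⟩

end Cfsg.Agent.Lib.Helper59.LW
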