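/-
Livingstone–Wagner / Wielandt core, part D: the core theorem in Mathlib terms.
-/
import Mathlib
import Cfsg.Agent.Lib.Helper59.LWCoreC

set_option autoImplicit false
set_option linter.unusedSectionVars false

namespace Cfsg.Agent.Lib.Helper59.LW

open Equiv MulAction
open scoped Pointwise
open Cfsg.Agent.S0738

variable {α : Type*} [Fintype α] [DecidableEq α]

theorem mem_stabilizer_emb {G : Subgroup (Perm α)} {t : ℕ} (x : Fin t ↪ α) (g : G) :
    g ∈ stabilizer G x ↔ ∀ i, (g : Perm α) (x i) = x i := by
  rw [mem_stabilizer_iff, DFunLike.ext_iff]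
  rfl

/-- tuple stabilisers versus pointwise stabilisers of the underlying set -/
theorem card_stabilizer_eq_card_fixG (G : Subgroup (Perm α)) {t : ℕ} (x : Fin t ↪ α) :
    Nat.card (stabilizer G x) = Nat.card (fixG G (Finset.univ.map x)) := by
  refine Nat.card_congr
    { toFun := fun k => ⟨k.1.1, ⟨k.1.2, ?_⟩⟩
      invFun := fun k => ⟨⟨k.1, k.2.1⟩, ?_⟩
      left_inv := fun k => rfl
      right_inv := fun k => rfl }
  · intro a ha
    obtain ⟨i, -, rfl⟩ := Finset.mem_map.mp ha
    exact (mem_stabilizer_emb x k.1).mp k.2 i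
  · rw [mem_stabilizer_emb]
    intro i
    exact k.2.2 (x i) (Finset.mem_map_of_mem x (Finset.mem_univ i))

/-- order of a `t`-transitive group (abstract form) -/
theorem card_eq_descFactorial_mul' {G' β : Type*} [Group G'] [MulAction G' β] [Fintype β]
    {t : ℕ} (hT : IsMultiplyPretransitive G' β t) (x : Fin t ↪ β) :
    Nat.card G' = (Fintype.card β).descFactorial t * Nat.card (stabilizer G' x) := by
  have h1 := Subgroup.card_eq_card_quotient_mul_card_subgroup (stabilizer G' x)
  have h2 : Nat.card (orbit G' x) = Nat.card (G' ⧸ stabilizer G' x) :=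
    Nat.card_congr (orbitEquivQuotientStabilizer G' x)
  have h3 : Nat.card (orbit G' x) = (Fintype.card β).descFactorial t := by
    rw [orbit_eq_univ G' x, Nat.card_congr (Equiv.Set.univ _), Nat.card_eq_fintype_card,
      Fintype.card_embedding_eq, Fintype.card_fin]
  rw [h1, ← h2, h3]

/-- order of a `t`-transitive group -/
theorem card_eq_descFactorial_mul (G : Subgroup (Perm α)) {t : ℕ}
    (hT : IsMultiplyPretransitive G α t) (x : Fin t ↪ α) :
    Nat.card G = (Fintype.card α).descFactorial t * Nat.card (stabilizer G x) :=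
  card_eq_descFactorial_mul' hT x

/-- elementwise form of multiple transitivity -/
theorem exists_map_emb (G : Subgroup (Perm α)) {t : ℕ} (h : IsMultiplyPretransitive G α t)
    (x y : Fin t ↪ α) : ∃ g ∈ G, ∀ i, g (x i) = y i := by
  obtain ⟨g, hg⟩ := h.exists_smul_eq x y
  refine ⟨g.1, g.2, fun i => ?_⟩
  have := DFunLike.congr_fun hg i
  exact this

/-- `t`-transitivity gives `Homog G t` -/
theorem homog_of_isMultiplyPretransitive (G : Subgroup (Perm α)) {t : ℕ}
    (h : IsMultiplyPretransitive G α t) : Homog G t :=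
  homog_of_isPretransitive G t (Set.powersetCard.isPretransitive_of_isMultiplyPretransitive G h)

/-- two orbits of a `t`-point stabiliser from the failure of `(t+1)`-transitivity -/
theorem two_orbits_of_not (G : Subgroup (Perm α)) {t : ℕ} (h : IsMultiplyPretransitive G α t)
    (hn : ¬ IsMultiplyPretransitive G α (t + 1)) :
    ∃ (Δ : Finset α) (x y : α), Δ.card = t ∧ x ∉ Δ ∧ y ∉ Δ ∧ ∀ k ∈ fixG G Δ, k x ≠ y := by
  have hn' : ¬ ∀ x y : Fin (t + 1) ↪ α, ∃ g : G, g • x = y := fun hh => hn ⟨hh⟩
  push Not at hn'
  obtain ⟨x, y, hxy⟩ := hn'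
  set x' : Fin t ↪ α := Fin.castSuccEmb.trans x with hx'
  set y' : Fin t ↪ α := Fin.castSuccEmb.trans y with hy'
  obtain ⟨g, hg, hgxy⟩ := exists_map_emb G h x' y'
  refine ⟨Finset.univ.map y', g (x (Fin.last t)), y (Fin.last t), ?_, ?_, ?_, ?_⟩
  · rw [Finset.card_map, Finset.card_univ, Fintype.card_fin]
  · intro hmem
    obtain ⟨i, -, hi⟩ := Finset.mem_map.mp hmem
    rw [← hgxy i] at hi
    have := x.injective (g.injective hi)
    simp [Fin.ext_iff] at this
    exact absurd this (Nat.ne_of_lt i.2)
  · intro hmem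
    obtain ⟨i, -, hi⟩ := Finset.mem_map.mp hmem
    have := y.injective hi
    simp [Fin.ext_iff] at this
    exact absurd this (Nat.ne_of_lt i.2)
  · intro k hk hkx
    apply hxy ⟨k * g, G.mul_mem hk.1 hg⟩
    ext i
    change (k * g) (x i) = y i
    rcases Fin.eq_castSucc_or_eq_last i with ⟨j, rfl⟩ | rfl
    · have h1 : g (x (Fin.castSucc j)) = y (Fin.castSucc j) := hgxy j
      rw [Perm.mul_apply, h1]
      exact hk.2 _ (Finset.mem_map_of_mem y' (Finset.mem_univ j))
    · rw [Perm.mul_apply]
      exact hkx

/-- **Core theorem.**  Let `G` be `t`-transitive (`t ≥ 1`) but not `(t+1)`-transitive on `n ≥ t+2`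
points, and transitive on `(t+1)`-sets and on `(t+2)`-sets. Then only the identity fixes `t+1`
points, the stabiliser of `t` points has odd order `s`, and `n - t = r * s` with `r ≥ 2`,
`r ∣ (t+1)!`, `r * (n - t - 1) ∣ (t+2)!`. -/
theorem core (G : Subgroup (Perm α)) (t : ℕ) (ht : 1 ≤ t) (hn : t + 2 ≤ Fintype.card α)
    (hT : IsMultiplyPretransitive G α t) (hnT : ¬ IsMultiplyPretransitive G α (t + 1))
    (hh1 : IsPretransitive G (Set.powersetCard α (t + 1)))
    (hh2 : IsPretransitive G (Set.powersetCard α (t + 2))) :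
    ∃ s r : ℕ, Odd s ∧ 2 ≤ r ∧ Fintype.card α - t = r * s ∧ r ∣ (t + 1).factorial ∧
      r * (Fintype.card α - t - 1) ∣ (t + 2).factorial ∧
      (∀ x : Fin t ↪ α, Nat.card (stabilizer G x) = s) ∧
      (∀ g ∈ G, ∀ Γ : Finset α, Γ.card = t + 1 → (∀ a ∈ Γ, g a = a) → g = 1) := by
  have H : Hyp G t :=
    { hom0 := homog_of_isMultiplyPretransitive G hT
      hom1 := homog_of_isPretransitive G _ hh1
      hom2 := homog_of_isPretransitive G _ hh2
      two_orbits := two_orbits_of_not G hT hnT }
  obtain ⟨s, hspos, hs, hsdvd, h2s⟩ := H.numbers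
  have hsharp : ∀ g ∈ G, ∀ Γ : Finset α, Γ.card = t + 1 → (∀ a ∈ Γ, g a = a) → g = 1 :=
    fun g hg Γ hΓ hfix => H.eq_one_of_fix hg Γ hΓ hfix
  have hstab : ∀ x : Fin t ↪ α, Nat.card (stabilizer G x) = s := by
    intro x
    rw [card_stabilizer_eq_card_fixG]
    exact hs _ (by rw [Finset.card_map, Finset.card_univ, Fintype.card_fin])
  obtain ⟨r, hr⟩ := hsdvd
  have hr' : Fintype.card α - t = r * s := by rw [hr, mul_comm]
  have hr2 : 2 ≤ r := by
    by_contra hcon
    have : r ≤ 1 := by omega
    have : r * s ≤ 1 * s := Nat.mul_le_mul_right s this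
    omega
  -- group order
  have htn : t ≤ Fintype.card α := by omega
  obtain ⟨x0⟩ : Nonempty (Fin t ↪ α) := by
    rw [Function.Embedding.nonempty_iff_card_le, Fintype.card_fin]
    exact htn
  have hcard := card_eq_descFactorial_mul G hT x0
  rw [hstab x0] at hcard
  set D := (Fintype.card α).descFactorial t with hD
  have hDpos : 0 < D := by
    rw [hD]
    exact Nat.pos_of_ne_zero (fun h0 => by
      rw [Nat.descFactorial_eq_zero_iff_lt] at h0
      omega)
  -- divisibility by binomials
  obtain ⟨a, ha⟩ := choose_dvd_card G (t + 1) (by omega) hh1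
  obtain ⟨b, hb⟩ := choose_dvd_card G (t + 2) (by omega) hh2
  have e1 : (Fintype.card α).descFactorial (t + 1) = (Fintype.card α - t) * D := by
    rw [Nat.descFactorial_succ]
  have e2 : (Fintype.card α).descFactorial (t + 2) =
      (Fintype.card α - t - 1) * ((Fintype.card α - t) * D) := by
    rw [Nat.descFactorial_succ, e1]
    congr 1
  have f1 := Nat.descFactorial_eq_factorial_mul_choose (Fintype.card α) (t + 1)
  have f2 := Nat.descFactorial_eq_factorial_mul_choose (Fintype.card α) (t + 2)
  have hr1 : r ∣ (t + 1).factorial := by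
    refine ⟨a, ?_⟩
    have : (D * s) * (t + 1).factorial = (D * s) * (r * a) := by
      calc (D * s) * (t + 1).factorial
          = (t + 1).factorial * Nat.card G := by rw [hcard]; ring
        _ = (t + 1).factorial * ((Fintype.card α).choose (t + 1) * a) := by rw [ha]
        _ = (Fintype.card α).descFactorial (t + 1) * a := by rw [f1]; ring
        _ = (D * s) * (r * a) := by rw [e1, hr']; ring
    exact Nat.eq_of_mul_eq_mul_left (Nat.mul_pos hDpos hspos) this
  have hr3 : r * (Fintype.card α - t - 1) ∣ (t + 2).factorial := by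
    refine ⟨b, ?_⟩
    have : (D * s) * (t + 2).factorial = (D * s) * (r * (Fintype.card α - t - 1) * b) := by
      calc (D * s) * (t + 2).factorial
          = (t + 2).factorial * Nat.card G := by rw [hcard]; ring
        _ = (t + 2).factorial * ((Fintype.card α).choose (t + 2) * b) := by rw [hb]
        _ = (Fintype.card α).descFactorial (t + 2) * b := by rw [f2]; ring
        _ = (D * s) * (r * (Fintype.card α - t - 1) * b) := by rw [e2, hr']; ring
    exact Nat.eq_of_mul_eq_mul_left (Nat.mul_pos hDpos hspos) this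
  -- parity
  have hodd : Odd s := by
    by_contra hcon
    rw [Nat.not_odd_iff_even] at hcon
    apply hnT
    apply Cfsg.Agent.Lib.Helper77.LW.isMultiplyPretransitive_of_swaps G (t + 1) hh1
    intro E a b hE haE hbE hab
    have hEc : E.card = t - 1 := by omega
    apply Cfsg.Agent.Lib.Helper89.LW.swap_of_involutions G E ?_ ?_ a b haE hbE hab
    · intro g hg a' b' ha' hb' hab' hfixE hfa hfb
      apply hsharp g hg (insert a' (insert b' E))
      · rw [Finset.card_insert_of_notMem, Finset.card_insert_of_notMem hb', hEc]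
        · omega
        · rw [Finset.mem_insert]
          rintro (h | h)
          · exact hab' h
          · exact ha' h
      · intro c hc
        rcases Finset.mem_insert.mp hc with rfl | hc
        · exact hfa
        rcases Finset.mem_insert.mp hc with rfl | hc
        · exact hfb
        · exact hfixE c hc
    · intro z hz
      have hzc : (insert z E).card = t := by
        rw [Finset.card_insert_of_notMem hz, hEc]
        omega
      have hcardz := hs _ hzc
      have h2dvd : 2 ∣ Nat.card (fixG G (insert z E)) := by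
        rw [hcardz]
        exact even_iff_two_dvd.mp hcon
      have : Fact (Nat.Prime 2) := ⟨Nat.prime_two⟩
      obtain ⟨w, hw⟩ := exists_prime_orderOf_dvd_card' 2 h2dvd
      refine ⟨w.1, w.2.1, ?_, ?_, fun e he => w.2.2 e (Finset.mem_insert_of_mem he),
        w.2.2 z (Finset.mem_insert_self z E)⟩
      · intro h1
        have : w = 1 := Subtype.ext h1
        rw [this, orderOf_one] at hw
        omega
      · have h2 : w ^ 2 = 1 := by rw [← hw]; exact pow_orderOf_eq_one w
        have h3 := congrArg Subtype.val h2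
        rw [pow_two] at h3
        exact h3
  exact ⟨s, r, hodd, hr2, hr', hr1, hr3, hstab, hsharp⟩

end Cfsg.Agent.Lib.Helper59.LW
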