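/-
Livingstone–Wagner, first form: the inductive step and the theorem
`k`-homogeneous, `2k ≤ n` ⟹ `(k-1)`-transitive.
-/
import Mathlib
import Cfsg.Agent.Lib.Helper59.LWCoreD
import Cfsg.Agent.Lib.Helper59.LWArith
import Cfsg.Agent.Lib.Helper89.LWFrobKill
import Cfsg.Agent.Lib.Helper77.LWHall
import Cfsg.Agent.S0736

set_option autoImplicit false
set_option linter.unusedSectionVars false

namespace Cfsg.Agent.Lib.Helper59.LW

open Equiv MulAction

variable {α : Type*} [Fintype α] [DecidableEq α]

/-- inductive step: a `t`-transitive group (`t ≥ 1`) of degree `n ≥ 2t + 4` which is transitive on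
`(t+1)`-sets and on `(t+2)`-sets is `(t+1)`-transitive. -/
theorem step (G : Subgroup (Perm α)) (t : ℕ) (ht : 1 ≤ t) (hn : 2 * t + 4 ≤ Fintype.card α)
    (hT : IsMultiplyPretransitive G α t)
    (hh1 : IsPretransitive G (Set.powersetCard α (t + 1)))
    (hh2 : IsPretransitive G (Set.powersetCard α (t + 2))) :
    IsMultiplyPretransitive G α (t + 1) := by
  by_contra hnT
  obtain ⟨s, r, hodd, hr2, hm, hr1, hr3, hstab, hsharp⟩ :=
    core G t ht (by omega) hT hnT hh1 hh2
  have htn : t ≤ Fintype.card α := by omega
  obtain ⟨x0⟩ : Nonempty (Fin t ↪ α) := by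
    rw [Function.Embedding.nonempty_iff_card_le, Fintype.card_fin]
    exact htn
  rcases Nat.lt_or_ge t 4 with ht4 | ht4
  · interval_cases t
    · -- t = 1
      obtain ⟨rfl, rfl⟩ := arith1 (by simpa [Nat.factorial] using hr1) hr2
        (by simpa [Nat.factorial] using hr3) hm hodd
      omega
    · -- t = 2
      have hr1' : r ∣ 6 := by simpa [Nat.factorial] using hr1
      have hr3' : r * (Fintype.card α - 2 - 1) ∣ 24 := by simpa [Nat.factorial] using hr3
      rcases arith2 hr1' hr2 hr3' hm hodd with ⟨rfl, rfl⟩ | ⟨rfl, rfl⟩ | ⟨rfl, rfl⟩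
      · omega
      · omega
      · have hcard : Fintype.card α = 11 := by omega
        exact Cfsg.Agent.Lib.Helper89.LW.fk_apply G 1 hT (by omega) 3 5 (by norm_num) hstab
          (by norm_num) hsharp (by rw [hcard]; norm_num) (by rw [hcard]; norm_num) (by norm_num)
          (by norm_num)
    · -- t = 3
      have hr1' : r ∣ 24 := by simpa [Nat.factorial] using hr1
      have hr3' : r * (Fintype.card α - 3 - 1) ∣ 120 := by simpa [Nat.factorial] using hr3
      rcases arith3 hr1' hr2 hr3' hm hodd with ⟨rfl, rfl⟩ | ⟨rfl, rfl⟩ | ⟨rfl, rfl⟩ | ⟨rfl, rfl⟩ |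
        ⟨rfl, rfl⟩ | ⟨rfl, rfl⟩ | ⟨rfl, rfl⟩
      · omega
      · omega
      · omega
      · omega
      · omega
      · have hcard : Fintype.card α = 12 := by omega
        exact Cfsg.Agent.Lib.Helper89.LW.fk_apply G 2 hT (by omega) 3 5 (by norm_num) hstab
          (by norm_num) hsharp (by rw [hcard]; norm_num) (by rw [hcard]; norm_num) (by norm_num)
          (by norm_num)
      · have hcard : Fintype.card α = 24 := by omega
        exact Cfsg.Agent.Lib.Helper89.LW.fk_apply G 2 hT (by omega) 7 11 (by norm_num) hstab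
          (by norm_num) hsharp (by rw [hcard]; norm_num) (by rw [hcard]; norm_num) (by norm_num)
          (by norm_num)
  · -- t ≥ 4 : Hall
    have hoddx : Odd (Nat.card (stabilizer G x0)) := by rw [hstab x0]; exact hodd
    obtain ⟨hcard, -⟩ := Cfsg.Agent.Lib.Helper77.LW.hall_reduction G t ht4 hT (by omega) x0 hoddx
    omega

/-- transitivity on `1`-sets is transitivity -/
theorem isMultiplyPretransitive_one_of_homog (G : Subgroup (Perm α))
    (h : IsPretransitive G (Set.powersetCard α 1)) : IsMultiplyPretransitive G α 1 := by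
  apply Cfsg.Agent.Lib.Helper77.LW.isMultiplyPretransitive_of_swaps G 1 h
  intro E a b hE
  omega

/-- **Livingstone–Wagner, first form.** -/
theorem pred_transitive (G : Subgroup (Perm α)) :
    ∀ k : ℕ, 1 ≤ k → 2 * k ≤ Fintype.card α → IsPretransitive G (Set.powersetCard α k) →
      IsMultiplyPretransitive G α (k - 1) := by
  intro k
  induction k with
  | zero => intro h; omega
  | succ k ih =>
    intro _ hkn hh
    rcases Nat.eq_zero_or_pos k with rfl | hkpos
    · exact (is_zero_pretransitive : IsMultiplyPretransitive G α 0)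
    -- `(k+1)`-homogeneous gives `k`-homogeneous
    have hk : IsPretransitive G (Set.powersetCard α k) := by
      have := Cfsg.Agent.S0736.result G (k := k + 1) (by omega) hh (by
        intro q _ hq
        have : q ≤ k + 1 := Nat.le_of_dvd (by omega) hq
        omega)
      simpa using this
    have hT := ih hkpos (by omega) hk
    rw [Nat.add_sub_cancel]
    rcases Nat.eq_or_lt_of_le hkpos with rfl | hk2
    · exact isMultiplyPretransitive_one_of_homog G hk
    · -- t = k - 1 ≥ 1
      obtain ⟨t, rfl⟩ : ∃ t, k = t + 1 := ⟨k - 1, by omega⟩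
      rw [Nat.add_sub_cancel] at hT
      exact step G t (by omega) (by omega) hT hk hh

end Cfsg.Agent.Lib.Helper59.LW
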