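/-
Livingstone–Wagner / Wielandt: the exceptions theorem (S0745).
-/
import Mathlib
import Cfsg.Agent.Lib.Helper59.LWStep
import Cfsg.Agent.S0415
import Cfsg.Agent.S0416
import Cfsg.Agent.S0417

set_option autoImplicit false
set_option linter.unusedSectionVars false

namespace Cfsg.Agent.Lib.Helper59.LW

open Equiv MulAction

variable {α : Type*} [Fintype α] [DecidableEq α]

/-- a subgroup of order `n!/2` is the alternating group -/
theorem alt_of_card (G : Subgroup (Perm α)) (h : Nat.card G * 2 = (Fintype.card α).factorial) :
    G = alternatingGroup α := by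
  apply Equiv.Perm.eq_alternatingGroup_of_index_eq_two
  have h1 := G.index_mul_card
  rw [Nat.card_eq_fintype_card (α := Perm α), Fintype.card_perm, ← h, mul_comm] at h1
  exact Nat.eq_of_mul_eq_mul_left Nat.card_pos h1

/-- trivial tuple stabilisers: only the identity fixes `j` points -/
theorem eq_one_of_card_stabilizer (G : Subgroup (Perm α)) {j : ℕ}
    (hst : ∀ x : Fin j ↪ α, Nat.card (stabilizer G x) = 1) :
    ∀ g ∈ G, ∀ Γ : Finset α, Γ.card = j → (∀ a ∈ Γ, g a = a) → g = 1 := by
  intro g hg Γ hΓ hfix
  obtain ⟨x, hx⟩ := Function.Embedding.exists_of_card_eq_finset (α := Fin j) (s := Γ)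
    (by rw [Fintype.card_fin, hΓ])
  have hmem : (⟨g, hg⟩ : G) ∈ stabilizer G x := by
    rw [mem_stabilizer_emb]
    intro i
    apply hfix
    rw [← hx]
    exact Finset.mem_map_of_mem x (Finset.mem_univ i)
  rw [Subgroup.card_eq_one.mp (hst x), Subgroup.mem_bot] at hmem
  exact congrArg Subtype.val hmem

/-- lower multiple transitivity, for subgroups of `Perm α` -/
theorem isMultiplyPretransitive_of_le_sub (G : Subgroup (Perm α)) {i j : ℕ}
    (h : IsMultiplyPretransitive G α j) (hij : i ≤ j) (hj : j ≤ Fintype.card α) :
    IsMultiplyPretransitive G α i :=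
  @isMultiplyPretransitive_of_le G α _ _ i j h hij (by rw [Nat.card_eq_fintype_card]; exact hj) _

/-- **Exceptions theorem** in terms of `t = k - 2`. -/
theorem exceptions (G : Subgroup (Perm α)) (t : ℕ) (ht : 1 ≤ t) (hn : t + 2 ≤ Fintype.card α)
    (hT : IsMultiplyPretransitive G α t) (hnT : ¬ IsMultiplyPretransitive G α (t + 1))
    (hh1 : IsPretransitive G (Set.powersetCard α (t + 1)))
    (hh2 : IsPretransitive G (Set.powersetCard α (t + 2))) :
    (t + 2 = Fintype.card α ∧ G = alternatingGroup α) ∨
      (Fintype.card α = 5 ∧ t + 2 = 4 ∧ Nat.card G = 20) ∨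
      (Fintype.card α = 6 ∧ t + 2 = 5 ∧ Nat.card G = 120) ∨
      (Fintype.card α = 9 ∧ t + 2 = 5 ∧ (Nat.card G = 504 ∨ Nat.card G = 1512)) := by
  obtain ⟨s, r, hodd, hr2, hm, hr1, hr3, hstab, hsharp⟩ :=
    core G t ht hn hT hnT hh1 hh2
  have htn : t ≤ Fintype.card α := by omega
  obtain ⟨x0⟩ : Nonempty (Fin t ↪ α) := by
    rw [Function.Embedding.nonempty_iff_card_le, Fintype.card_fin]
    exact htn
  have hcard := card_eq_descFactorial_mul G hT x0
  rw [hstab x0] at hcard
  -- the alternating case
  have halt : r = 2 → s = 1 → (t + 2 = Fintype.card α ∧ G = alternatingGroup α) := by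
    rintro rfl rfl
    have hn2 : Fintype.card α = t + 2 := by omega
    refine ⟨hn2.symm, alt_of_card G ?_⟩
    have h1 := Nat.factorial_mul_descFactorial (n := Fintype.card α) (k := t) htn
    have h2 : Fintype.card α - t = 2 := by omega
    rw [h2] at h1
    rw [hcard, ← h1]
    simp [Nat.factorial]
    ring
  rcases Nat.lt_or_ge t 4 with ht4 | ht4
  · interval_cases t
    · -- t = 1
      obtain ⟨rfl, rfl⟩ := arith1 (by simpa [Nat.factorial] using hr1) hr2
        (by simpa [Nat.factorial] using hr3) hm hodd
      exact Or.inl (halt rfl rfl)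
    · -- t = 2
      have hr1' : r ∣ 6 := by simpa [Nat.factorial] using hr1
      have hr3' : r * (Fintype.card α - 2 - 1) ∣ 24 := by simpa [Nat.factorial] using hr3
      rcases arith2 hr1' hr2 hr3' hm hodd with ⟨rfl, rfl⟩ | ⟨rfl, rfl⟩ | ⟨rfl, rfl⟩
      · exact Or.inl (halt rfl rfl)
      · have hc : Fintype.card α = 5 := by omega
        refine Or.inr (Or.inl ⟨hc, rfl, ?_⟩)
        rw [hcard, hc]
        decide
      · exfalso
        have hc : Fintype.card α = 11 := by omega
        exact Cfsg.Agent.Lib.Helper89.LW.fk_apply G 1 hT (by omega) 3 5 (by norm_num) hstab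
          (by norm_num) hsharp (by rw [hc]; norm_num) (by rw [hc]; norm_num) (by norm_num)
          (by norm_num)
    · -- t = 3
      have hr1' : r ∣ 24 := by simpa [Nat.factorial] using hr1
      have hr3' : r * (Fintype.card α - 3 - 1) ∣ 120 := by simpa [Nat.factorial] using hr3
      rcases arith3 hr1' hr2 hr3' hm hodd with ⟨rfl, rfl⟩ | ⟨rfl, rfl⟩ | ⟨rfl, rfl⟩ | ⟨rfl, rfl⟩ |
        ⟨rfl, rfl⟩ | ⟨rfl, rfl⟩ | ⟨rfl, rfl⟩
      · exact Or.inl (halt rfl rfl)
      · have hc : Fintype.card α = 6 := by omega
        refine Or.inr (Or.inr (Or.inl ⟨hc, rfl, ?_⟩))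
        rw [hcard, hc]
        decide
      · -- n = 7, sharply 3-transitive: impossible
        exfalso
        have hc : Fintype.card α = 7 := by omega
        have hT2 : IsMultiplyPretransitive G α 2 :=
          isMultiplyPretransitive_of_le_sub G hT (by norm_num) (by omega)
        have hst2 : ∀ x : Fin 2 ↪ α, Nat.card (stabilizer G x) = 5 := by
          intro x
          have h2 := card_eq_descFactorial_mul G hT2 x
          rw [hcard, hc] at h2
          have e3 : Nat.descFactorial 7 3 = 210 := by decide
          have e2 : Nat.descFactorial 7 2 = 42 := by decide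
          rw [e3, e2] at h2
          omega
        have hsharp3 := eq_one_of_card_stabilizer G hstab
        exact Cfsg.Agent.Lib.Helper89.LW.fk_apply G 1 hT2 (by omega) 5 3 (by norm_num) hst2
          (by norm_num) hsharp3 (by rw [hc]; norm_num) (by rw [hc]; norm_num) (by norm_num)
          (by norm_num)
      · have hc : Fintype.card α = 9 := by omega
        refine Or.inr (Or.inr (Or.inr ⟨hc, rfl, Or.inr ?_⟩))
        rw [hcard, hc]
        decide
      · have hc : Fintype.card α = 9 := by omega
        refine Or.inr (Or.inr (Or.inr ⟨hc, rfl, Or.inl ?_⟩))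
        rw [hcard, hc]
        decide
      · exfalso
        have hc : Fintype.card α = 12 := by omega
        exact Cfsg.Agent.Lib.Helper89.LW.fk_apply G 2 hT (by omega) 3 5 (by norm_num) hstab
          (by norm_num) hsharp (by rw [hc]; norm_num) (by rw [hc]; norm_num) (by norm_num)
          (by norm_num)
      · exfalso
        have hc : Fintype.card α = 24 := by omega
        exact Cfsg.Agent.Lib.Helper89.LW.fk_apply G 2 hT (by omega) 7 11 (by norm_num) hstab
          (by norm_num) hsharp (by rw [hc]; norm_num) (by rw [hc]; norm_num) (by norm_num)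
          (by norm_num)
  · -- t ≥ 4
    have hspos : 0 < s := hodd.pos
    rcases Nat.lt_or_ge (Fintype.card α) (t + 4) with hsmall | hbig
    · -- m ∈ {2, 3}
      have hm23 : r * s = 2 ∨ r * s = 3 := by omega
      rcases hm23 with h2 | h3
      · have hr : r = 2 := by
          have : r ∣ 2 := ⟨s, h2.symm⟩
          have := Nat.le_of_dvd (by norm_num) this
          omega
        have hs1 : s = 1 := by subst hr; omega
        exact Or.inl (halt hr hs1)
      · exfalso
        have hr : r = 3 := by
          have hd : r ∣ 3 := ⟨s, h3.symm⟩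
          have := Nat.le_of_dvd (by norm_num) hd
          interval_cases r
          · omega
          · rfl
        have hs1 : s = 1 := by subst hr; omega
        subst hs1
        have hc : Fintype.card α = t + 3 := by omega
        have hbot : ∀ x : Fin t ↪ α, stabilizer G x = ⊥ :=
          fun x => Subgroup.card_eq_one.mp (hstab x)
        rcases Nat.lt_or_ge t 6 with ht6 | ht6
        · interval_cases t
          · haveI := hT
            have := Cfsg.Agent.S0415.result G (by omega) hbot
            omega
          · haveI := hT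
            have := Cfsg.Agent.S0416.result G (by omega) hbot
            omega
        · haveI := hT
          have := Cfsg.Agent.S0417.result G t ht6 htn hbot
          omega
    · -- Hall
      exfalso
      have hoddx : Odd (Nat.card (stabilizer G x0)) := by rw [hstab x0]; exact hodd
      obtain ⟨hc, hs1⟩ := Cfsg.Agent.Lib.Helper77.LW.hall_reduction G t ht4 hT hbig x0 hoddx
      rw [hstab x0] at hs1
      subst hs1
      have hr7 : r = 7 := by omega
      subst hr7
      have h7 : 7 ≤ t + 1 := (Nat.Prime.dvd_factorial (by norm_num)).mp hr1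
      have hbot : ∀ x : Fin t ↪ α, stabilizer G x = ⊥ :=
        fun x => Subgroup.card_eq_one.mp (hstab x)
      haveI := hT
      have := Cfsg.Agent.S0417.result G t (by omega) htn hbot
      omega

end Cfsg.Agent.Lib.Helper59.LW
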