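/-
Livingstone–Wagner, second form (S0748), part A: permutations of a finite subset induced by a
permutation group, and `k`-transitivity from `k`-homogeneity plus a full symmetric group
induced on one `k`-subset.
-/
import Mathlib
import Cfsg.Agent.Lib.Helper59.LWCoreD

set_option autoImplicit false
set_option linter.unusedSectionVars false

namespace Cfsg.Agent.Lib.Helper59.LW

open Equiv MulAction

variable {α : Type*} [Fintype α] [DecidableEq α]

/-- `σ : Perm Δ` is induced by an element of `G` -/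
def Induced (G : Subgroup (Perm α)) (Δ : Finset α) (σ : Perm ↥Δ) : Prop :=
  ∃ g ∈ G, ∀ x : ↥Δ, g (x : α) = σ x

theorem Induced.mul {G : Subgroup (Perm α)} {Δ : Finset α} {σ τ : Perm ↥Δ}
    (hσ : Induced G Δ σ) (hτ : Induced G Δ τ) : Induced G Δ (σ * τ) := by
  obtain ⟨g, hg, hgσ⟩ := hσ
  obtain ⟨h, hh, hhτ⟩ := hτ
  refine ⟨g * h, G.mul_mem hg hh, fun x => ?_⟩
  rw [Perm.mul_apply, Perm.mul_apply, hhτ x, hgσ (τ x)]

/-- a swap induced on `Δ` together with all even permutations gives all permutations -/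
theorem induced_all_of_alt_of_swap {G : Subgroup (Perm α)} {Δ : Finset α}
    (hAlt : ∀ σ : Perm ↥Δ, σ ∈ alternatingGroup ↥Δ → Induced G Δ σ)
    {z : Perm α} (hz : z ∈ G) {a b : α} (ha : a ∈ Δ) (hb : b ∈ Δ) (hab : a ≠ b)
    (hza : z a = b) (hzb : z b = a) (hzc : ∀ c ∈ Δ, c ≠ a → c ≠ b → z c = c)
    (σ : Perm ↥Δ) : Induced G Δ σ := by
  have hsw : Induced G Δ (swap ⟨a, ha⟩ ⟨b, hb⟩) := by
    refine ⟨z, hz, fun x => ?_⟩
    by_cases hxa : x = ⟨a, ha⟩
    · subst hxa
      rw [swap_apply_left]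
      exact hza
    · by_cases hxb : x = ⟨b, hb⟩
      · subst hxb
        rw [swap_apply_right]
        exact hzb
      · rw [swap_apply_of_ne_of_ne hxa hxb]
        exact hzc x x.2 (fun h => hxa (Subtype.ext h)) (fun h => hxb (Subtype.ext h))
  have hne : (⟨a, ha⟩ : ↥Δ) ≠ ⟨b, hb⟩ := fun h => hab (congrArg Subtype.val h)
  rcases Int.units_eq_one_or (Perm.sign σ) with h1 | h1
  · exact hAlt σ (by rw [Equiv.Perm.mem_alternatingGroup]; exact h1)
  · have h2 : σ * swap ⟨a, ha⟩ ⟨b, hb⟩ ∈ alternatingGroup ↥Δ := by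
      rw [Equiv.Perm.mem_alternatingGroup, Perm.sign_mul, h1, Perm.sign_swap hne]
      rfl
    have h3 := (hAlt _ h2).mul hsw
    rwa [mul_assoc, swap_mul_self, mul_one] at h3

/-- `k`-homogeneity plus the full symmetric group induced on one `k`-subset gives
`k`-transitivity -/
theorem isMultiplyPretransitive_of_homog_of_induced (G : Subgroup (Perm α)) {k : ℕ}
    (hh : Homog G k) (Δ : Finset α) (hΔ : Δ.card = k)
    (hall : ∀ σ : Perm ↥Δ, Induced G Δ σ) : IsMultiplyPretransitive G α k := by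
  -- every injective `k`-tuple can be moved onto an enumeration of `Δ`
  have key : ∀ x : Fin k ↪ α, ∃ g ∈ G, ∃ e : Fin k ≃ ↥Δ, ∀ i, g (x i) = (e i : α) := by
    intro x
    have hA : (Finset.univ.map x).card = k := by rw [Finset.card_map, Finset.card_univ,
      Fintype.card_fin]
    obtain ⟨g, hg, hgΔ⟩ := hh _ Δ hA hΔ
    have hmem : ∀ i, g (x i) ∈ Δ := by
      intro i
      rw [← hgΔ]
      exact Finset.mem_image_of_mem _ (Finset.mem_map_of_mem _ (Finset.mem_univ i))
    let f : Fin k → ↥Δ := fun i => ⟨g (x i), hmem i⟩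
    have hf : Function.Injective f := by
      intro i j hij
      have := congrArg Subtype.val hij
      exact x.injective (g.injective this)
    have hbij : Function.Bijective f := by
      rw [Fintype.bijective_iff_injective_and_card]
      refine ⟨hf, ?_⟩
      rw [Fintype.card_fin, Fintype.card_coe, hΔ]
    exact ⟨g, hg, Equiv.ofBijective f hbij, fun i => rfl⟩
  refine ⟨fun x y => ?_⟩
  obtain ⟨g1, hg1, e1, he1⟩ := key x
  obtain ⟨g2, hg2, e2, he2⟩ := key y
  obtain ⟨g, hg, hgσ⟩ := hall (e1.symm.trans e2)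
  refine ⟨⟨g2⁻¹ * g * g1, G.mul_mem (G.mul_mem (G.inv_mem hg2) hg) hg1⟩, ?_⟩
  ext i
  change (g2⁻¹ * g * g1) (x i) = y i
  rw [Perm.mul_apply, Perm.mul_apply, he1 i, hgσ (e1 i), Perm.inv_eq_iff_eq, he2 i]
  simp

end Cfsg.Agent.Lib.Helper59.LW
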