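/-
Livingstone–Wagner, second form (S0748), part B: the theorem, relative to the existence of a
`(t+1)`-subset on which all even permutations are induced (S0747 for a `t`-transitive group).
-/
import Mathlib
import Cfsg.Agent.Lib.Helper59.LWFullA
import Cfsg.Agent.Lib.Helper77.LWHall

set_option autoImplicit false
set_option linter.unusedSectionVars false

namespace Cfsg.Agent.Lib.Helper59.LW

open Equiv MulAction

variable {α : Type*} [Fintype α] [DecidableEq α]

/-- an involution fixing `t` points gives, after conjugation, a swap on any prescribed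
`(t+1)`-subset of a `(t+1)`-homogeneous group -/
theorem exists_swap_of_involution (G : Subgroup (Perm α)) {t : ℕ} (ht : 1 ≤ t)
    (hh : Homog G (t + 1)) (Δ : Finset α) (hΔ : Δ.card = t + 1) (x : Fin t ↪ α)
    {z : Perm α} (hz : z ∈ G) (hz1 : z ≠ 1) (hzz : z * z = 1) (hzx : ∀ i, z (x i) = x i) :
    ∃ z' ∈ G, ∃ a b : α, a ∈ Δ ∧ b ∈ Δ ∧ a ≠ b ∧ z' a = b ∧ z' b = a ∧
      ∀ c ∈ Δ, c ≠ a → c ≠ b → z' c = c := by
  obtain ⟨a, ha⟩ : ∃ a, z a ≠ a := by
    by_contra hcon
    push Not at hcon
    exact hz1 (Perm.ext hcon)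
  have hzb : z (z a) = a := by
    have := congrArg (fun f : Perm α => f a) hzz
    simpa using this
  set R : Finset α := Finset.univ.map x with hR
  have hRcard : R.card = t := by
    rw [hR, Finset.card_map, Finset.card_univ, Fintype.card_fin]
  have hRfix : ∀ c ∈ R, z c = c := by
    intro c hc
    rw [hR, Finset.mem_map] at hc
    obtain ⟨i, -, rfl⟩ := hc
    exact hzx i
  have haR : a ∉ R := fun h => ha (hRfix a h)
  have hbR : z a ∉ R := by
    intro h
    have h1 := hRfix _ h
    rw [hzb] at h1
    exact ha h1.symm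
  obtain ⟨E, hER, hEcard⟩ := Finset.exists_subset_card_eq (s := R) (n := t - 1)
    (by rw [hRcard]; omega)
  have haE : a ∉ E := fun h => haR (hER h)
  have hbE : z a ∉ E := fun h => hbR (hER h)
  have hab : a ≠ z a := fun h => ha h.symm
  have hcard' : (insert a (insert (z a) E)).card = t + 1 := by
    rw [Finset.card_insert_of_notMem, Finset.card_insert_of_notMem hbE, hEcard]
    · omega
    · rw [Finset.mem_insert]
      rintro (h | h)
      · exact hab h
      · exact haE h
  obtain ⟨h, hhG, hhΔ⟩ := hh _ Δ hcard' hΔ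
  have hmemΔ : ∀ c, c ∈ insert a (insert (z a) E) → h c ∈ Δ := by
    intro c hc
    rw [← hhΔ]
    exact Finset.mem_image_of_mem _ hc
  refine ⟨h * z * h⁻¹, G.mul_mem (G.mul_mem hhG hz) (G.inv_mem hhG), h a, h (z a),
    hmemΔ a (Finset.mem_insert_self _ _),
    hmemΔ (z a) (Finset.mem_insert_of_mem (Finset.mem_insert_self _ _)),
    fun hc => hab (h.injective hc), ?_, ?_, ?_⟩
  · simp
  · simp [hzb]
  · intro c hc hca hcb
    rw [← hhΔ, Finset.mem_image] at hc
    obtain ⟨c0, hc0, rfl⟩ := hc
    rw [Finset.mem_insert, Finset.mem_insert] at hc0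
    rcases hc0 with rfl | rfl | hc0
    · exact absurd rfl hca
    · exact absurd rfl hcb
    · have := hRfix c0 (hER hc0)
      simp [this]

/-- **Livingstone–Wagner, second form**, relative to the conclusion of S0747 -/
theorem full (G : Subgroup (Perm α)) (t : ℕ) (ht : 4 ≤ t) (hn : 2 * (t + 1) ≤ Fintype.card α)
    (hh : IsPretransitive G (Set.powersetCard α (t + 1)))
    (hT : IsMultiplyPretransitive G α t)
    (h747 : ∃ Δ : Finset α, Δ.card = t + 1 ∧
      ∀ σ : Perm ↥Δ, σ ∈ alternatingGroup ↥Δ → ∃ g ∈ G, ∀ x : ↥Δ, g (x : α) = σ x) :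
    IsMultiplyPretransitive G α (t + 1) := by
  by_contra hnot
  obtain ⟨Δ, hΔ, hAlt⟩ := h747
  have hhom : Homog G (t + 1) := homog_of_isPretransitive G (t + 1) hh
  obtain ⟨x⟩ : Nonempty (Fin t ↪ α) := by
    rw [Function.Embedding.nonempty_iff_card_le, Fintype.card_fin]
    omega
  -- the stabiliser of `t` points has odd order
  have hodd : Odd (Nat.card (stabilizer G x)) := by
    by_contra hev
    rw [Nat.not_odd_iff_even] at hev
    have : Fact (Nat.Prime 2) := ⟨Nat.prime_two⟩
    obtain ⟨w, hw⟩ := exists_prime_orderOf_dvd_card' (G := stabilizer G x) 2 hev.two_dvd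
    have hw1 : w ≠ 1 := by
      intro h
      rw [h, orderOf_one] at hw
      omega
    have hw2 : w * w = 1 := by
      have := pow_orderOf_eq_one w
      rwa [hw, pow_two] at this
    have hz1 : ((w : G) : Perm α) ≠ 1 := by
      intro h
      apply hw1
      apply Subtype.ext
      apply Subtype.ext
      exact h
    have hzz : ((w : G) : Perm α) * ((w : G) : Perm α) = 1 := by
      have := congrArg (fun u : stabilizer G x => ((u : G) : Perm α)) hw2
      simpa using this
    have hzx : ∀ i, ((w : G) : Perm α) (x i) = x i := (mem_stabilizer_emb x (w : G)).1 w.2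
    obtain ⟨z', hz'G, a, b, ha, hb, hab, hza, hzb, hzc⟩ :=
      exists_swap_of_involution G (by omega) hhom Δ hΔ x (w : G).2 hz1 hzz hzx
    exact hnot (isMultiplyPretransitive_of_homog_of_induced G hhom Δ hΔ
      (induced_all_of_alt_of_swap hAlt hz'G ha hb hab hza hzb hzc))
  obtain ⟨hcard, hstab⟩ :=
    Cfsg.Agent.Lib.Helper77.LW.hall_reduction G t ht hT (by omega) x hodd
  have hdvd := choose_dvd_card G (t + 1) (by omega) hh
  have hG := card_eq_descFactorial_mul G hT x
  rw [hstab, mul_one] at hG
  rw [hG, hcard] at hdvd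
  have ht5 : t ≤ 5 := by omega
  interval_cases t
  · revert hdvd
    decide
  · revert hdvd
    decide

end Cfsg.Agent.Lib.Helper59.LW
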