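import Mathlib
import Cfsg.Agent.Lib.Helper73.MaxClassIndex

/-!
# helper59: S5238 MODULE [MC-A] (helper87, board #2697)

Structure of a `p`-group of maximal class containing an element `x` of order `p` with
`|C_G(x)| = p ^ 2`: the orders of the terms of the lower central series, `x ∉ G'`, the conjugacy
class of `x` is `x G'`, and the commutator with `x` is injective on the lower central factors.
-/

set_option autoImplicit false

namespace Cfsg.Agent.Lib.Helper59.MaxClassStructure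

open scoped commutatorElement

/-- Counting lemma: if `g ↦ ⁅g, x⁆` maps the set `D` into the set `T`, then
`|D| ≤ |T| * |C_G(x)|`. -/
theorem ncard_le_of_commutator_mem {G : Type*} [Group G] [Finite G] (x : G) (D T : Set G)
    (h : ∀ g ∈ D, g * x * g⁻¹ * x⁻¹ ∈ T) :
    D.ncard ≤ T.ncard * Nat.card (Subgroup.centralizer ({x} : Set G)) := by
  classical
  let θ : G → G := fun g => g * x * g⁻¹ * x⁻¹
  have hr : ∀ g : ↥D, ∃ r : G, r ∈ D ∧ θ r = θ g := fun g => ⟨g, g.2, rfl⟩
  let r : G → G := fun v => if hv : ∃ g ∈ D, θ g = v then hv.choose else 1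
  have hrspec : ∀ g ∈ D, θ (r (θ g)) = θ g := by
    intro g hg
    have hv : ∃ g' ∈ D, θ g' = θ g := ⟨g, hg, rfl⟩
    show θ (if hv : ∃ g' ∈ D, θ g' = θ g then hv.choose else 1) = θ g
    rw [dif_pos hv]
    exact hv.choose_spec.2
  have hmemC : ∀ g ∈ D, (r (θ g))⁻¹ * g ∈ Subgroup.centralizer ({x} : Set G) := by
    intro g hg
    rw [Subgroup.mem_centralizer_iff]
    intro y hy
    rw [Set.mem_singleton_iff] at hy
    subst hy
    have h1 : r (θ g) * y * (r (θ g))⁻¹ * y⁻¹ = g * y * g⁻¹ * y⁻¹ := hrspec g hg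
    have h2 : r (θ g) * y * (r (θ g))⁻¹ = g * y * g⁻¹ := mul_right_cancel h1
    have h3 : y * ((r (θ g))⁻¹ * g) = (r (θ g))⁻¹ * (r (θ g) * y * (r (θ g))⁻¹) * g := by group
    rw [h3, h2]
    group
  let f : ↥D → ↥T × ↥(Subgroup.centralizer ({x} : Set G)) := fun g =>
    (⟨θ g, h g g.2⟩, ⟨(r (θ g))⁻¹ * g, hmemC g g.2⟩)
  have hf : Function.Injective f := by
    intro g g' hgg'
    have h1 : θ (g : G) = θ (g' : G) := congrArg (fun z => ((z.1 : ↥T) : G)) hgg'
    have h2 : (r (θ (g : G)))⁻¹ * (g : G) = (r (θ (g' : G)))⁻¹ * (g' : G) :=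
      congrArg (fun z => ((z.2 : ↥(Subgroup.centralizer ({x} : Set G))) : G)) hgg'
    rw [h1] at h2
    exact Subtype.ext (mul_left_cancel h2)
  have hcard := Nat.card_le_card_of_injective f hf
  rw [Nat.card_prod, Nat.card_coe_set_eq, Nat.card_coe_set_eq] at hcard
  exact hcard

/-- MODULE [MC-A] of board #2697 (S5238), exact statement. -/
theorem maxclass_structure {G : Type*} [Group G] [Finite G] {p : ℕ} [Fact p.Prime] (n : ℕ)
    (hn : 3 ≤ n) (hG : Nat.card G = p ^ n) (hcl : Group.nilpotencyClass G = n - 1) (x : G)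
    (hx : x ^ p = 1) (hC : Nat.card (Subgroup.centralizer ({x} : Set G)) = p ^ 2) :
    (∀ k, 1 ≤ k → k ≤ n - 1 →
      Nat.card ((⊤ : Subgroup G).lowerCentralSeries k) = p ^ (n - 1 - k)) ∧
    x ∉ (⊤ : Subgroup G).lowerCentralSeries 1 ∧
    (∀ c ∈ (⊤ : Subgroup G).lowerCentralSeries 1, ∃ g : G, g * x * g⁻¹ = x * c) ∧
    (∀ k, 1 ≤ k → k + 3 ≤ n → ∀ u ∈ (⊤ : Subgroup G).lowerCentralSeries k,
      ⁅x, u⁆ ∈ (⊤ : Subgroup G).lowerCentralSeries (k + 2) →
      u ∈ (⊤ : Subgroup G).lowerCentralSeries (k + 1)) := by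
  classical
  have hp : p.Prime := Fact.out
  have hp1 : 1 < p := hp.one_lt
  have hGp : IsPGroup p G := IsPGroup.of_card hG
  have hnil : Group.IsNilpotent G := hGp.isNilpotent
  have hnorm : ∀ k, ((⊤ : Subgroup G).lowerCentralSeries k).Normal := fun k => inferInstance
  set Γ := (⊤ : Subgroup G).lowerCentralSeries with hΓ
  have hanti : Antitone Γ := Subgroup.lowerCentralSeries_antitone (S := (⊤ : Subgroup G))
  have hsucc : ∀ k, Γ (k + 1) = ⁅Γ k, (⊤ : Subgroup G)⁆ := fun k => rfl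
  -- (1) orders
  have hexp : ∀ k, ∃ e, Nat.card ↥(Γ k) = p ^ e := fun k =>
    (hGp.to_subgroup (Γ k)).exists_card_eq
  choose e he using hexp
  have he1 : e 1 + 2 = n := by
    have hidx := Cfsg.Agent.Lib.Helper73.index_commutator_of_maximal_class (p := p) n G hG
      (by omega) hcl
    have h1 : Γ 1 = commutator G := Subgroup.top_lowerCentralSeries_one
    have h2 := Subgroup.card_mul_index (Γ 1)
    rw [h1] at h2
    rw [← h1, he 1] at h2
    rw [h1, hidx, hG, ← pow_add] at h2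
    exact Nat.pow_right_injective hp1 h2
  have hbot : Γ (n - 1) = ⊥ := by
    rw [hΓ, Subgroup.lowerCentralSeries_eq_bot_iff_nilpotencyClass_le, hcl]
  have hne : ∀ k, k < n - 1 → Γ k ≠ ⊥ := by
    intro k hk h
    rw [hΓ, Subgroup.lowerCentralSeries_eq_bot_iff_nilpotencyClass_le, hcl] at h
    omega
  have heend : e (n - 1) = 0 := by
    have h1 := he (n - 1)
    rw [hbot, Subgroup.card_bot] at h1
    by_contra h0
    have : 1 < p ^ e (n - 1) := Nat.one_lt_pow h0 hp1
    omega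
  have hstab : ∀ k, Γ (k + 1) = Γ k → ∀ m, Γ (k + m) = Γ k := by
    intro k hk m
    induction m with
    | zero => rfl
    | succ m ih =>
      have : Γ (k + (m + 1)) = ⁅Γ (k + m), (⊤ : Subgroup G)⁆ := rfl
      rw [this, ih, ← hsucc k, hk]
  have hstrict : ∀ k, k < n - 1 → e (k + 1) < e k := by
    intro k hk
    by_contra hcon
    push Not at hcon
    have hle : Γ (k + 1) ≤ Γ k := hanti (Nat.le_succ k)
    have hcard : Nat.card ↥(Γ k) ≤ Nat.card ↥(Γ (k + 1)) := by
      rw [he k, he (k + 1)]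
      exact Nat.pow_le_pow_right hp.pos hcon
    have heq : Γ (k + 1) = Γ k := Subgroup.eq_of_le_of_card_ge hle hcard
    have h1 := hstab k heq (n - 1 - k)
    have h2 : k + (n - 1 - k) = n - 1 := by omega
    rw [h2, hbot] at h1
    exact hne k hk h1.symm
  have hupper : ∀ k, 1 ≤ k → k ≤ n - 1 → e k + k ≤ n - 1 := by
    intro k hk
    induction k, hk using Nat.le_induction with
    | base => intro _; omega
    | succ k hk ih =>
      intro hk'
      have h1 := ih (by omega)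
      have h2 := hstrict k (by omega)
      omega
  have hlower : ∀ d, d ≤ n - 2 → n - 1 ≤ e (n - 1 - d) + (n - 1 - d) := by
    intro d
    induction d with
    | zero => intro _; simp
    | succ d ih =>
      intro hd
      have h1 := ih (by omega)
      have h2 := hstrict (n - 1 - (d + 1)) (by omega)
      have h3 : n - 1 - (d + 1) + 1 = n - 1 - d := by omega
      rw [h3] at h2
      omega
  have hcard : ∀ k, 1 ≤ k → k ≤ n - 1 → Nat.card ↥(Γ k) = p ^ (n - 1 - k) := by
    intro k hk hk'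
    have h1 := hupper k hk hk'
    have h2 := hlower (n - 1 - k) (by omega)
    have h3 : n - 1 - (n - 1 - k) = k := by omega
    rw [h3] at h2
    rw [he k]
    congr 1
    omega
  -- the commutator map `g ↦ ⁅g, x⁆`
  have hθmem : ∀ g : G, g * x * g⁻¹ * x⁻¹ ∈ Γ 1 := by
    intro g
    have h1 : Γ 1 = commutator G := Subgroup.top_lowerCentralSeries_one
    rw [h1, commutator_def]
    exact Subgroup.commutator_mem_commutator (Subgroup.mem_top g) (Subgroup.mem_top x)
  have hcoe : ∀ H : Subgroup G, (H : Set G).ncard = Nat.card ↥H := fun H =>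
    (Nat.card_coe_set_eq (H : Set G)).symm
  -- (2) `x ∉ Γ 1`
  have hx1 : x ∉ Γ 1 := by
    intro hxΓ
    have hmem : ∀ g ∈ (Set.univ : Set G), g * x * g⁻¹ * x⁻¹ ∈ ((Γ 2 : Subgroup G) : Set G) := by
      intro g _
      have h1 : Γ 2 = ⁅Γ 1, (⊤ : Subgroup G)⁆ := rfl
      rw [SetLike.mem_coe, h1, Subgroup.commutator_comm]
      exact Subgroup.commutator_mem_commutator (Subgroup.mem_top g) hxΓ
    have h1 := ncard_le_of_commutator_mem x Set.univ _ hmem
    rw [Set.ncard_univ, hG, hC, hcoe, hcard 2 (by omega) (by omega), ← pow_add] at h1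
    have h2 := (Nat.pow_le_pow_iff_right hp1).1 h1
    omega
  -- (3) the class of `x`
  have hrange : Set.range (fun g : G => g * x * g⁻¹ * x⁻¹) = ((Γ 1 : Subgroup G) : Set G) := by
    apply Set.eq_of_subset_of_ncard_le
    · rintro _ ⟨g, rfl⟩
      exact hθmem g
    · have hmem : ∀ g ∈ (Set.univ : Set G),
          g * x * g⁻¹ * x⁻¹ ∈ Set.range (fun g : G => g * x * g⁻¹ * x⁻¹) :=
        fun g _ => ⟨g, rfl⟩
      have h1 := ncard_le_of_commutator_mem x Set.univ _ hmem
      rw [Set.ncard_univ, hG, hC] at h1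
      rw [hcoe, hcard 1 (by omega) (by omega)]
      have h2 : p ^ n = p ^ (n - 1 - 1) * p ^ 2 := by
        rw [← pow_add]; congr 1; omega
      rw [h2] at h1
      exact Nat.le_of_mul_le_mul_right h1 (pow_pos hp.pos 2)
    · exact Set.toFinite _
  have hclass : ∀ c ∈ Γ 1, ∃ g : G, g * x * g⁻¹ = x * c := by
    intro c hc
    have hc' : x * c * x⁻¹ ∈ ((Γ 1 : Subgroup G) : Set G) := (hnorm 1).conj_mem c hc x
    rw [← hrange] at hc'
    obtain ⟨g, hg⟩ := hc'
    refine ⟨g, ?_⟩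
    have hg' : g * x * g⁻¹ * x⁻¹ = x * c * x⁻¹ := hg
    exact mul_right_cancel hg'
  refine ⟨hcard, hx1, hclass, ?_⟩
  -- (4)
  intro k hk hk3 u hu hxu
  have hxne : x ≠ 1 := fun h => hx1 (h ▸ Subgroup.one_mem _)
  -- the set `D`
  let D : Set G := {g | g * x * g⁻¹ * x⁻¹ ∈ Γ (k + 2)}
  have hDle : D.ncard ≤ p ^ (n - k - 1) := by
    have h1 := ncard_le_of_commutator_mem x D ((Γ (k + 2) : Subgroup G) : Set G) (fun g hg => hg)
    rw [hcoe, hcard (k + 2) (by omega) (by omega), hC, ← pow_add] at h1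
    have h2 : n - 1 - (k + 2) + 2 = n - k - 1 := by omega
    rwa [h2] at h1
  -- the subgroup `L = ⟨x⟩ Γ (k+1)`
  have hnk1 : (Γ (k + 1)).Normal := hnorm (k + 1)
  set L : Subgroup G := Subgroup.zpowers x ⊔ Γ (k + 1) with hL
  have hLD : ((L : Subgroup G) : Set G) ⊆ D := by
    intro g hg
    rw [hL, Subgroup.mul_normal (Subgroup.zpowers x) (Γ (k + 1))] at hg
    obtain ⟨a, ha, c, hc, rfl⟩ := hg
    have hax : a * x = x * a := by
      obtain ⟨i, rfl⟩ := Subgroup.mem_zpowers_iff.1 ha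
      exact ((Commute.refl x).zpow_left i).eq
    have hcx : c * x * c⁻¹ * x⁻¹ ∈ Γ (k + 2) := by
      have h1 : Γ (k + 2) = ⁅Γ (k + 1), (⊤ : Subgroup G)⁆ := rfl
      rw [h1]
      exact Subgroup.commutator_mem_commutator hc (Subgroup.mem_top x)
    have e1 : a * c * x * (a * c)⁻¹ * x⁻¹ = a * (c * x * c⁻¹ * x⁻¹) * a⁻¹ := by
      have hax' : x * a⁻¹ * x⁻¹ = a⁻¹ := by
        have : x * a⁻¹ = a⁻¹ * x := by
          have := congrArg (fun z => a⁻¹ * z * a⁻¹) hax
          simpa [mul_assoc] using this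
        rw [this, mul_inv_cancel_right]
      calc a * c * x * (a * c)⁻¹ * x⁻¹
          = a * (c * x * c⁻¹ * x⁻¹) * (x * a⁻¹ * x⁻¹) := by group
        _ = a * (c * x * c⁻¹ * x⁻¹) * a⁻¹ := by rw [hax']
    show a * c * x * (a * c)⁻¹ * x⁻¹ ∈ Γ (k + 2)
    rw [e1]
    exact (hnorm (k + 2)).conj_mem _ hcx a
  have hLcard : p ^ (n - k - 1) ≤ Nat.card ↥L := by
    have hle : Γ (k + 1) ≤ L := le_sup_right
    have hxL : x ∈ L := Subgroup.mem_sup_left (Subgroup.mem_zpowers x)
    have hxk : x ∉ Γ (k + 1) := fun h => hx1 (hanti (by omega : 1 ≤ k + 1) h)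
    obtain ⟨b, hb⟩ := (hGp.to_subgroup L).exists_card_eq
    have hlt : Nat.card ↥(Γ (k + 1)) < Nat.card ↥L := by
      by_contra hcon
      push Not at hcon
      have := Subgroup.eq_of_le_of_card_ge hle hcon
      exact hxk (this ▸ hxL)
    rw [hcard (k + 1) (by omega) (by omega), hb] at hlt
    have h1 := (Nat.pow_lt_pow_iff_right hp1).1 hlt
    rw [hb]
    exact Nat.pow_le_pow_right hp.pos (by omega)
  have hDL : D = ((L : Subgroup G) : Set G) := by
    symm
    apply Set.eq_of_subset_of_ncard_le hLD _ (Set.toFinite _)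
    rw [hcoe]
    exact hDle.trans hLcard
  -- conclude
  have huD : u ∈ D := by
    show u * x * u⁻¹ * x⁻¹ ∈ Γ (k + 2)
    have h1 : u * x * u⁻¹ * x⁻¹ = ⁅x, u⁆⁻¹ := by
      rw [commutatorElement_inv, commutatorElement_def]
    rw [h1]
    exact Subgroup.inv_mem _ hxu
  rw [hDL, hL, Subgroup.mul_normal (Subgroup.zpowers x) (Γ (k + 1))] at huD
  obtain ⟨a, ha, c, hc, hac⟩ := huD
  have hc1 : c ∈ Γ 1 := hanti (by omega : 1 ≤ k + 1) hc
  have hu1 : u ∈ Γ 1 := hanti hk hu
  have ha1 : a ∈ Γ 1 := by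
    have : a = u * c⁻¹ := by rw [← hac]; group
    rw [this]
    exact Subgroup.mul_mem _ hu1 (Subgroup.inv_mem _ hc1)
  -- `a = 1`, since `⟨x⟩` has prime order and `x ∉ Γ 1`
  have hord : orderOf x = p := orderOf_eq_prime hx hxne
  have hcz : Nat.card ↥(Subgroup.zpowers x) = p := by rw [Nat.card_zpowers, hord]
  have ha' : a = 1 := by
    have hfact : Fact (Nat.card ↥(Subgroup.zpowers x)).Prime := ⟨by rw [hcz]; exact hp⟩
    rcases Subgroup.eq_bot_or_eq_top_of_prime_card ((Γ 1).subgroupOf (Subgroup.zpowers x))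
      with h | h
    · have hm : (⟨a, ha⟩ : ↥(Subgroup.zpowers x)) ∈ (Γ 1).subgroupOf (Subgroup.zpowers x) :=
        Subgroup.mem_subgroupOf.2 ha1
      rw [h, Subgroup.mem_bot] at hm
      exact congrArg Subtype.val hm
    · exfalso
      have hm : (⟨x, Subgroup.mem_zpowers x⟩ : ↥(Subgroup.zpowers x)) ∈
          (Γ 1).subgroupOf (Subgroup.zpowers x) := by rw [h]; exact Subgroup.mem_top _
      exact hx1 (Subgroup.mem_subgroupOf.1 hm)
  have hac' : a * c = u := hac
  rw [ha', one_mul] at hac'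
  rw [← hac']
  exact hc

end Cfsg.Agent.Lib.Helper59.MaxClassStructure
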