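import Mathlib
import Cfsg.Prelude.Def_GeometricClasses

/-!
# Project ASCHOE (helper55), row kit of helper59

Small general facts used in the assembly of the rows (S5847 and its relatives): membership in subspace
stabilisers, the pair decomposition `![W, W']`, the dimension count `t * m = n` of an `m`-decomposition,
parity of `card F` versus `2 = 0`, `card F ≠ 6`, the prime subfield is proper when `card F` is not prime.
-/

set_option autoImplicit false
set_option linter.unusedSectionVars false

namespace Cfsg.Agent.Lib.Helper59.OeRowKit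

open Cfsg Cfsg.Geo
open scoped MatrixGroups Matrix

variable {n : ℕ} {F : Type*} [Field F]

theorem mem_subspaceStabilizer_iff_forall (W : Submodule F (Fin n → F)) (g : GL (Fin n) F) :
    g ∈ subspaceStabilizer W ↔ ∀ v, v ∈ W ↔ (g : Matrix (Fin n) (Fin n) F) *ᵥ v ∈ W :=
  Iff.rfl

/-- an element of the stabiliser maps `W` onto `W` -/
theorem map_eq_of_mem_subspaceStabilizer {W : Submodule F (Fin n → F)} {g : GL (Fin n) F}
    (hg : g ∈ subspaceStabilizer W) :
    W.map (Matrix.toLin' (g : Matrix (Fin n) (Fin n) F)) = W := by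
  have hg' := (mem_subspaceStabilizer_iff_forall W g).1 hg
  ext x
  constructor
  · rintro ⟨v, hv, rfl⟩
    rw [Matrix.toLin'_apply]
    exact (hg' v).1 hv
  · intro hx
    refine ⟨((g⁻¹ : GL (Fin n) F) : Matrix (Fin n) (Fin n) F) *ᵥ x, ?_, ?_⟩
    · apply (hg' _).2
      rw [Matrix.mulVec_mulVec, ← Units.val_mul, mul_inv_cancel, Units.val_one, Matrix.one_mulVec]
      exact hx
    · rw [Matrix.toLin'_apply, Matrix.mulVec_mulVec, ← Units.val_mul, mul_inv_cancel, Units.val_one,
        Matrix.one_mulVec]

/-- a group stabilising two subspaces stabilises the pair -/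
theorem le_decompositionStabilizer_pair {H : Subgroup (GL (Fin n) F)} {W W' : Submodule F (Fin n → F)}
    (h1 : H ≤ subspaceStabilizer W) (h2 : H ≤ subspaceStabilizer W') :
    H ≤ decompositionStabilizer ![W, W'] := by
  intro g hg
  refine ⟨1, fun i => ?_⟩
  fin_cases i
  · exact map_eq_of_mem_subspaceStabilizer (h1 hg)
  · exact map_eq_of_mem_subspaceStabilizer (h2 hg)

/-- the dimension count of an `m`-decomposition -/
theorem mul_eq_of_isMDecomposition {t m : ℕ} {D : Fin t → Submodule F (Fin n → F)}
    (hD : IsMDecomposition m D) : t * m = n := by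
  classical
  have hint : DirectSum.IsInternal D :=
    DirectSum.isInternal_submodule_of_iSupIndep_of_iSup_eq_top hD.indep hD.iSup_eq_top
  have e := LinearEquiv.ofBijective (DirectSum.coeLinearMap D) hint
  have h1 := e.finrank_eq
  rw [Module.finrank_directSum, Module.finrank_fin_fun] at h1
  rw [← h1, Finset.sum_congr rfl (fun i _ => hD.finrank_eq i)]
  simp

theorem areIsometricFor_refl (Q : (Fin n → F) → F) (W : Submodule F (Fin n → F)) :
    AreIsometricFor Q W W :=
  ⟨LinearEquiv.refl F W, fun _ => rfl⟩

theorem areIsometricFor_symm {Q : (Fin n → F) → F} {W W' : Submodule F (Fin n → F)}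
    (h : AreIsometricFor Q W W') : AreIsometricFor Q W' W := by
  obtain ⟨e, he⟩ := h
  refine ⟨e.symm, fun w => ?_⟩
  have := he (e.symm w)
  rw [LinearEquiv.apply_symm_apply] at this
  exact this.symm

section finite

variable [Fintype F]

theorem two_eq_zero_iff_not_odd_card : (2 : F) = 0 ↔ ¬ Odd (Fintype.card F) := by
  constructor
  · intro h2 hodd
    have hdvd : ringChar F ∣ 2 := ringChar.dvd (by exact_mod_cast h2)
    have hp : (ringChar F).Prime := CharP.char_is_prime F (ringChar F)
    have h2' : ringChar F = 2 := (Nat.prime_dvd_prime_iff_eq hp Nat.prime_two).1 hdvd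
    have := FiniteField.even_card_iff_char_two.1 h2'
    rcases hodd with ⟨k, hk⟩
    omega
  · intro hno
    by_contra h2
    have hne : ringChar F ≠ 2 := by
      intro h
      apply h2
      have := ringChar.Nat.cast_ringChar (R := F)
      rw [h] at this
      exact_mod_cast this
    have := FiniteField.odd_card_of_char_ne_two hne
    exact hno (Nat.odd_iff.2 this)

theorem odd_card_of_two_ne_zero (h2 : (2 : F) ≠ 0) : Odd (Fintype.card F) := by
  by_contra h
  exact h2 (two_eq_zero_iff_not_odd_card.2 h)

theorem two_ne_zero_of_odd_card (h : Odd (Fintype.card F)) : (2 : F) ≠ 0 := fun h2 =>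
  two_eq_zero_iff_not_odd_card.1 h2 h

theorem card_mod_four_of_odd (h : Odd (Fintype.card F)) :
    Fintype.card F % 4 = 1 ∨ Fintype.card F % 4 = 3 := by
  rcases h with ⟨k, hk⟩
  omega

/-- the order of a finite field is not `6` -/
theorem card_ne_six : Fintype.card F ≠ 6 := by
  intro h6
  have hpp : IsPrimePow (Fintype.card F) := Fintype.isPrimePow_card_of_field
  rw [h6] at hpp
  obtain ⟨p, k, hp, hk, hpk⟩ := (isPrimePow_nat_iff 6).1 hpp
  have hdvd : p ∣ 6 := hpk ▸ dvd_pow_self p (by omega)
  have hle : p ≤ 6 := Nat.le_of_dvd (by norm_num) hdvd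
  have h2 := hp.two_le
  interval_cases p
  · -- p = 2
    rcases Nat.lt_or_ge k 3 with hk3 | hk3
    · interval_cases k <;> omega
    · have : 2 ^ 3 ≤ 2 ^ k := Nat.pow_le_pow_right (by norm_num) hk3
      omega
  · rcases Nat.lt_or_ge k 2 with hk2 | hk2
    · interval_cases k; omega
    · have : 3 ^ 2 ≤ 3 ^ k := Nat.pow_le_pow_right (by norm_num) hk2
      omega
  · exact absurd hp (by norm_num)
  · exact absurd hdvd (by norm_num)
  · exact absurd hp (by norm_num)

/-- the prime subfield is proper when `card F` is not prime -/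
theorem bot_ne_top_of_card_not_prime (hnp : ¬ (Fintype.card F).Prime) : (⊥ : Subfield F) ≠ ⊤ := by
  intro h
  obtain ⟨p, hp⟩ := CharP.exists F
  have : Fact p.Prime := ⟨CharP.char_is_prime F p⟩
  have h1 := Subfield.card_bot F p
  rw [h] at h1
  have h2 : Nat.card (⊤ : Subfield F) = Nat.card F :=
    Nat.card_congr (Subfield.topEquiv (K := F)).toEquiv
  rw [h2, Nat.card_eq_fintype_card] at h1
  exact hnp (h1 ▸ (Fact.out : p.Prime))

/-- a subfield of prime index is proper -/
theorem subfield_ne_top_of_card_pow {F₀ : Subfield F} {r : ℕ} (hr : 2 ≤ r)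
    (hcard : Fintype.card F = Nat.card F₀ ^ r) : F₀ ≠ ⊤ := by
  intro h
  have h2 : Nat.card (⊤ : Subfield F) = Nat.card F :=
    Nat.card_congr (Subfield.topEquiv (K := F)).toEquiv
  rw [h, h2, Nat.card_eq_fintype_card] at hcard
  have h1 : 1 < Fintype.card F := Fintype.one_lt_card
  have : Fintype.card F ^ 1 < Fintype.card F ^ r := Nat.pow_lt_pow_right h1 (by omega)
  rw [pow_one] at this
  omega

end finite

end Cfsg.Agent.Lib.Helper59.OeRowKit
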