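import Mathlib
import Cfsg.Prelude.Def_GeometricClasses
import Cfsg.Agent.Lib.Helper55.Oe.Defs
import Cfsg.Agent.Lib.Helper55.Oe.Between
import Cfsg.Agent.Lib.Helper19.OeGEven
import Cfsg.Agent.Lib.Helper19.OeGPerp
import Cfsg.Agent.Lib.Helper19.OePIrr
import Cfsg.Agent.Lib.Helper24.OePDecnd
import Cfsg.Agent.Lib.Helper45.OeEFrame
import Cfsg.Agent.Lib.Helper45.OeESwap
import Cfsg.Agent.Lib.Helper45.OeETensor2
import Cfsg.Agent.Lib.Helper1.OeTFieldU
import Cfsg.Agent.Lib.Helper86.OeTField2Even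
import Cfsg.Agent.Lib.Helper42.OeTFrame
import Cfsg.Agent.Lib.Helper52.OePSubfield
import Cfsg.Agent.Lib.Helper43.OePField
import Cfsg.Agent.Lib.Helper42.OeTOdd
import Cfsg.Agent.Lib.Helper47.OeTHalves
import Cfsg.Agent.Lib.Helper94.OrthFrameBridge2
import Cfsg.Agent.Lib.Helper24.BhrC3Div
import Cfsg.Agent.Lib.Helper84.AschC5
import Cfsg.Agent.Lib.Helper36.AltEven
import Cfsg.Agent.Lib.Helper59.OeRowKit
import Cfsg.Agent.Lib.Helper55.Oe.Core
import Cfsg.Agent.Lib.Helper7.OeEFieldHalf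

/-!
# Project ASCHOE (helper55), module [ROW-10P] (helper59): the row S5847 (`Ω₁₀⁺(q)`)

The assembly of the row from the core theorem `core_oe` and the leaves of the project, case by case.
-/

set_option autoImplicit false
set_option linter.unusedSectionVars false
set_option linter.unusedVariables false

namespace Cfsg.Agent.Lib.Helper59.Oe10P

open Cfsg Cfsg.Geo Cfsg.Agent.Lib.Helper55.Oe Cfsg.Agent.Lib.Helper59.OeRowKit
open scoped MatrixGroups Matrix Kronecker

variable {F : Type*} [Field F] [Fintype F]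

/-- the conclusion of S5847 -/
def Goal10P (Q : (Fin 10 → F) → F) (H : Subgroup (Matrix.GeneralLinearGroup (Fin 10) F)) : Prop :=
    (∃ W : Submodule F (Fin 10 → F), W ≠ ⊥ ∧ Cfsg.Geo.IsTotallySingularQuad Q W ∧ Module.finrank F W ≠ 4 ∧ H = Cfsg.Geo.subspaceStabilizer W ⊓ Cfsg.Geo.omegaGL Q) ∨
    (Odd (Fintype.card F) ∧ ∃ W : Submodule F (Fin 10 → F), W ≠ ⊥ ∧ W ≠ ⊤ ∧ Odd (Module.finrank F W) ∧ 2 * Module.finrank F W ≠ 10 ∧ Cfsg.Geo.IsNondegenerateOn (QuadraticMap.polar Q) W ∧ H = Cfsg.Geo.subspaceStabilizer W ⊓ Cfsg.Geo.omegaGL Q) ∨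
    (∃ W : Submodule F (Fin 10 → F), Module.finrank F W = 2 ∧ Cfsg.Geo.IsNondegenerateOn (QuadraticMap.polar Q) W ∧ ¬ Cfsg.Geo.IsPlusTypeOn Q W ∧ H = Cfsg.Geo.subspaceStabilizer W ⊓ Cfsg.Geo.omegaGL Q) ∨
    (4 ≤ Fintype.card F ∧ ∃ W : Submodule F (Fin 10 → F), Module.finrank F W = 2 ∧ Cfsg.Geo.IsNondegenerateOn (QuadraticMap.polar Q) W ∧ Cfsg.Geo.IsPlusTypeOn Q W ∧ H = Cfsg.Geo.subspaceStabilizer W ⊓ Cfsg.Geo.omegaGL Q) ∨
    (∃ W : Submodule F (Fin 10 → F), Module.finrank F W = 4 ∧ Cfsg.Geo.IsNondegenerateOn (QuadraticMap.polar Q) W ∧ H = Cfsg.Geo.subspaceStabilizer W ⊓ Cfsg.Geo.omegaGL Q) ∨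
    (¬ Odd (Fintype.card F) ∧ ∃ v : (Fin 10 → F), Q v ≠ 0 ∧ H = Cfsg.Geo.subspaceStabilizer (Submodule.span F {v}) ⊓ Cfsg.Geo.omegaGL Q) ∨
    ((∃ p : ℕ, p.Prime ∧ Fintype.card F = p ∧ (p % 4 = 1)) ∧ ∃ D : Fin 10 → Submodule F (Fin 10 → F), Cfsg.Geo.IsOrthogonalMDecomposition Q 1 D ∧ H = Cfsg.Geo.decompositionStabilizer D ⊓ Cfsg.Geo.omegaGL Q) ∨
    (7 ≤ Fintype.card F ∧ ∃ D : Fin 5 → Submodule F (Fin 10 → F), Cfsg.Geo.IsOrthogonalMDecomposition Q 2 D ∧ H = Cfsg.Geo.decompositionStabilizer D ⊓ Cfsg.Geo.omegaGL Q) ∨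
    (Fintype.card F % 4 = 1 ∧ ∃ D : Fin 2 → Submodule F (Fin 10 → F), Cfsg.Geo.IsOrthogonalMDecomposition Q 5 D ∧ H = Cfsg.Geo.decompositionStabilizer D ⊓ Cfsg.Geo.omegaGL Q) ∨
    (Fintype.card F % 4 = 3 ∧ ∃ D : Fin 2 → Submodule F (Fin 10 → F), Cfsg.Geo.IsNondegenerateMDecomposition (QuadraticMap.polar Q) 5 D ∧ ¬ Cfsg.Geo.AreIsometricFor Q (D 0) (D 1) ∧ H = Cfsg.Geo.decompositionStabilizer D ⊓ Cfsg.Geo.omegaGL Q) ∨
    (Odd (Fintype.card F) ∧ ∃ K : Subalgebra F (Matrix (Fin 10) (Fin 10) F), Cfsg.Geo.IsFieldSubalgebra 2 K ∧ Cfsg.Geo.IsSelfAdjointFor (QuadraticMap.polar Q) K ∧ H = Cfsg.Geo.subalgebraNormalizer K ⊓ Cfsg.Geo.omegaGL Q) ∨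
    (∃ (F₀ : Subfield F) (r : ℕ) (P : Matrix.GeneralLinearGroup (Fin 10) F) (ζ : F), r.Prime ∧ Fintype.card F = Nat.card F₀ ^ r ∧ ζ ≠ 0 ∧ Cfsg.Geo.IsQuadFormRationalStructure (fun v : Fin 10 → F => ζ * Q v) F₀ P ∧ H = Cfsg.Geo.subfieldSubgroup F₀ P ⊓ Cfsg.Geo.omegaGL Q) ∨
    Cfsg.Geo.InOrthogonalResidualClass H

section general

variable {n : ℕ}

/-- properness of subspace stabilisers, from the irreducibility of `Ω` -/
theorem not_omegaGL_le_subspaceStabilizer {Q : (Fin n → F) → F} (hQ : IsNondegenerateQuadraticForm Q)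
    (hn : 7 ≤ n) (W : Submodule F (Fin n → F)) (h0 : W ≠ ⊥) (h1 : W ≠ ⊤) :
    ¬ omegaGL Q ≤ subspaceStabilizer W := by
  intro hle
  have hirr := omegaGL_irreducible hQ hn
  have hinv : ∀ s ∈ matrixSet (omegaGL Q), W.map (Matrix.toLin' s) ≤ W := by
    rintro s ⟨g, hg, rfl⟩
    exact (map_eq_of_mem_subspaceStabilizer (hle hg)).le
  rcases hirr W hinv with h | h
  · exact h0 h
  · exact h1 h

/-- a totally singular subspace is proper -/
theorem ne_top_of_isTotallySingularQuad {Q : (Fin n → F) → F} (hQ : IsNondegenerateQuadraticForm Q)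
    (hn : 0 < n) (W : Submodule F (Fin n → F)) (hW : IsTotallySingularQuad Q W) : W ≠ ⊤ := by
  intro h
  subst h
  have hv : (Pi.single (⟨0, hn⟩ : Fin n) (1 : F) : Fin n → F) ≠ 0 := by
    intro h0
    have := congrFun h0 ⟨0, hn⟩
    simp at this
  obtain ⟨x, hx⟩ := (hQ.nondegenerate _ hv).1
  apply hx
  unfold QuadraticMap.polar
  rw [hW _ Submodule.mem_top, hW x Submodule.mem_top, hW _ Submodule.mem_top]
  simp

theorem quad_zero {Q : (Fin n → F) → F} (hQ : IsNondegenerateQuadraticForm Q) : Q 0 = 0 := by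
  have := hQ.smul 0 0
  simpa using this

theorem polar_comm' (Q : (Fin n → F) → F) (u v : Fin n → F) :
    QuadraticMap.polar Q u v = QuadraticMap.polar Q v u :=
  QuadraticMap.polar_comm Q u v

theorem areOrthogonalFor_symm {Q : (Fin n → F) → F} {W W' : Submodule F (Fin n → F)}
    (h : AreOrthogonalFor (QuadraticMap.polar Q) W W') :
    AreOrthogonalFor (QuadraticMap.polar Q) W' W := fun u hu v hv => by
  rw [polar_comm']
  exact h v hv u hu

/-- odd-dimensional non-degenerate subspaces only exist in odd characteristic -/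
theorem odd_card_of_nondegenerate_odd {Q : (Fin n → F) → F} (hQ : IsNondegenerateQuadraticForm Q)
    (W : Submodule F (Fin n → F)) (hW : IsNondegenerateOn (QuadraticMap.polar Q) W)
    (hk : Odd (Module.finrank F W)) : Odd (Fintype.card F) := by
  apply odd_card_of_two_ne_zero
  intro h2
  have := even_finrank_of_nondegenerate_char_two hQ h2 W hW
  exact (Nat.not_even_iff_odd.2 hk) this

/-- the pair `![W, W']` of complementary orthogonal non-degenerate `m`-spaces -/
theorem isNondegenerateMDecomposition_pair {Q : (Fin n → F) → F} {m : ℕ} (hm : 0 < m)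
    (W W' : Submodule F (Fin n → F)) (hd : Module.finrank F W = m) (hd' : Module.finrank F W' = m)
    (hW : IsNondegenerateOn (QuadraticMap.polar Q) W) (hW' : IsNondegenerateOn (QuadraticMap.polar Q) W')
    (horth : AreOrthogonalFor (QuadraticMap.polar Q) W W') (hinf : W ⊓ W' = ⊥) (hsup : W ⊔ W' = ⊤) :
    IsNondegenerateMDecomposition (QuadraticMap.polar Q) m ![W, W'] := by
  refine ⟨⟨le_refl 2, hm, ?_, ?_, ?_⟩, ?_, ?_⟩
  · intro i
    fin_cases i
    · exact hd
    · exact hd'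
  · rw [iSupIndep_pair (i := (0 : Fin 2)) (j := 1) (by decide)
      (by intro k; fin_cases k; exact Or.inl rfl; exact Or.inr rfl)]
    exact disjoint_iff.2 hinf
  · apply le_antisymm le_top
    rw [← hsup]
    exact sup_le (le_iSup ![W, W'] 0) (le_iSup ![W, W'] 1)
  · intro i
    fin_cases i
    · exact hW
    · exact hW'
  · intro i j hij
    fin_cases i <;> fin_cases j
    · exact absurd rfl hij
    · exact horth
    · exact areOrthogonalFor_symm horth
    · exact absurd rfl hij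

end general

variable {Q : (Fin 10 → F) → F} {H : Subgroup (GL (Fin 10) F)}

/-! ### The cases -/

theorem goal_of_outTS (hQ : IsNondegenerateQuadraticForm Q) (hplus : IsPlusTypeOn Q ⊤)
    (hH : IsMaximalIn (omegaGL Q) H) (h : OutTS Q H) : Goal10P Q H := by
  obtain ⟨W, hW0, hWts, hle⟩ := h
  by_cases h4 : Module.finrank F W = 4
  · exact (false_of_exists_between hH hle
      (exists_between_submax_singular hQ (by norm_num) hplus W hWts (by omega))).elim
  · exact Or.inl ⟨W, hW0, hWts, h4, eq_inf_of_isMaximalIn hH hle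
      (not_omegaGL_le_subspaceStabilizer hQ (by norm_num) W hW0
        (ne_top_of_isTotallySingularQuad hQ (by norm_num) W hWts))⟩

theorem goal_of_outNS (hQ : IsNondegenerateQuadraticForm Q)
    (hH : IsMaximalIn (omegaGL Q) H) (h : OutNS Q H) : Goal10P Q H := by
  obtain ⟨h2, v, hv, hle⟩ := h
  have hv0 : v ≠ 0 := by
    rintro rfl
    exact hv (quad_zero hQ)
  have h0 : Submodule.span F {v} ≠ ⊥ := by
    intro h
    exact hv0 ((Submodule.span_singleton_eq_bot).1 h)
  have h1 : Submodule.span F {v} ≠ ⊤ := by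
    intro h
    have h1 : Module.finrank F (Submodule.span F {v}) = 1 := finrank_span_singleton hv0
    rw [h, finrank_top, Module.finrank_fin_fun] at h1
    omega
  exact Or.inr (Or.inr (Or.inr (Or.inr (Or.inr (Or.inl
    ⟨two_eq_zero_iff_not_odd_card.1 h2, v, hv, eq_inf_of_isMaximalIn hH hle
      (not_omegaGL_le_subspaceStabilizer hQ (by norm_num) _ h0 h1)⟩)))))

/-- the non-degenerate case, for the member of the pair `W, W'` of dimension at most `5` -/
theorem goal_of_nd_aux (hQ : IsNondegenerateQuadraticForm Q) (hplus : IsPlusTypeOn Q ⊤)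
    (hH : IsMaximalIn (omegaGL Q) H) (W W' : Submodule F (Fin 10 → F))
    (hW : IsNondegenerateOn (QuadraticMap.polar Q) W) (hW' : IsNondegenerateOn (QuadraticMap.polar Q) W')
    (horth : AreOrthogonalFor (QuadraticMap.polar Q) W W') (hinf : W ⊓ W' = ⊥) (hsup : W ⊔ W' = ⊤)
    (hdim : Module.finrank F W + Module.finrank F W' = 10)
    (hle : H ≤ subspaceStabilizer W) (hle' : H ≤ subspaceStabilizer W')
    (hk1 : 1 ≤ Module.finrank F W) (hk5 : Module.finrank F W ≤ 5) : Goal10P Q H := by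
  have hW0 : W ≠ ⊥ := by
    intro h
    rw [h, finrank_bot] at hk1
    omega
  have hW1 : W ≠ ⊤ := by
    intro h
    rw [h, finrank_top, Module.finrank_fin_fun] at hk5
    omega
  have hprop := not_omegaGL_le_subspaceStabilizer hQ (by norm_num) W hW0 hW1
  have heq := eq_inf_of_isMaximalIn hH hle hprop
  have hcases : Module.finrank F W = 1 ∨ Module.finrank F W = 2 ∨ Module.finrank F W = 3 ∨
      Module.finrank F W = 4 ∨ Module.finrank F W = 5 := by omega
  rcases hcases with hk | hk | hk | hk | hk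
  · -- k = 1
    have hodd := odd_card_of_nondegenerate_odd hQ W hW (by rw [hk]; decide)
    exact Or.inr (Or.inl ⟨hodd, W, hW0, hW1, by rw [hk]; decide, by omega, hW, heq⟩)
  · -- k = 2
    by_cases hp : IsPlusTypeOn Q W
    · by_cases hq : 4 ≤ Fintype.card F
      · exact Or.inr (Or.inr (Or.inr (Or.inl ⟨hq, W, hk, hW, hp, heq⟩)))
      · exact (false_of_exists_between hH hle
          (exists_between_plus_plane hQ (by norm_num) (by omega) W hk hW hp)).elim
    · exact Or.inr (Or.inr (Or.inl ⟨W, hk, hW, hp, heq⟩))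
  · -- k = 3
    have hodd := odd_card_of_nondegenerate_odd hQ W hW (by rw [hk]; decide)
    exact Or.inr (Or.inl ⟨hodd, W, hW0, hW1, by rw [hk]; decide, by omega, hW, heq⟩)
  · -- k = 4
    exact Or.inr (Or.inr (Or.inr (Or.inr (Or.inl ⟨W, hk, hW, heq⟩))))
  · -- k = 5
    have hodd := odd_card_of_nondegenerate_odd hQ W hW (by rw [hk]; decide)
    have hk' : Module.finrank F W' = 5 := by omega
    have hD := isNondegenerateMDecomposition_pair (Q := Q) (m := 5) (by norm_num) W W' hk hk' hW hW'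
      horth hinf hsup
    have hiff := (isPlusTypeOn_top_halves_iff hQ hodd 5 (by decide) ![W, W'] hD).1 hplus
    have hleD : H ≤ decompositionStabilizer ![W, W'] := le_decompositionStabilizer_pair hle hle'
    have heqD := eq_inf_of_isMaximalIn hH hleD
      (not_omegaGL_le_decompositionStabilizer hQ (by norm_num) 5 ![W, W'] hD)
    by_cases hiso : AreIsometricFor Q W W'
    · have h1 : Fintype.card F % 4 = 1 := hiff.1 hiso
      refine Or.inr (Or.inr (Or.inr (Or.inr (Or.inr (Or.inr (Or.inr (Or.inr (Or.inl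
        ⟨h1, ![W, W'], ⟨hD, ?_⟩, heqD⟩))))))))
      intro i j
      fin_cases i <;> fin_cases j
      · exact areIsometricFor_refl Q W
      · exact hiso
      · exact areIsometricFor_symm hiso
      · exact areIsometricFor_refl Q W'
    · have h3 : Fintype.card F % 4 = 3 := by
        rcases card_mod_four_of_odd hodd with h | h
        · exact absurd (hiff.2 h) hiso
        · exact h
      exact Or.inr (Or.inr (Or.inr (Or.inr (Or.inr (Or.inr (Or.inr (Or.inr (Or.inr (Or.inl
        ⟨h3, ![W, W'], hD, hiso, heqD⟩)))))))))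

theorem goal_of_outND (hQ : IsNondegenerateQuadraticForm Q) (hplus : IsPlusTypeOn Q ⊤)
    (hH : IsMaximalIn (omegaGL Q) H) (h : OutND Q H) : Goal10P Q H := by
  have hI : H ≤ isometryGroup F Q := hH.1.le.trans (omegaGL_le_isometryGroup Q)
  obtain ⟨W, hW0, hW1, hW, hle⟩ := h
  obtain ⟨W', hW', horth, hinf, hsup, hdim, -, hstab⟩ := exists_perp_of_nondegenerate hQ W hW
  have hle' : H ≤ subspaceStabilizer W' := (le_inf hle hI).trans hstab
  have hk1 : 1 ≤ Module.finrank F W := by
    rcases Nat.eq_zero_or_pos (Module.finrank F W) with h | h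
    · exact absurd (Submodule.finrank_eq_zero.1 h) hW0
    · exact h
  have hk10 : Module.finrank F W ≠ 10 := by
    intro h
    apply hW1
    apply Submodule.eq_top_of_finrank_eq
    rw [h, Module.finrank_fin_fun]
  by_cases hk5 : Module.finrank F W ≤ 5
  · exact goal_of_nd_aux hQ hplus hH W W' hW hW' horth hinf hsup hdim hle hle' hk1 hk5
  · exact goal_of_nd_aux hQ hplus hH W' W hW' hW (areOrthogonalFor_symm horth)
      (by rw [inf_comm]; exact hinf) (by rw [sup_comm]; exact hsup) (by omega) hle' hle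
      (by omega) (by omega)

theorem false_of_outTSPair (hQ : IsNondegenerateQuadraticForm Q)
    (hH : IsMaximalIn (omegaGL Q) H) (h : OutTSPair Q H) : False := by
  obtain ⟨m, D, hD, hts, hle⟩ := h
  have hm : 2 * m = 10 := mul_eq_of_isMDecomposition hD
  have hm5 : m = 5 := by omega
  subst hm5
  exact false_of_exists_between hH hle
    (exists_between_singular_pair hQ (by norm_num) 5 rfl (by decide) D hD hts)

theorem false_of_outFieldU (hQ : IsNondegenerateQuadraticForm Q) (hplus : IsPlusTypeOn Q ⊤)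
    (h : OutFieldU Q H) : False := by
  obtain ⟨K, hK, hadj, hnsa, hsim, hle⟩ := h
  have := even_of_isPlusTypeOn_fieldU hQ 5 rfl K hK hadj hsim hplus
  exact absurd this (by decide)

theorem goal_of_outDec (hQ : IsNondegenerateQuadraticForm Q) (hplus : IsPlusTypeOn Q ⊤)
    (hH : IsMaximalIn (omegaGL Q) H) (h : OutDec Q H) : Goal10P Q H := by
  have hI : H ≤ isometryGroup F Q := hH.1.le.trans (omegaGL_le_isometryGroup Q)
  obtain ⟨t, m, D, hD, hle⟩ := h
  have htm : t * m = 10 := mul_eq_of_isMDecomposition hD.decomp.decomp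
  have ht2 : 2 ≤ t := hD.decomp.decomp.two_le
  have hm0 : 0 < m := hD.decomp.decomp.pos
  have hprop := not_omegaGL_le_decompositionStabilizer hQ (by norm_num) m D hD.decomp
  have heq := eq_inf_of_isMaximalIn hH hle hprop
  have ht10 : t ≤ 10 := by nlinarith
  have hcases : (t = 10 ∧ m = 1) ∨ (t = 5 ∧ m = 2) ∨ (t = 2 ∧ m = 5) := by
    interval_cases t <;> omega
  rcases hcases with ⟨rfl, rfl⟩ | ⟨rfl, rfl⟩ | ⟨rfl, rfl⟩
  · -- frames
    have hodd : Odd (Fintype.card F) :=
      odd_card_of_nondegenerate_odd hQ (D 0) (hD.decomp.nondegenerate 0)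
        (by rw [hD.decomp.decomp.finrank_eq 0]; decide)
    have h1 : Fintype.card F % 4 = 1 := by
      rcases (isPlusTypeOn_top_frame_iff hQ hodd D hD 5 rfl).1 hplus with h | h
      · exact absurd h (by decide)
      · exact h
    by_cases hp : (Fintype.card F).Prime
    · exact Or.inr (Or.inr (Or.inr (Or.inr (Or.inr (Or.inr (Or.inl
        ⟨⟨Fintype.card F, hp, rfl, h1⟩, D, hD, heq⟩))))))
    · obtain ⟨F₁, r, hr, -, hcard⟩ :=
        Cfsg.Agent.Lib.Helper84.AschC5.exists_prime_degree_subfield (⊥ : Subfield F)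
          (bot_ne_top_of_card_not_prime hp)
      obtain ⟨P, ζ, hζ, hrat, hcont⟩ := exists_subfield_of_frame hQ hodd D hD F₁
      have hle1 : H ≤ subfieldSubgroup F₁ P := (le_inf hle hI).trans hcont
      exact Or.inr (Or.inr (Or.inr (Or.inr (Or.inr (Or.inr (Or.inr (Or.inr (Or.inr (Or.inr (Or.inr
        (Or.inl ⟨F₁, r, P, ζ, hr, hcard, hζ, hrat, eq_inf_of_isMaximalIn hH hle1
          (not_omegaGL_le_subfieldSubgroup hQ (by norm_num) F₁
            (subfield_ne_top_of_card_pow hr.two_le hcard) P)⟩)))))))))))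
  · -- five planes
    have hpl : ∀ i, IsPlusTypeOn Q (D i) :=
      isPlusTypeOn_block_of_odd hQ 2 D hD (by decide) (by decide) hplus
    by_cases hq : 7 ≤ Fintype.card F
    · exact Or.inr (Or.inr (Or.inr (Or.inr (Or.inr (Or.inr (Or.inr (Or.inl ⟨hq, D, hD, heq⟩)))))))
    · have h1 : 1 < Fintype.card F := Fintype.one_lt_card
      have h6 : Fintype.card F ≠ 6 := card_ne_six
      have hq' : Fintype.card F = 2 ∨ Fintype.card F = 3 ∨ Fintype.card F = 4 ∨ Fintype.card F = 5 := by
        omega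
      exact (false_of_exists_between hH hle
        (Cfsg.Agent.Lib.Helper94.exists_between_hypPlanes hQ hq' D hD hpl (le_refl 5))).elim
  · -- two halves
    have hodd : Odd (Fintype.card F) :=
      odd_card_of_nondegenerate_odd hQ (D 0) (hD.decomp.nondegenerate 0)
        (by rw [hD.decomp.decomp.finrank_eq 0]; decide)
    have hiff := (isPlusTypeOn_top_halves_iff hQ hodd 5 (by decide) D hD.decomp).1 hplus
    have h1 : Fintype.card F % 4 = 1 := hiff.1 (hD.isometric 0 1)
    exact Or.inr (Or.inr (Or.inr (Or.inr (Or.inr (Or.inr (Or.inr (Or.inr (Or.inl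
      ⟨h1, D, hD, heq⟩))))))))

theorem goal_of_outFieldSA (hQ : IsNondegenerateQuadraticForm Q) (hplus : IsPlusTypeOn Q ⊤)
    (hH : IsMaximalIn (omegaGL Q) H) (h : OutFieldSA Q H) : Goal10P Q H := by
  have hI : H ≤ isometryGroup F Q := hH.1.le.trans (omegaGL_le_isometryGroup Q)
  obtain ⟨r, K, hr, hK, hsa, hle⟩ := h
  have hdvd : r ∣ 10 := Cfsg.Agent.Lib.Helper99.Asch.dvd_of_isFieldSubalgebra r K hK
  have hr10 : r ≤ 10 := Nat.le_of_dvd (by norm_num) hdvd
  have hr2 := hr.two_le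
  have hcases : r = 2 ∨ r = 5 := by
    interval_cases r
    · exact Or.inl rfl
    · exact absurd hdvd (by norm_num)
    · exact absurd hr (by norm_num)
    · exact Or.inr rfl
    · exact absurd hr (by norm_num)
    · exact absurd hdvd (by norm_num)
    · exact absurd hr (by norm_num)
    · exact absurd hr (by norm_num)
    · exact absurd hr (by norm_num)
  rcases hcases with rfl | rfl
  · by_cases h2 : (2 : F) = 0
    · exact (false_of_selfAdjoint_field_two_char_two hQ h2 5 rfl (by decide) K hK hsa).elim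
    · exact Or.inr (Or.inr (Or.inr (Or.inr (Or.inr (Or.inr (Or.inr (Or.inr (Or.inr (Or.inr (Or.inl
        ⟨odd_card_of_two_ne_zero h2, K, hK, hsa, eq_inf_of_isMaximalIn hH hle
          (not_omegaGL_le_subalgebraNormalizer hQ (by norm_num) 2 (le_refl 2) K hK)⟩))))))))))
  · rcases tsPair_or_fieldU_of_selfAdjoint_field_half hQ hI 5 rfl (by decide) K hK hsa hle with h | h
    · exact (false_of_outTSPair hQ hH h).elim
    · exact (false_of_outFieldU hQ hplus h).elim

theorem false_of_outTensorSym (hQ : IsNondegenerateQuadraticForm Q) (hplus : IsPlusTypeOn Q ⊤)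
    (hH : IsMaximalIn (omegaGL Q) H) (h : OutTensorSym Q H) : False := by
  have hI : H ≤ isometryGroup F Q := hH.1.le.trans (omegaGL_le_isometryGroup Q)
  obtain ⟨h2, n₁, n₂, e, P, f₁, f₂, hn1, hn2, hs1, hs2, hT, hle⟩ := h
  have hcard : n₁ * n₂ = 10 := by
    have := Fintype.card_congr e
    simpa using this.symm
  have hn10 : n₁ ≤ 10 := by nlinarith
  have hcases : (n₁ = 2 ∧ n₂ = 5) ∨ (n₁ = 5 ∧ n₂ = 2) := by
    interval_cases n₁ <;> omega
  rcases hcases with ⟨rfl, rfl⟩ | ⟨rfl, rfl⟩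
  · rcases tsPair_or_fieldU_of_tensorSym_two hQ h2 hI 5 (by norm_num) e P f₁ f₂ hs1 hs2 hT hle with h | h
    · exact false_of_outTSPair hQ hH h
    · exact false_of_outFieldU hQ hplus h
  · obtain ⟨hT', heq, -⟩ := tensor_swap (QuadraticMap.polar Q) 5 2 e P f₁ f₂ hT
    rw [heq] at hle
    rcases tsPair_or_fieldU_of_tensorSym_two hQ h2 hI 5 (by norm_num) _ P f₂ f₁ hs2 hs1 hT' hle with h | h
    · exact false_of_outTSPair hQ hH h
    · exact false_of_outFieldU hQ hplus h

theorem even_of_isSymplecticForm' {k : ℕ} {f : (Fin k → F) → (Fin k → F) → F} (hf : IsSymplecticForm f) :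
    Even k := by
  let B : LinearMap.BilinForm F (Fin k → F) :=
    LinearMap.mk₂ F f hf.bilinear.add_left hf.bilinear.smul_left hf.bilinear.add_right
      hf.bilinear.smul_right
  have hB : ∀ u v, B u v = f u v := fun u v => rfl
  have hA : B.IsAlt := fun v => by rw [hB]; exact hf.alternating v
  have hN : B.Nondegenerate := by
    refine ⟨fun u hu => ?_, fun u hu => ?_⟩
    · by_contra h0
      obtain ⟨x, hx⟩ := (hf.nondegenerate u h0).2
      exact hx (by rw [← hB]; exact hu x)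
    · by_contra h0
      obtain ⟨x, hx⟩ := (hf.nondegenerate u h0).1
      exact hx (by rw [← hB]; exact hu x)
  have := Cfsg.Agent.Lib.Helper36.even_finrank_of_isAlt_nondegenerate B hA hN
  rwa [Module.finrank_fin_fun] at this

theorem false_of_outTensorAlt (h : OutTensorAlt Q H) : False := by
  obtain ⟨n₁, n₂, e, P, f₁, f₂, hn1, hn2, hs1, hs2, hT, hpure, hle⟩ := h
  have hcard : n₁ * n₂ = 10 := by
    have := Fintype.card_congr e
    simpa using this.symm
  obtain ⟨a, ha⟩ := even_of_isSymplecticForm' hs1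
  obtain ⟨b, hb⟩ := even_of_isSymplecticForm' hs2
  subst ha hb
  have : 4 * (a * b) = 10 := by
    rw [← hcard]
    ring
  omega

theorem goal_of_outSubfield (hQ : IsNondegenerateQuadraticForm Q)
    (hH : IsMaximalIn (omegaGL Q) H) (h : OutSubfield Q H) : Goal10P Q H := by
  obtain ⟨F₀, r, P, ζ, hr, hcard, hζ, hrat, hle⟩ := h
  exact Or.inr (Or.inr (Or.inr (Or.inr (Or.inr (Or.inr (Or.inr (Or.inr (Or.inr (Or.inr (Or.inr
    (Or.inl ⟨F₀, r, P, ζ, hr, hcard, hζ, hrat, eq_inf_of_isMaximalIn hH hle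
      (not_omegaGL_le_subfieldSubgroup hQ (by norm_num) F₀
        (subfield_ne_top_of_card_pow hr.two_le hcard) P)⟩)))))))))))

/-- **[ROW-10P]**: the row S5847. -/
theorem row_10P (hQ : IsNondegenerateQuadraticForm Q) (hplus : IsPlusTypeOn Q ⊤)
    (hH : IsMaximalIn (omegaGL Q) H) : Goal10P Q H := by
  have hI : H ≤ isometryGroup F Q := hH.1.le.trans (omegaGL_le_isometryGroup Q)
  rcases core_oe hQ (Or.inr (Or.inl rfl)) hI with
    hTS | hND | hNS | hDec | hPair | hSA | hU | hTSym | hTAlt | hSub | h8 | hRes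
  · exact goal_of_outTS hQ hplus hH hTS
  · exact goal_of_outND hQ hplus hH hND
  · exact goal_of_outNS hQ hH hNS
  · exact goal_of_outDec hQ hplus hH hDec
  · exact (false_of_outTSPair hQ hH hPair).elim
  · exact goal_of_outFieldSA hQ hplus hH hSA
  · exact (false_of_outFieldU hQ hplus hU).elim
  · exact (false_of_outTensorSym hQ hplus hH hTSym).elim
  · exact (false_of_outTensorAlt hTAlt).elim
  · exact goal_of_outSubfield hQ hH hSub
  · exact absurd h8.1 (by norm_num)
  · exact Or.inr (Or.inr (Or.inr (Or.inr (Or.inr (Or.inr (Or.inr (Or.inr (Or.inr (Or.inr (Or.inr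
      (Or.inr hRes)))))))))))

end Cfsg.Agent.Lib.Helper59.Oe10P
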