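import Mathlib
import Cfsg.Prelude.Def_GeometricClasses
import Cfsg.Agent.Lib.Helper55.Oe.Defs
import Cfsg.Agent.Lib.Helper1.OeTFieldU

/-!
# ASCHOE-[E-FIELDHALF], Part B, case (i) (helper59)

`K` a self-adjoint field subalgebra of degree `r` on the quadratic space `(F^n, Q)`, `n = 2r`, and an operator `θ`
commuting with `K` with `B(θ v, v) = Q v`, `θ² = θ - ν`, `ν ∈ K`, `1 - 4ν ≠ 0`.  If `t² - t + ν` has a root `ρ` in `K`,
then `D₀ = ker (θ - ρ)` and `D₁ = ker (θ - (1 - ρ))` are complementary totally singular `r`-spaces, and their union is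
the intrinsic set `{v | ∀ z ∈ K, Q (z v) = 0}`, so that every subgroup of `N(K) ∩ O(Q)` permutes them: `OutTSPair`.
-/

set_option autoImplicit false
set_option linter.unusedSectionVars false
set_option linter.unusedVariables false

namespace Cfsg.Agent.Lib.Helper59.OeFieldHalfI

open Cfsg Cfsg.Geo Cfsg.Agent.Lib.Helper94 Cfsg.Agent.Lib.Helper1.OeKit
open scoped MatrixGroups Matrix

variable {n : ℕ} {F : Type*} [Field F]

theorem mem_ker_sub_iff (A B : Matrix (Fin n) (Fin n) F) (v : Fin n → F) :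
    v ∈ LinearMap.ker (Matrix.toLin' (A - B)) ↔ A *ᵥ v = B *ᵥ v := by
  rw [LinearMap.mem_ker, Matrix.toLin'_apply, Matrix.sub_mulVec, sub_eq_zero]

/-- a subspace inside the union of two subspaces lies in one of them -/
theorem le_or_le_of_forall_mem_or {V : Type*} [AddCommGroup V] [Module F V] (M A B : Submodule F V)
    (h : ∀ x ∈ M, x ∈ A ∨ x ∈ B) : M ≤ A ∨ M ≤ B := by
  by_contra hcon
  obtain ⟨hA, hB⟩ := not_or.1 hcon
  obtain ⟨a, haM, haA⟩ := SetLike.not_le_iff_exists.1 hA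
  obtain ⟨b, hbM, hbB⟩ := SetLike.not_le_iff_exists.1 hB
  have haB : a ∈ B := (h a haM).resolve_left haA
  have hbA : b ∈ A := (h b hbM).resolve_right hbB
  rcases h (a + b) (M.add_mem haM hbM) with h1 | h1
  · exact haA (by simpa using A.sub_mem h1 hbA)
  · exact hbB (by simpa using B.sub_mem h1 haB)

/-- in characteristic 2 every element of a finite field subalgebra is a square (as in helper86's
`OeTField2EvenCore.exists_sq`) -/
theorem exists_sq_of_char_two [Fintype F] (h2 : (2 : F) = 0) {r : ℕ} (hr : 0 < r)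
    (K : Subalgebra F (Matrix (Fin n) (Fin n) F)) (hK : IsFieldSubalgebra r K) :
    ∀ x ∈ K, ∃ y ∈ K, y * y = x := by
  have hfd : FiniteDimensional F K := Module.finite_of_finrank_pos (by rw [hK.finrank_eq]; exact hr)
  have hfin : Finite K := Module.finite_of_finite F
  have hdouble : ∀ M : Matrix (Fin n) (Fin n) F, M + M = 0 := by
    intro M
    rw [← two_smul F M, h2, zero_smul]
  have hinj : Function.Injective (fun y : K => y * y) := by
    intro y z hyz
    have hyz' : (y : Matrix (Fin n) (Fin n) F) * y = z * z := congrArg Subtype.val hyz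
    have hcomm : (z : Matrix (Fin n) (Fin n) F) * y = y * z := hK.comm _ z.2 _ y.2
    have hw : ((y : Matrix (Fin n) (Fin n) F) - z) * (y - z) = 0 := by
      have e : ((y : Matrix (Fin n) (Fin n) F) - z) * (y - z) =
          ((y : Matrix (Fin n) (Fin n) F) * y - z * z) - (y * z + z * y) + (z * z + z * z) := by
        noncomm_ring
      rw [e, hcomm, hdouble, hdouble, hyz', sub_self, sub_zero, add_zero]
    by_contra hne
    have hw0 : (y : Matrix (Fin n) (Fin n) F) - z ≠ 0 := by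
      intro h0
      exact hne (Subtype.ext (sub_eq_zero.mp h0))
    obtain ⟨u, _, hu⟩ := hK.inv _ (K.sub_mem y.2 z.2) hw0
    apply hw0
    calc (y : Matrix (Fin n) (Fin n) F) - z = (y - z) * ((y - z) * u) := by rw [hu, mul_one]
      _ = 0 := by rw [← mul_assoc, hw, zero_mul]
  have hsurj := Finite.surjective_of_injective hinj
  intro x hx
  obtain ⟨y, hy⟩ := hsurj ⟨x, hx⟩
  exact ⟨y.1, y.2, congrArg Subtype.val hy⟩

section quad

variable {Q : (Fin n → F) → F} (hQ : IsNondegenerateQuadraticForm Q)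
include hQ

/-- polarising `B(θ v, v) = Q v`: `θ + θ* = 1` -/
theorem polar_theta_add (θ : Matrix (Fin n) (Fin n) F)
    (hθQ : ∀ v : Fin n → F, QuadraticMap.polar Q (θ *ᵥ v) v = Q v) (u v : Fin n → F) :
    polarBilin hQ (θ *ᵥ u) v + polarBilin hQ (θ *ᵥ v) u = polarBilin hQ u v := by
  have h := hθQ (u + v)
  have h1 : QuadraticMap.polar Q (θ *ᵥ (u + v)) (u + v) =
      polarBilin hQ (θ *ᵥ u) u + polarBilin hQ (θ *ᵥ u) v + polarBilin hQ (θ *ᵥ v) u +
        polarBilin hQ (θ *ᵥ v) v := by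
    rw [← polarBilin_apply hQ, Matrix.mulVec_add]
    simp only [map_add, LinearMap.add_apply]
    ring
  rw [h1, polarBilin_apply, polarBilin_apply hQ (θ *ᵥ v) v, hθQ u, hθQ v, Q_add hQ] at h
  rw [polarBilin_apply hQ u v]
  linear_combination h

/-- the eigenspace of `θ` for a root `ρ ∈ K` of `t² - t + ν` is totally singular -/
theorem ts_ker_of_root {r : ℕ} (K : Subalgebra F (Matrix (Fin n) (Fin n) F)) (hK : IsFieldSubalgebra r K)
    (hsa : IsSelfAdjointFor (QuadraticMap.polar Q) K)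
    (θ : Matrix (Fin n) (Fin n) F) (hcomm : ∀ x ∈ K, x * θ = θ * x)
    (hθQ : ∀ v : Fin n → F, QuadraticMap.polar Q (θ *ᵥ v) v = Q v)
    (ρ τ : Matrix (Fin n) (Fin n) F) (hρ : ρ ∈ K) (hτ : τ ∈ K) (hστ : (1 - (ρ + ρ)) * τ = 1) :
    KInv K (LinearMap.ker (Matrix.toLin' (θ - ρ))) ∧
      IsTotallySingularQuad Q (LinearMap.ker (Matrix.toLin' (θ - ρ))) := by
  have hstab : KInv K (LinearMap.ker (Matrix.toLin' (θ - ρ))) := by
    intro x hx v hv
    rw [mem_ker_sub_iff] at hv ⊢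
    rw [Matrix.mulVec_mulVec, ← hcomm x hx, ← Matrix.mulVec_mulVec, hv, Matrix.mulVec_mulVec,
      Matrix.mulVec_mulVec, hK.comm x hx ρ hρ]
  refine ⟨hstab, ?_⟩
  have hσ : ∀ u ∈ LinearMap.ker (Matrix.toLin' (θ - ρ)), ∀ v ∈ LinearMap.ker (Matrix.toLin' (θ - ρ)),
      polarBilin hQ ((1 - (ρ + ρ)) *ᵥ u) v = 0 := by
    intro u hu v hv
    rw [mem_ker_sub_iff] at hu hv
    have h1 := polar_theta_add hQ θ hθQ u v
    rw [hu, hv] at h1
    have h2 : polarBilin hQ (ρ *ᵥ v) u = polarBilin hQ (ρ *ᵥ u) v := by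
      rw [polarBilin_apply, hsa ρ hρ v u, ← polarBilin_apply hQ, polarBilin_symm hQ]
    rw [h2] at h1
    rw [Matrix.sub_mulVec, Matrix.one_mulVec, Matrix.add_mulVec]
    simp only [map_sub, map_add, LinearMap.sub_apply, LinearMap.add_apply]
    linear_combination -h1
  have hiso : ∀ u ∈ LinearMap.ker (Matrix.toLin' (θ - ρ)), ∀ v ∈ LinearMap.ker (Matrix.toLin' (θ - ρ)),
      polarBilin hQ u v = 0 := by
    intro u hu v hv
    have := hσ (τ *ᵥ u) (hstab τ hτ u hu) v hv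
    rwa [Matrix.mulVec_mulVec, hστ, Matrix.one_mulVec] at this
  intro v hv
  have hv' := hv
  rw [mem_ker_sub_iff] at hv'
  rw [← hθQ v, hv', ← polarBilin_apply hQ]
  exact hiso _ (hstab ρ hρ v hv) v hv

end quad

/-- **[E-FIELDHALF-B-i]**: the root case of Part B. -/
theorem outTSPair_of_theta_root [Fintype F] {Q : (Fin n → F) → F} (hQ : IsNondegenerateQuadraticForm Q)
    {H : Subgroup (GL (Fin n) F)} (hH : H ≤ isometryGroup F Q) (r : ℕ) (hn : n = 2 * r)
    (K : Subalgebra F (Matrix (Fin n) (Fin n) F)) (hK : IsFieldSubalgebra r K)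
    (hsa : IsSelfAdjointFor (QuadraticMap.polar Q) K) (hle : H ≤ subalgebraNormalizer K)
    (θ ν : Matrix (Fin n) (Fin n) F) (hν : ν ∈ K) (hcomm : ∀ x ∈ K, x * θ = θ * x)
    (hθQ : ∀ v : Fin n → F, QuadraticMap.polar Q (θ *ᵥ v) v = Q v) (hθ2 : θ * θ = θ - ν)
    (hdisc : 1 - 4 • ν ≠ 0)
    (ρ : Matrix (Fin n) (Fin n) F) (hρ : ρ ∈ K) (hroot : ρ * ρ = ρ - ν) :
    Cfsg.Agent.Lib.Helper55.Oe.OutTSPair Q H := by
  classical
  -- `r > 0`
  have hr : 0 < r := by
    rcases Nat.eq_zero_or_pos r with h0 | h0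
    · exfalso
      have hn0 : n = 0 := by omega
      subst hn0
      exact hdisc (Subsingleton.elim _ _)
    · exact h0
  -- the unit `σ = 1 - 2ρ` of `K`
  have hσK : (1 - (ρ + ρ) : Matrix (Fin n) (Fin n) F) ∈ K := K.sub_mem K.one_mem (K.add_mem hρ hρ)
  have hσσ : (1 - (ρ + ρ)) * (1 - (ρ + ρ)) = 1 - 4 • ν := by
    have e : (1 - (ρ + ρ)) * (1 - (ρ + ρ)) = 1 - 4 • ρ + 4 • (ρ * ρ) := by noncomm_ring
    rw [e, hroot]
    noncomm_ring
  have hσ0 : (1 - (ρ + ρ) : Matrix (Fin n) (Fin n) F) ≠ 0 := by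
    intro h0
    apply hdisc
    rw [← hσσ, h0, zero_mul]
  obtain ⟨τ, hτ, hστ⟩ := hK.inv _ hσK hσ0
  have hτσ : τ * (1 - (ρ + ρ)) = 1 := by rw [hK.comm τ hτ _ hσK]; exact hστ
  -- the second root
  have hρ'K : (1 - ρ : Matrix (Fin n) (Fin n) F) ∈ K := K.sub_mem K.one_mem hρ
  have hστ' : (1 - ((1 - ρ) + (1 - ρ))) * (-τ) = 1 := by
    have e : (1 - ((1 - ρ) + (1 - ρ))) * (-τ) = (1 - (ρ + ρ)) * τ := by noncomm_ring
    rw [e, hστ]
  have hρθ : ρ * θ = θ * ρ := hcomm ρ hρ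
  have hτθ : τ * θ = θ * τ := hcomm τ hτ
  have hτρ : τ * ρ = ρ * τ := hK.comm τ hτ ρ hρ
  obtain ⟨hst0, hts0⟩ := ts_ker_of_root hQ K hK hsa θ hcomm hθQ ρ τ hρ hτ hστ
  obtain ⟨hst1, hts1⟩ := ts_ker_of_root hQ K hK hsa θ hcomm hθQ (1 - ρ) (-τ) hρ'K (K.neg_mem hτ) hστ'
  set D0 : Submodule F (Fin n → F) := LinearMap.ker (Matrix.toLin' (θ - ρ)) with hD0
  set D1 : Submodule F (Fin n → F) := LinearMap.ker (Matrix.toLin' (θ - (1 - ρ))) with hD1
  -- the two products vanish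
  have hprod1 : (θ - ρ) * (θ - (1 - ρ)) = 0 := by
    have e : (θ - ρ) * (θ - (1 - ρ)) = θ * θ - θ + θ * ρ - ρ * θ + ρ - ρ * ρ := by noncomm_ring
    rw [e, hθ2, hroot, hρθ]
    noncomm_ring
  have hprod2 : (θ - (1 - ρ)) * (θ - ρ) = 0 := by
    have e : (θ - (1 - ρ)) * (θ - ρ) = θ * θ - θ - θ * ρ + ρ * θ + ρ - ρ * ρ := by noncomm_ring
    rw [e, hθ2, hroot, hρθ]
    noncomm_ring
  -- the projections
  have hp0 : ∀ v : Fin n → F, (τ * ((1 - ρ) - θ)) *ᵥ v ∈ D0 := by
    intro v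
    rw [hD0, LinearMap.mem_ker, Matrix.toLin'_apply, Matrix.mulVec_mulVec]
    have e : (θ - ρ) * (τ * ((1 - ρ) - θ)) = -(τ * ((θ - ρ) * (θ - (1 - ρ)))) := by
      have e1 : (θ - ρ) * (τ * ((1 - ρ) - θ)) = -(θ * τ * (θ - (1 - ρ))) + ρ * τ * (θ - (1 - ρ)) := by
        noncomm_ring
      rw [e1, ← hτθ, ← hτρ]
      noncomm_ring
    rw [e, hprod1, mul_zero, neg_zero, Matrix.zero_mulVec]
  have hp1 : ∀ v : Fin n → F, (τ * (θ - ρ)) *ᵥ v ∈ D1 := by
    intro v
    rw [hD1, LinearMap.mem_ker, Matrix.toLin'_apply, Matrix.mulVec_mulVec]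
    have e : (θ - (1 - ρ)) * (τ * (θ - ρ)) = τ * ((θ - (1 - ρ)) * (θ - ρ)) := by
      have e1 : (θ - (1 - ρ)) * (τ * (θ - ρ)) = θ * τ * (θ - ρ) - τ * (θ - ρ) + ρ * τ * (θ - ρ) := by
        noncomm_ring
      rw [e1, ← hτθ, ← hτρ]
      noncomm_ring
    rw [e, hprod2, mul_zero, Matrix.zero_mulVec]
  have hsplit : ∀ v : Fin n → F, v = (τ * ((1 - ρ) - θ)) *ᵥ v + (τ * (θ - ρ)) *ᵥ v := by
    intro v
    rw [← Matrix.add_mulVec, ← mul_add]
    have e : (1 - ρ) - θ + (θ - ρ) = 1 - (ρ + ρ) := by noncomm_ring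
    rw [e, hτσ, Matrix.one_mulVec]
  have hsup : D0 ⊔ D1 = ⊤ := by
    rw [Submodule.eq_top_iff']
    intro v
    rw [hsplit v]
    exact Submodule.add_mem_sup (hp0 v) (hp1 v)
  have hinf : D0 ⊓ D1 = ⊥ := by
    rw [Submodule.eq_bot_iff]
    rintro v ⟨h0, h1⟩
    rw [SetLike.mem_coe, hD0, mem_ker_sub_iff] at h0
    rw [SetLike.mem_coe, hD1, mem_ker_sub_iff] at h1
    have h3 : (1 - (ρ + ρ)) *ᵥ v = 0 := by
      have e : (1 - (ρ + ρ) : Matrix (Fin n) (Fin n) F) = (1 - ρ) - ρ := by noncomm_ring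
      rw [e, Matrix.sub_mulVec, ← h1, ← h0, sub_self]
    have := congrArg (fun w => τ *ᵥ w) h3
    simpa [Matrix.mulVec_mulVec, hτσ] using this
  -- dimensions
  have hd0 := two_mul_finrank_le_of_ts hQ D0 hts0
  have hd1 := two_mul_finrank_le_of_ts hQ D1 hts1
  have hsum := Submodule.finrank_sup_add_finrank_inf_eq D0 D1
  rw [hsup, hinf, finrank_top, finrank_bot, Module.finrank_fin_fun] at hsum
  have hr0 : Module.finrank F D0 = r := by omega
  have hr1 : Module.finrank F D1 = r := by omega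
  -- `D i` are totally isotropic
  have hiso0 : ∀ u ∈ D0, ∀ v ∈ D0, polarBilin hQ u v = 0 := fun u hu v hv => by
    have := le_orthogonal_of_ts hQ D0 hts0 hv
    rw [LinearMap.BilinForm.mem_orthogonal_iff] at this
    exact this u hu
  have hiso1 : ∀ u ∈ D1, ∀ v ∈ D1, polarBilin hQ u v = 0 := fun u hu v hv => by
    have := le_orthogonal_of_ts hQ D1 hts1 hv
    rw [LinearMap.BilinForm.mem_orthogonal_iff] at this
    exact this u hu
  -- every element of `K` is an `F`-combination of squares, as far as `B(x v0, v1)` is concerned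
  have hsq : ∀ v0 v1 : Fin n → F, (∀ z ∈ K, polarBilin hQ ((z * z) *ᵥ v0) v1 = 0) →
      ∀ x ∈ K, polarBilin hQ (x *ᵥ v0) v1 = 0 := by
    intro v0 v1 hz x hx
    by_cases h2 : (2 : F) = 0
    · obtain ⟨y, hy, rfl⟩ := exists_sq_of_char_two h2 hr K hK x hx
      exact hz y hy
    · have h1 := hz (x + 1) (K.add_mem hx K.one_mem)
      have h3 := hz x hx
      have h4 := hz 1 K.one_mem
      have e : (x + 1) * (x + 1) = x * x + x + x + 1 * 1 := by noncomm_ring
      rw [e] at h1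
      simp only [Matrix.add_mulVec, map_add, LinearMap.add_apply] at h1
      rw [h3, h4] at h1
      have h5 : (2 : F) * polarBilin hQ (x *ᵥ v0) v1 = 0 := by linear_combination h1
      rcases mul_eq_zero.1 h5 with h | h
      · exact absurd h h2
      · exact h
  -- the intrinsic set
  have hS : ∀ v : Fin n → F, (∀ z ∈ K, Q (z *ᵥ v) = 0) → v ∈ D0 ∨ v ∈ D1 := by
    intro v hv
    set v0 := (τ * ((1 - ρ) - θ)) *ᵥ v with hv0
    set v1 := (τ * (θ - ρ)) *ᵥ v with hv1
    have hv0D : v0 ∈ D0 := hp0 v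
    have hv1D : v1 ∈ D1 := hp1 v
    have hvv : v = v0 + v1 := hsplit v
    by_cases h0 : v0 = 0
    · right
      rw [hvv, h0, zero_add]
      exact hv1D
    · left
      -- `B(z v0, z v1) = 0`
      have hz : ∀ z ∈ K, polarBilin hQ ((z * z) *ᵥ v0) v1 = 0 := by
        intro z hz
        have h1 := hv z hz
        rw [hvv, Matrix.mulVec_add, Q_add hQ, hts0 _ (hst0 z hz v0 hv0D), hts1 _ (hst1 z hz v1 hv1D),
          zero_add, zero_add] at h1
        rw [← Matrix.mulVec_mulVec, polarBilin_apply, hsa z hz]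
        exact h1
      have hx := hsq v0 v1 hz
      -- `K v0 = D0`
      let φ : K →ₗ[F] (Fin n → F) :=
        { toFun := fun x => (x : Matrix (Fin n) (Fin n) F) *ᵥ v0
          map_add' := fun x y => Matrix.add_mulVec _ _ _
          map_smul' := fun c x => Matrix.smul_mulVec c _ _ }
      have hφinj : Function.Injective φ := by
        rw [← LinearMap.ker_eq_bot, LinearMap.ker_eq_bot']
        intro x hx0
        by_contra hne
        have hne' : (x : Matrix (Fin n) (Fin n) F) ≠ 0 := fun h => hne (Subtype.ext h)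
        obtain ⟨y, hy, hxy⟩ := hK.inv _ x.2 hne'
        apply h0
        have hyx : y * (x : Matrix (Fin n) (Fin n) F) = 1 := by rw [hK.comm y hy _ x.2]; exact hxy
        have : (x : Matrix (Fin n) (Fin n) F) *ᵥ v0 = 0 := hx0
        calc v0 = (y * (x : Matrix (Fin n) (Fin n) F)) *ᵥ v0 := by rw [hyx, Matrix.one_mulVec]
          _ = 0 := by rw [← Matrix.mulVec_mulVec, this, Matrix.mulVec_zero]
      have hrange : LinearMap.range φ = D0 := by
        apply Submodule.eq_of_le_of_finrank_eq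
        · rintro _ ⟨x, rfl⟩
          exact hst0 x.1 x.2 v0 hv0D
        · rw [LinearMap.finrank_range_of_inj hφinj, hK.finrank_eq, hr0]
      -- `v1` is orthogonal to everything
      have hall : ∀ w : Fin n → F, polarBilin hQ w v1 = 0 := by
        intro w
        rw [hsplit w]
        simp only [map_add, LinearMap.add_apply]
        have h1 : polarBilin hQ ((τ * ((1 - ρ) - θ)) *ᵥ w) v1 = 0 := by
          have hmem : (τ * ((1 - ρ) - θ)) *ᵥ w ∈ LinearMap.range φ := by rw [hrange]; exact hp0 w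
          obtain ⟨x, hx'⟩ := hmem
          rw [← hx']
          exact hx x.1 x.2
        rw [h1, hiso1 _ (hp1 w) v1 hv1D, add_zero]
      have hv10 : v1 = 0 := by
        by_contra hne
        obtain ⟨x, hx'⟩ := (hQ.nondegenerate v1 hne).1
        exact hx' (hall x)
      rw [hvv, hv10, add_zero]
      exact hv0D
  -- the decomposition
  have hD : IsMDecomposition r ![D0, D1] := by
    refine ⟨le_refl 2, hr, ?_, ?_, ?_⟩
    · intro i
      fin_cases i
      · exact hr0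
      · exact hr1
    · rw [iSupIndep_pair (i := (0 : Fin 2)) (j := 1) (by decide)
        (by intro k; fin_cases k; exact Or.inl rfl; exact Or.inr rfl)]
      exact disjoint_iff.2 hinf
    · apply le_antisymm le_top
      rw [← hsup]
      exact sup_le (le_iSup ![D0, D1] 0) (le_iSup ![D0, D1] 1)
  refine ⟨r, ![D0, D1], hD, ?_, ?_⟩
  · intro i
    fin_cases i
    · exact hts0
    · exact hts1
  -- `H` permutes `D0`, `D1`
  intro g hg
  have hgI := hH hg
  have hginvN := hle (H.inv_mem hg)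
  have hconj : ∀ z ∈ K, ((g⁻¹ : GL (Fin n) F) : Matrix (Fin n) (Fin n) F) * z * (g : Matrix (Fin n) (Fin n) F) ∈ K := by
    intro z hz
    have := (hginvN z).1 hz
    rwa [inv_inv] at this
  have hgQ : ∀ v : Fin n → F, Q ((g : Matrix (Fin n) (Fin n) F) *ᵥ v) = Q v := fun v => hgI v v
  -- `g` maps `{v | ∀ z ∈ K, Q (z v) = 0}` into itself
  have hgS : ∀ v : Fin n → F, (∀ z ∈ K, Q (z *ᵥ v) = 0) →
      ∀ z ∈ K, Q (z *ᵥ ((g : Matrix (Fin n) (Fin n) F) *ᵥ v)) = 0 := by
    intro v hv z hz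
    have e : z *ᵥ ((g : Matrix (Fin n) (Fin n) F) *ᵥ v) =
        (g : Matrix (Fin n) (Fin n) F) *ᵥ
          ((((g⁻¹ : GL (Fin n) F) : Matrix (Fin n) (Fin n) F) * z * (g : Matrix (Fin n) (Fin n) F)) *ᵥ v) := by
      rw [Matrix.mulVec_mulVec, Matrix.mulVec_mulVec, ← mul_assoc, ← mul_assoc, ← Units.val_mul,
        mul_inv_cancel, Units.val_one, one_mul]
    rw [e, hgQ]
    exact hv _ (hconj z hz)
  have hinS0 : ∀ v ∈ D0, ∀ z ∈ K, Q (z *ᵥ v) = 0 := fun v hv z hz => hts0 _ (hst0 z hz v hv)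
  have hinS1 : ∀ v ∈ D1, ∀ z ∈ K, Q (z *ᵥ v) = 0 := fun v hv z hz => hts1 _ (hst1 z hz v hv)
  have hginj : Function.Injective (Matrix.toLin' (g : Matrix (Fin n) (Fin n) F)) := by
    intro x y hxy
    rw [Matrix.toLin'_apply, Matrix.toLin'_apply] at hxy
    have := congrArg (fun w => ((g⁻¹ : GL (Fin n) F) : Matrix (Fin n) (Fin n) F) *ᵥ w) hxy
    simpa [Matrix.mulVec_mulVec, ← Units.val_mul] using this
  have hmapdim : ∀ W : Submodule F (Fin n → F),
      Module.finrank F (W.map (Matrix.toLin' (g : Matrix (Fin n) (Fin n) F))) = Module.finrank F W :=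
    fun W => (Submodule.equivMapOfInjective _ hginj W).finrank_eq.symm
  have hmap : ∀ W : Submodule F (Fin n → F), Module.finrank F W = r → (∀ v ∈ W, ∀ z ∈ K, Q (z *ᵥ v) = 0) →
      W.map (Matrix.toLin' (g : Matrix (Fin n) (Fin n) F)) = D0 ∨
      W.map (Matrix.toLin' (g : Matrix (Fin n) (Fin n) F)) = D1 := by
    intro W hW hWS
    have h1 : ∀ x ∈ W.map (Matrix.toLin' (g : Matrix (Fin n) (Fin n) F)), x ∈ D0 ∨ x ∈ D1 := by
      rintro _ ⟨v, hv, rfl⟩
      rw [Matrix.toLin'_apply]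
      exact hS _ (hgS v (hWS v hv))
    rcases le_or_le_of_forall_mem_or _ D0 D1 h1 with h | h
    · left
      exact Submodule.eq_of_le_of_finrank_eq h (by rw [hmapdim, hW, hr0])
    · right
      exact Submodule.eq_of_le_of_finrank_eq h (by rw [hmapdim, hW, hr1])
  have hne : D0 ≠ D1 := by
    intro h
    have : D0 = ⊥ := by rw [← hinf, ← h, inf_idem]
    rw [this, finrank_bot] at hr0
    omega
  have hmapne : D0.map (Matrix.toLin' (g : Matrix (Fin n) (Fin n) F)) ≠
      D1.map (Matrix.toLin' (g : Matrix (Fin n) (Fin n) F)) := fun h =>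
    hne (Submodule.map_injective_of_injective hginj h)
  rcases hmap D0 hr0 hinS0 with h0 | h0 <;> rcases hmap D1 hr1 hinS1 with h1 | h1
  · exact absurd (h0.trans h1.symm) hmapne
  · refine ⟨1, fun i => ?_⟩
    fin_cases i
    · exact h0
    · exact h1
  · refine ⟨Equiv.swap 0 1, fun i => ?_⟩
    fin_cases i
    · exact h0
    · exact h1
  · exact absurd (h0.trans h1.symm) hmapne

end Cfsg.Agent.Lib.Helper59.OeFieldHalfI
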