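import Mathlib

/-!
# The "polyhedral" Diophantine equation (helper59)

`g - 1 = ∑ o_i (a_i - 1)` with `o_i n_i a_i = g`, `n_i ∈ {1,2}`, `a_i ≥ 2`.
-/

set_option autoImplicit false

namespace Cfsg.Agent.Lib.Helper59

theorem poly_term_bound (g o a n : ℕ) (ha : 2 ≤ a) (hn : n = 1 ∨ n = 2) (ho : o * n * a = g) :
    g ≤ 4 * (o * (a - 1)) := by
  obtain ⟨a', rfl⟩ : ∃ a', a = a' + 1 := ⟨a - 1, by omega⟩
  have ha' : 1 ≤ a' := by omega
  simp only [Nat.add_sub_cancel]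
  have h1 : o ≤ o * a' := Nat.le_mul_of_pos_right o ha'
  rcases hn with rfl | rfl
  · have : o * 1 * (a' + 1) = o * a' + o := by ring
    omega
  · have : o * 2 * (a' + 1) = 2 * (o * a') + 2 * o := by ring
    omega

theorem poly_arith1 (g o a n : ℕ) (hg : 2 ≤ g) (ha : 2 ≤ a) (hn : n = 1 ∨ n = 2)
    (ho : o * n * a = g) (hs : o * (a - 1) = g - 1) : a = g := by
  obtain ⟨a', rfl⟩ : ∃ a', a = a' + 1 := ⟨a - 1, by omega⟩
  simp only [Nat.add_sub_cancel] at hs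
  rcases hn with rfl | rfl
  · have h1 : o * 1 * (a' + 1) = o * a' + o := by ring
    have ho1 : o = 1 := by omega
    subst ho1
    omega
  · have h1 : o * 2 * (a' + 1) = 2 * (o * a') + 2 * o := by ring
    have ho0 : o = 0 := by omega
    subst ho0
    omega

/-- two orbits, first with `n = 1`, second with `n = 2` -/
theorem poly_arith2_core (g o0 a0 o1 a1 : ℕ) (hg : 2 ≤ g) (ha0 : 2 ≤ a0) (ha1 : 2 ≤ a1)
    (ho0 : o0 * 1 * a0 = g) (ho1 : o1 * 2 * a1 = g)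
    (hs : o0 * (a0 - 1) + o1 * (a1 - 1) = g - 1) : g = 12 ∨ 2 * a1 = g := by
  obtain ⟨b0, rfl⟩ : ∃ b, a0 = b + 1 := ⟨a0 - 1, by omega⟩
  obtain ⟨b1, rfl⟩ : ∃ b, a1 = b + 1 := ⟨a1 - 1, by omega⟩
  simp only [Nat.add_sub_cancel] at hs
  have hb0 : 1 ≤ b0 := by omega
  have hb1 : 1 ≤ b1 := by omega
  have e0 : o0 * 1 * (b0 + 1) = o0 * b0 + o0 := by ring
  have e1 : o1 * 2 * (b1 + 1) = 2 * (o1 * b1) + 2 * o1 := by ring
  have l0 : o0 ≤ o0 * b0 := Nat.le_mul_of_pos_right o0 hb0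
  have l1 : o1 ≤ o1 * b1 := Nat.le_mul_of_pos_right o1 hb1
  have ho0pos : 0 < o0 := by
    rcases Nat.eq_zero_or_pos o0 with h | h
    · subst h; omega
    · exact h
  have hlt : o0 * b0 < o0 * 3 := by omega
  have hb0lt : b0 < 3 := Nat.lt_of_mul_lt_mul_left hlt
  interval_cases b0
  · -- b0 = 1
    right
    have ho1 : o1 = 1 := by omega
    subst ho1
    omega
  · -- b0 = 2
    left
    have hb1' : b1 < 2 := by
      by_contra hcon
      push Not at hcon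
      have : o1 * 2 ≤ o1 * b1 := Nat.mul_le_mul_left o1 hcon
      omega
    interval_cases b1
    omega

theorem poly_arith2 (g o0 a0 n0 o1 a1 n1 : ℕ) (hg : 2 ≤ g) (ha0 : 2 ≤ a0) (ha1 : 2 ≤ a1)
    (hn0 : n0 = 1 ∨ n0 = 2) (hn1 : n1 = 1 ∨ n1 = 2)
    (ho0 : o0 * n0 * a0 = g) (ho1 : o1 * n1 * a1 = g)
    (hs : o0 * (a0 - 1) + o1 * (a1 - 1) = g - 1) :
    g = 12 ∨ 2 * a0 = g ∨ 2 * a1 = g := by
  rcases hn0 with rfl | rfl <;> rcases hn1 with rfl | rfl
  · -- (1,1): impossible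
    exfalso
    obtain ⟨b0, rfl⟩ : ∃ b, a0 = b + 1 := ⟨a0 - 1, by omega⟩
    obtain ⟨b1, rfl⟩ : ∃ b, a1 = b + 1 := ⟨a1 - 1, by omega⟩
    simp only [Nat.add_sub_cancel] at hs
    have e0 : o0 * 1 * (b0 + 1) = o0 * b0 + o0 := by ring
    have e1 : o1 * 1 * (b1 + 1) = o1 * b1 + o1 := by ring
    have l0 : o0 ≤ o0 * b0 := Nat.le_mul_of_pos_right o0 (by omega)
    have l1 : o1 ≤ o1 * b1 := Nat.le_mul_of_pos_right o1 (by omega)
    omega
  · rcases poly_arith2_core g o0 a0 o1 a1 hg ha0 ha1 ho0 ho1 hs with h | h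
    · exact Or.inl h
    · exact Or.inr (Or.inr h)
  · rcases poly_arith2_core g o1 a1 o0 a0 hg ha1 ha0 ho1 ho0 (by rw [add_comm]; exact hs) with h | h
    · exact Or.inl h
    · exact Or.inr (Or.inl h)
  · -- (2,2): impossible
    exfalso
    obtain ⟨b0, rfl⟩ : ∃ b, a0 = b + 1 := ⟨a0 - 1, by omega⟩
    obtain ⟨b1, rfl⟩ : ∃ b, a1 = b + 1 := ⟨a1 - 1, by omega⟩
    simp only [Nat.add_sub_cancel] at hs
    have e0 : o0 * 2 * (b0 + 1) = 2 * (o0 * b0) + 2 * o0 := by ring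
    have e1 : o1 * 2 * (b1 + 1) = 2 * (o1 * b1) + 2 * o1 := by ring
    have h0 : o0 ≠ 0 := by rintro rfl; omega
    have h1 : o1 ≠ 0 := by rintro rfl; omega
    omega

/-- three orbits, all `n = 2`, with `a0 = 2` and `a1 ∈ {2,3}` -/
theorem poly_arith3_core (g o0 o1 a1 o2 a2 : ℕ) (hg : 2 ≤ g) (ha1 : a1 = 2 ∨ a1 = 3)
    (ha2 : 2 ≤ a2)
    (ho0 : o0 * 2 * 2 = g) (ho1 : o1 * 2 * a1 = g) (ho2 : o2 * 2 * a2 = g)
    (hs : o0 * (2 - 1) + o1 * (a1 - 1) + o2 * (a2 - 1) = g - 1) :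
    g = 12 ∨ g = 24 ∨ g = 60 ∨ 2 * a2 = g := by
  obtain ⟨b2, rfl⟩ : ∃ b, a2 = b + 1 := ⟨a2 - 1, by omega⟩
  simp only [Nat.add_sub_cancel] at hs
  have e2 : o2 * 2 * (b2 + 1) = 2 * (o2 * b2) + 2 * o2 := by ring
  rcases ha1 with rfl | rfl
  · -- a1 = 2
    right; right; right
    have h2 : o2 = 1 := by omega
    subst h2
    omega
  · -- a1 = 3
    have h3 : 3 * o1 = 2 * o0 := by omega
    obtain ⟨s, rfl⟩ : ∃ s, o1 = 2 * s := ⟨o1 / 2, by omega⟩
    have h0 : o0 = 3 * s := by omega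
    subst h0
    have ho2' : o2 = s + 1 := by omega
    subst ho2'
    have hmain : (s + 1) * b2 = 5 * s - 1 := by omega
    have hs1 : 1 ≤ s := by omega
    have hb2 : b2 < 5 := by
      by_contra hcon
      push Not at hcon
      have : (s + 1) * 5 ≤ (s + 1) * b2 := Nat.mul_le_mul_left _ hcon
      omega
    have hb2' : 1 ≤ b2 := by omega
    interval_cases b2
    · exfalso; omega
    · left; omega
    · right; left; omega
    · right; right; left; omega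

theorem poly_arith3 (g o0 a0 n0 o1 a1 n1 o2 a2 n2 : ℕ) (hg : 2 ≤ g)
    (ha0 : 2 ≤ a0) (ha1 : 2 ≤ a1) (ha2 : 2 ≤ a2)
    (hn0 : n0 = 1 ∨ n0 = 2) (hn1 : n1 = 1 ∨ n1 = 2) (hn2 : n2 = 1 ∨ n2 = 2)
    (ho0 : o0 * n0 * a0 = g) (ho1 : o1 * n1 * a1 = g) (ho2 : o2 * n2 * a2 = g)
    (hs : o0 * (a0 - 1) + o1 * (a1 - 1) + o2 * (a2 - 1) = g - 1) :
    g = 12 ∨ g = 24 ∨ g = 60 ∨ 2 * a0 = g ∨ 2 * a1 = g ∨ 2 * a2 = g := by
  have t0 := poly_term_bound g o0 a0 n0 ha0 hn0 ho0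
  have t1 := poly_term_bound g o1 a1 n1 ha1 hn1 ho1
  have t2 := poly_term_bound g o2 a2 n2 ha2 hn2 ho2
  -- no `n = 1`
  have key : ∀ (o a : ℕ), 2 ≤ a → o * 1 * a = g → 2 * o ≤ g := by
    intro o a ha ho
    have : o * 2 ≤ o * a := Nat.mul_le_mul_left o ha
    rw [mul_one] at ho
    omega
  have key2 : ∀ (o a : ℕ), 2 ≤ a → o * 1 * a = g → o * (a - 1) + o = g := by
    intro o a ha ho
    obtain ⟨b, rfl⟩ : ∃ b, a = b + 1 := ⟨a - 1, by omega⟩
    simp only [Nat.add_sub_cancel]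
    rw [← ho]; ring
  have hn0' : n0 = 2 := by
    rcases hn0 with rfl | h
    · exfalso
      have := key o0 a0 ha0 ho0
      have := key2 o0 a0 ha0 ho0
      omega
    · exact h
  have hn1' : n1 = 2 := by
    rcases hn1 with rfl | h
    · exfalso
      have := key o1 a1 ha1 ho1
      have := key2 o1 a1 ha1 ho1
      omega
    · exact h
  have hn2' : n2 = 2 := by
    rcases hn2 with rfl | h
    · exfalso
      have := key o2 a2 ha2 ho2
      have := key2 o2 a2 ha2 ho2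
      omega
    · exact h
  subst hn0' hn1' hn2'
  -- p_i + o_i = m
  have exp : ∀ (o a : ℕ), 2 ≤ a → o * 2 * a = g → 2 * (o * (a - 1)) + 2 * o = g := by
    intro o a ha ho
    obtain ⟨b, rfl⟩ : ∃ b, a = b + 1 := ⟨a - 1, by omega⟩
    simp only [Nat.add_sub_cancel]
    rw [← ho]; ring
  have x0 := exp o0 a0 ha0 ho0
  have x1 := exp o1 a1 ha1 ho1
  have x2 := exp o2 a2 ha2 ho2
  -- lower bounds p_i ≥ (a_i - 1) o_i
  have lb : ∀ (o a c : ℕ), c + 1 ≤ a → o * c ≤ o * (a - 1) := by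
    intro o a c hc
    exact Nat.mul_le_mul_left o (by omega)
  -- some a_i = 2
  have hex2 : a0 = 2 ∨ a1 = 2 ∨ a2 = 2 := by
    by_contra hcon
    push Not at hcon
    have := lb o0 a0 2 (by omega)
    have := lb o1 a1 2 (by omega)
    have := lb o2 a2 2 (by omega)
    omega
  -- helper for "some of the other two is ≤ 3"
  have hex3 : ∀ (oi oj ok aj ak : ℕ), 2 ≤ aj → 2 ≤ ak → oi * 2 * 2 = g → oj * 2 * aj = g →
      ok * 2 * ak = g → oi * (2 - 1) + oj * (aj - 1) + ok * (ak - 1) = g - 1 →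
      (aj = 2 ∨ aj = 3) ∨ (ak = 2 ∨ ak = 3) := by
    intro oi oj ok aj ak haj hak hoi hoj hok hsum
    by_contra hcon
    push Not at hcon
    have := lb oj aj 3 (by omega)
    have := lb ok ak 3 (by omega)
    have := exp oj aj haj hoj
    have := exp ok ak hak hok
    omega
  rcases hex2 with rfl | rfl | rfl
  · rcases hex3 o0 o1 o2 a1 a2 ha1 ha2 ho0 ho1 ho2 hs with h | h
    · rcases poly_arith3_core g o0 o1 a1 o2 a2 hg h ha2 ho0 ho1 ho2 hs with h | h | h | h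
      · exact Or.inl h
      · exact Or.inr (Or.inl h)
      · exact Or.inr (Or.inr (Or.inl h))
      · exact Or.inr (Or.inr (Or.inr (Or.inr (Or.inr h))))
    · rcases poly_arith3_core g o0 o2 a2 o1 a1 hg h ha1 ho0 ho2 ho1 (by omega) with h | h | h | h
      · exact Or.inl h
      · exact Or.inr (Or.inl h)
      · exact Or.inr (Or.inr (Or.inl h))
      · exact Or.inr (Or.inr (Or.inr (Or.inr (Or.inl h))))
  · rcases hex3 o1 o0 o2 a0 a2 ha0 ha2 ho1 ho0 ho2 (by omega) with h | h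
    · rcases poly_arith3_core g o1 o0 a0 o2 a2 hg h ha2 ho1 ho0 ho2 (by omega) with h | h | h | h
      · exact Or.inl h
      · exact Or.inr (Or.inl h)
      · exact Or.inr (Or.inr (Or.inl h))
      · exact Or.inr (Or.inr (Or.inr (Or.inr (Or.inr h))))
    · rcases poly_arith3_core g o1 o2 a2 o0 a0 hg h ha0 ho1 ho2 ho0 (by omega) with h | h | h | h
      · exact Or.inl h
      · exact Or.inr (Or.inl h)
      · exact Or.inr (Or.inr (Or.inl h))
      · exact Or.inr (Or.inr (Or.inr (Or.inl h)))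
  · rcases hex3 o2 o0 o1 a0 a1 ha0 ha1 ho2 ho0 ho1 (by omega) with h | h
    · rcases poly_arith3_core g o2 o0 a0 o1 a1 hg h ha1 ho2 ho0 ho1 (by omega) with h | h | h | h
      · exact Or.inl h
      · exact Or.inr (Or.inl h)
      · exact Or.inr (Or.inr (Or.inl h))
      · exact Or.inr (Or.inr (Or.inr (Or.inr (Or.inl h))))
    · rcases poly_arith3_core g o2 o1 a1 o0 a0 hg h ha0 ho2 ho1 ho0 (by omega) with h | h | h | h
      · exact Or.inl h
      · exact Or.inr (Or.inl h)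
      · exact Or.inr (Or.inr (Or.inl h))
      · exact Or.inr (Or.inr (Or.inr (Or.inl h)))

/-- The polyhedral equation over an arbitrary finite index type. -/
theorem polyhedral_arith {Q : Type*} [Fintype Q] (g : ℕ) (o a n : Q → ℕ) (hg : 2 ≤ g)
    (ha : ∀ q, 2 ≤ a q) (hn : ∀ q, n q = 1 ∨ n q = 2) (ho : ∀ q, o q * n q * a q = g)
    (hsum : ∑ q, o q * (a q - 1) = g - 1) :
    g = 12 ∨ g = 24 ∨ g = 60 ∨ ∃ q, a q = g ∨ 2 * a q = g := by
  classical
  have hbound : Fintype.card Q * g ≤ 4 * (g - 1) := by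
    calc Fintype.card Q * g = ∑ _q : Q, g := by
          rw [Finset.sum_const, Finset.card_univ, smul_eq_mul]
      _ ≤ ∑ q, 4 * (o q * (a q - 1)) :=
          Finset.sum_le_sum fun q _ => poly_term_bound g (o q) (a q) (n q) (ha q) (hn q) (ho q)
      _ = 4 * (g - 1) := by rw [← Finset.mul_sum, hsum]
  have hk3 : Fintype.card Q ≤ 3 := by
    by_contra hcon
    push Not at hcon
    have : 4 * g ≤ Fintype.card Q * g := Nat.mul_le_mul_right g hcon
    omega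
  have hk1 : 1 ≤ Fintype.card Q := by
    rcases Nat.eq_zero_or_pos (Fintype.card Q) with h | h
    · exfalso
      have : IsEmpty Q := Fintype.card_eq_zero_iff.mp h
      rw [Finset.univ_eq_empty, Finset.sum_empty] at hsum
      omega
    · exact h
  obtain ⟨k, hk⟩ : ∃ k, Fintype.card Q = k := ⟨_, rfl⟩
  have e : Q ≃ Fin k := (Fintype.equivFin Q).trans (finCongr hk)
  have hsum' : ∑ i : Fin k, o (e.symm i) * (a (e.symm i) - 1) = g - 1 := by
    rw [← hsum]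
    exact Fintype.sum_equiv e.symm _ _ (fun i => rfl)
  rw [hk] at hk3 hk1
  interval_cases k
  · -- k = 1
    rw [Fin.sum_univ_one] at hsum'
    have := poly_arith1 g _ _ _ hg (ha (e.symm 0)) (hn (e.symm 0)) (ho (e.symm 0)) hsum'
    exact Or.inr (Or.inr (Or.inr ⟨e.symm 0, Or.inl this⟩))
  · -- k = 2
    rw [Fin.sum_univ_two] at hsum'
    rcases poly_arith2 g _ _ _ _ _ _ hg (ha (e.symm 0)) (ha (e.symm 1)) (hn (e.symm 0))
      (hn (e.symm 1)) (ho (e.symm 0)) (ho (e.symm 1)) hsum' with h | h | h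
    · exact Or.inl h
    · exact Or.inr (Or.inr (Or.inr ⟨e.symm 0, Or.inr h⟩))
    · exact Or.inr (Or.inr (Or.inr ⟨e.symm 1, Or.inr h⟩))
  · -- k = 3
    rw [Fin.sum_univ_three] at hsum'
    rcases poly_arith3 g _ _ _ _ _ _ _ _ _ hg (ha (e.symm 0)) (ha (e.symm 1)) (ha (e.symm 2))
      (hn (e.symm 0)) (hn (e.symm 1)) (hn (e.symm 2)) (ho (e.symm 0)) (ho (e.symm 1))
      (ho (e.symm 2)) hsum' with h | h | h | h | h | h
    · exact Or.inl h
    · exact Or.inr (Or.inl h)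
    · exact Or.inr (Or.inr (Or.inl h))
    · exact Or.inr (Or.inr (Or.inr ⟨e.symm 0, Or.inr h⟩))
    · exact Or.inr (Or.inr (Or.inr ⟨e.symm 1, Or.inr h⟩))
    · exact Or.inr (Or.inr (Or.inr ⟨e.symm 2, Or.inr h⟩))

end Cfsg.Agent.Lib.Helper59
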