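import Mathlib

set_option autoImplicit false
set_option linter.unusedSectionVars false

/-!
# Permutations `σ` with `σ ^ r = 1`, `r` prime (helper59)

cycle type, conjugacy, existence, restriction to an invariant set, transport along an equivalence
-/

namespace Cfsg.Agent.Lib.Helper59

open Equiv

section PrimePow

variable {α : Type*} [Fintype α] [DecidableEq α]

/-- the cycle type of a permutation killed by the prime `r` -/
theorem cycleType_of_pow_prime {r : ℕ} (hr : r.Prime) {σ : Perm α} (hσ : σ ^ r = 1) :
    σ.cycleType = Multiset.replicate (Multiset.card σ.cycleType) r := by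
  rw [Multiset.eq_replicate]
  refine ⟨rfl, fun n hn => ?_⟩
  have h1 : n ∣ r := (Perm.dvd_of_mem_cycleType hn).trans (orderOf_dvd_of_pow_eq_one hσ)
  have h2 : 2 ≤ n := Perm.two_le_of_mem_cycleType hn
  rcases (Nat.dvd_prime hr).mp h1 with h | h
  · omega
  · exact h

/-- the support of a permutation killed by the prime `r` has `r * (number of cycles)` elements -/
theorem card_support_of_pow_prime {r : ℕ} (hr : r.Prime) {σ : Perm α} (hσ : σ ^ r = 1) :
    σ.support.card = r * Multiset.card σ.cycleType := by
  rw [← Perm.sum_cycleType, cycleType_of_pow_prime hr hσ, Multiset.sum_replicate,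
    Multiset.card_replicate, smul_eq_mul, mul_comm]

theorem dvd_card_support_of_pow_prime {r : ℕ} (hr : r.Prime) {σ : Perm α} (hσ : σ ^ r = 1) :
    r ∣ σ.support.card := ⟨_, card_support_of_pow_prime hr hσ⟩

/-- two permutations killed by the prime `r` with supports of the same size are conjugate -/
theorem isConj_of_pow_prime {r : ℕ} (hr : r.Prime) {σ τ : Perm α} (hσ : σ ^ r = 1)
    (hτ : τ ^ r = 1) (h : σ.support.card = τ.support.card) : IsConj σ τ := by
  rw [Perm.isConj_iff_cycleType_eq, cycleType_of_pow_prime hr hσ, cycleType_of_pow_prime hr hτ]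
  have h1 := card_support_of_pow_prime hr hσ
  have h2 := card_support_of_pow_prime hr hτ
  have h3 : Multiset.card σ.cycleType = Multiset.card τ.cycleType := by
    have : r * Multiset.card σ.cycleType = r * Multiset.card τ.cycleType := by
      rw [← h1, ← h2, h]
    exact Nat.eq_of_mul_eq_mul_left hr.pos this
  rw [h3]

/-- a permutation killed by the prime `r` with a support of any size `r * c ≤ card α` -/
theorem exists_pow_prime_card_support {r : ℕ} (hr : r.Prime) (c : ℕ)
    (hc : r * c ≤ Fintype.card α) :
    ∃ τ : Perm α, τ ^ r = 1 ∧ τ.support.card = r * c := by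
  obtain ⟨τ, hτ⟩ := (Perm.exists_with_cycleType_iff (α := α)
    (m := Multiset.replicate c r)).mpr ⟨by
      rw [Multiset.sum_replicate, smul_eq_mul, mul_comm]; exact hc, fun n hn => by
      rw [Multiset.eq_of_mem_replicate hn]; exact hr.two_le⟩
  refine ⟨τ, ?_, ?_⟩
  · rw [← orderOf_dvd_iff_pow_eq_one, ← Perm.lcm_cycleType, hτ]
    exact Multiset.lcm_dvd.mpr fun n hn => by rw [Multiset.eq_of_mem_replicate hn]
  · rw [← Perm.sum_cycleType, hτ, Multiset.sum_replicate, smul_eq_mul, mul_comm]

/-- the part of a permutation on an invariant set -/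
def restrictPerm (σ : Perm α) (p : α → Prop) [DecidablePred p] (h : ∀ x, p (σ x) ↔ p x) :
    Perm α :=
  Perm.ofSubtype (σ.subtypePerm h)

theorem restrictPerm_apply (σ : Perm α) (p : α → Prop) [DecidablePred p]
    (h : ∀ x, p (σ x) ↔ p x) (x : α) :
    restrictPerm σ p h x = if p x then σ x else x := by
  unfold restrictPerm
  by_cases hx : p x
  · rw [if_pos hx, Perm.ofSubtype_apply_of_mem _ hx, Perm.subtypePerm_apply]
  · rw [if_neg hx, Perm.ofSubtype_apply_of_not_mem _ hx]

theorem restrictPerm_pow (σ : Perm α) (p : α → Prop) [DecidablePred p]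
    (h : ∀ x, p (σ x) ↔ p x) {r : ℕ} (hσ : σ ^ r = 1) : restrictPerm σ p h ^ r = 1 := by
  unfold restrictPerm
  rw [← map_pow, Perm.subtypePerm_pow]
  have : (σ ^ r).subtypePerm (p := p) (by intro x; rw [hσ]; exact Iff.rfl) = 1 := by
    ext x
    simp [hσ]
  rw [this, map_one]

theorem support_restrictPerm (σ : Perm α) (p : α → Prop) [DecidablePred p]
    (h : ∀ x, p (σ x) ↔ p x) :
    (restrictPerm σ p h).support = σ.support.filter p := by
  ext x
  rw [Perm.mem_support, restrictPerm_apply, Finset.mem_filter, Perm.mem_support]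
  by_cases hx : p x
  · simp [hx]
  · simp [hx]

/-- the moved points of `σ` (killed by the prime `r`) in an invariant set: a multiple of `r` -/
theorem dvd_card_support_filter {r : ℕ} (hr : r.Prime) {σ : Perm α} (hσ : σ ^ r = 1)
    (p : α → Prop) [DecidablePred p] (h : ∀ x, p (σ x) ↔ p x) :
    r ∣ (σ.support.filter p).card := by
  rw [← support_restrictPerm σ p h]
  exact dvd_card_support_of_pow_prime hr (restrictPerm_pow σ p h hσ)

end PrimePow

section Transport

variable {α β : Type*} [Fintype α] [DecidableEq α] [Fintype β] [DecidableEq β]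

theorem card_support_permCongr (e : α ≃ β) (σ : Perm α) :
    (e.permCongr σ).support.card = σ.support.card := by
  have : (e.permCongr σ).support = σ.support.map e.toEmbedding := by
    ext x
    rw [Perm.mem_support, Finset.mem_map_equiv, Perm.mem_support, Equiv.permCongr_apply]
    constructor
    · intro h1 h2
      apply h1
      rw [h2, Equiv.apply_symm_apply]
    · intro h1 h2
      apply h1
      have := congrArg e.symm h2
      rwa [Equiv.symm_apply_apply] at this
  rw [this, Finset.card_map]

theorem permCongr_pow (e : α ≃ β) (σ : Perm α) (n : ℕ) :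
    (e.permCongr σ) ^ n = e.permCongr (σ ^ n) := by
  induction n with
  | zero =>
    ext x
    simp
  | succ n ih =>
    rw [pow_succ, pow_succ, ih]
    ext x
    simp [Equiv.permCongr_apply]

/-- two permutations killed by the prime `r`, on equinumerous sets, with supports of the same
size, are intertwined by a bijection -/
theorem exists_equiv_of_pow_prime {r : ℕ} (hr : r.Prime) {σ : Perm α} {τ : Perm β}
    (e : α ≃ β) (hσ : σ ^ r = 1) (hτ : τ ^ r = 1) (h : σ.support.card = τ.support.card) :
    ∃ g : β ≃ α, ∀ x, g (τ x) = σ (g x) := by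
  have h1 : (e.permCongr σ) ^ r = 1 := by
    rw [permCongr_pow, hσ]
    ext x
    simp
  have h2 : (e.permCongr σ).support.card = τ.support.card := by
    rw [card_support_permCongr, h]
  obtain ⟨c, hc⟩ := isConj_iff.mp (isConj_of_pow_prime hr hτ h1 h2.symm)
  -- c * τ * c⁻¹ = e.permCongr σ
  refine ⟨(c : Perm β).trans e.symm, fun x => ?_⟩
  have h3 : c (τ x) = e (σ (e.symm (c x))) := by
    have := congrArg (fun f : Perm β => f (c x)) hc
    simpa [Equiv.permCongr_apply] using this
  simp only [Equiv.trans_apply]
  rw [h3, Equiv.symm_apply_apply]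

end Transport

end Cfsg.Agent.Lib.Helper59
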