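import Mathlib
import Cfsg.Agent.Lib.Helper59.TwoTransNormal
import Cfsg.Agent.Lib.Helper59.DerIndex
import Cfsg.Agent.Lib.Helper59.PrimePow
import Cfsg.Agent.Lib.Helper59.TwoTransSimple

set_option autoImplicit false

/-!
# 2-transitive groups of degree `n ≡ 2 mod 4` (helper59)

Aschbacher: every non-trivial normal subgroup `N` of a 2-transitive group of degree `n ≡ 2 mod 4`
is 2-transitive. Proof: a Sylow 2-subgroup `Q` of `N_α` fixes exactly two points (Witt's lemma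
makes `N_G(Q)` 2-transitive on `Fix(Q)`; a sign argument on `Fix(Q)` shows `|Fix(Q)| = 2`),
and Sylow conjugacy in `N_α` then moves the second fixed point anywhere.
-/

namespace Cfsg.Agent.Lib.Helper59

open MulAction
open scoped Pointwise

section General

variable {G : Type*} [Group G]

theorem card_mul_relIndex_of_le {H K : Subgroup G} (h : H ≤ K) :
    Nat.card H * H.relIndex K = Nat.card K := by
  have := Subgroup.relIndex_mul_relIndex ⊥ H K bot_le h
  rwa [Subgroup.relIndex_bot_left, Subgroup.relIndex_bot_left] at this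

/-- orbit-stabilizer for an (elementwise) transitive subgroup -/
theorem card_eq_card_mul_card_inf_stabilizer {Ω : Type*} [MulAction G Ω] (N : Subgroup G)
    (hNt : STrans Ω N) (γ : Ω) :
    Nat.card N = Nat.card Ω * Nat.card ↥(N ⊓ stabilizer G γ) := by
  have h1 : Nat.card (orbit ↥N γ) = (stabilizer G γ).relIndex N :=
    card_orbit_subgroup_eq_relIndex N γ
  have h2 : orbit ↥N γ = Set.univ := by
    apply Set.eq_univ_of_forall
    intro b
    obtain ⟨m, hm, hmb⟩ := hNt γ b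
    exact ⟨⟨m, hm⟩, hmb⟩
  rw [h2, Nat.card_coe_set_eq, Set.ncard_univ] at h1
  have h3 := card_mul_relIndex_of_le (inf_le_left : N ⊓ stabilizer G γ ≤ N)
  rw [Subgroup.inf_relIndex_left, ← h1] at h3
  rw [← h3, mul_comm]

/-- Sylow conjugacy, elementwise, for two subgroups of maximal `p`-power order in `H`. -/
theorem exists_conj_of_card_eq {p : ℕ} [hp : Fact p.Prime] (H R R' : Subgroup G) [Finite H]
    (hR : R ≤ H) (hR' : R' ≤ H) (k : ℕ)
    (hk : Nat.card R = p ^ k) (hk' : Nat.card R' = p ^ k) (hH : ¬ p ^ (k + 1) ∣ Nat.card H) :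
    ∃ h ∈ H, ∀ x, x ∈ R ↔ h * x * h⁻¹ ∈ R' := by
  have hpos : Nat.card H ≠ 0 := Nat.card_pos.ne'
  have hf : (Nat.card H).factorization p = k := by
    apply le_antisymm
    · by_contra hcon
      push Not at hcon
      apply hH
      exact (hp.out.pow_dvd_iff_le_factorization hpos).mpr hcon
    · apply (hp.out.pow_dvd_iff_le_factorization hpos).mp
      rw [← hk]
      exact Subgroup.card_dvd_of_le hR
  have c1 : Nat.card (R.subgroupOf H) = p ^ (Nat.card H).factorization p := by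
    rw [hf, ← hk]
    exact Nat.card_congr (Subgroup.subgroupOfEquivOfLe hR).toEquiv
  have c2 : Nat.card (R'.subgroupOf H) = p ^ (Nat.card H).factorization p := by
    rw [hf, ← hk']
    exact Nat.card_congr (Subgroup.subgroupOfEquivOfLe hR').toEquiv
  let S : Sylow p H := Sylow.ofCard (R.subgroupOf H) c1
  let S' : Sylow p H := Sylow.ofCard (R'.subgroupOf H) c2
  obtain ⟨h, hh⟩ := MulAction.exists_smul_eq H S S'
  refine ⟨h, h.2, fun x => ?_⟩
  have key : ∀ y : H, y ∈ (S' : Subgroup H) ↔ h⁻¹ * y * h ∈ (S : Subgroup H) := by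
    intro y
    rw [← hh, Sylow.coe_subgroup_smul, Subgroup.mem_pointwise_smul_iff_inv_smul_mem,
      MulAut.smul_def, ← map_inv, MulAut.conj_apply, inv_inv]
  constructor
  · intro hx
    have hxH : x ∈ H := hR hx
    have hy : (⟨h * x * h⁻¹, H.mul_mem (H.mul_mem h.2 hxH) (H.inv_mem h.2)⟩ : H) ∈ (S' : Subgroup H) := by
      rw [key]
      show _ ∈ R.subgroupOf H
      rw [Subgroup.mem_subgroupOf]
      simp only [Subgroup.coe_mul, Subgroup.coe_inv]
      have : (h : G)⁻¹ * ((h : G) * x * (h : G)⁻¹) * (h : G) = x := by group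
      rw [this]; exact hx
    exact hy
  · intro hx
    have hxH : h * x * h⁻¹ ∈ H := hR' hx
    have hy : (⟨h * x * h⁻¹, hxH⟩ : H) ∈ (S' : Subgroup H) := by
      show _ ∈ R'.subgroupOf H
      rw [Subgroup.mem_subgroupOf]
      exact hx
    rw [key] at hy
    have hy' : (h⁻¹ * ⟨h * x * h⁻¹, hxH⟩ * h : H) ∈ R.subgroupOf H := hy
    rw [Subgroup.mem_subgroupOf] at hy'
    simp only [Subgroup.coe_mul, Subgroup.coe_inv] at hy'
    have : (h : G)⁻¹ * ((h : G) * x * (h : G)⁻¹) * (h : G) = x := by group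
    rwa [this] at hy'

end General

section Abstract

variable {K : Type*} [Group K]

theorem card_eq_two_mul_card_inf_ker (ψ : K →* ℤˣ) (B : Subgroup K) (z : K) (hz : z ∈ B)
    (hψ : ψ z ≠ 1) : Nat.card B = 2 * Nat.card ↥(B ⊓ ψ.ker) := by
  have h1 := card_mul_relIndex_of_le (inf_le_left : B ⊓ ψ.ker ≤ B)
  rw [Subgroup.inf_relIndex_left, Subgroup.relIndex_ker] at h1
  have h2 : B.map ψ = ⊤ := by
    rw [eq_top_iff]
    intro u _
    rcases Int.units_eq_one_or u with hu | hu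
    · rw [hu]; exact Subgroup.one_mem _
    · have hz1 : ψ z = -1 := (Int.units_eq_one_or (ψ z)).resolve_left hψ
      rw [hu, ← hz1]
      exact Subgroup.mem_map_of_mem ψ hz
  have h3 : Nat.card ↥(B.map ψ) = 2 := by
    rw [h2, Nat.card_congr Subgroup.topEquiv.toEquiv, Nat.card_eq_fintype_card]
    rfl
  rw [h3] at h1
  omega

variable [Finite K] {X : Type*} [Finite X] [MulAction K X]

omit [Finite K] in
theorem subsingleton_of_sylow_data
    (h2 : ∀ a b c d : X, a ≠ b → c ≠ d → ∃ g : K, g • a = c ∧ g • b = d)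
    (L Q : Subgroup K) [hLn : L.Normal] (hQL : Q ≤ L)
    (hQ : ∀ q ∈ Q, ∀ a : X, q • a = a)
    (hLt : ∀ a b : X, ∃ l ∈ L, l • a = b)
    (x : K) (hxL : x ∈ L) (hxf : ∀ a : X, x • a ≠ a) (hxx : ∀ a : X, x • x • a = a)
    (k : ℕ) (hk : Nat.card Q = 2 ^ k) (hL : ¬ 2 ^ (k + 2) ∣ Nat.card L)
    (hst : ∀ a : X, ¬ 2 ^ (k + 1) ∣ Nat.card ↥(L ⊓ stabilizer K a)) :
    ∀ a b c : X, b ≠ a → c ≠ a → b = c := by
  classical
  have : Fintype X := Fintype.ofFinite X
  intro a b c hba hca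
  let ψ : K →* ℤˣ := Equiv.Perm.sign.comp (MulAction.toPermHom K X)
  have hψ : ∀ g : K, ψ g = Equiv.Perm.sign (MulAction.toPerm g : Equiv.Perm X) := fun g => rfl
  -- the permutation induced by `x`
  set σ : Equiv.Perm X := MulAction.toPerm x with hσ
  have hσ2 : σ ^ 2 = 1 := by
    ext y
    rw [pow_two, Equiv.Perm.mul_apply, Equiv.Perm.one_apply]
    exact hxx y
  have hsupp : σ.support = Finset.univ := by
    ext y
    simp only [Equiv.Perm.mem_support, Finset.mem_univ, iff_true]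
    exact hxf y
  have hcs := card_support_of_pow_prime Nat.prime_two hσ2
  rw [hsupp, Finset.card_univ] at hcs
  -- 2-adic information on `card X`
  have hLstrans : STrans X L := hLt
  have hcardL := card_eq_card_mul_card_inf_stabilizer L hLstrans a
  have hQle : Q ≤ L ⊓ stabilizer K a := by
    intro q hq
    exact ⟨hQL hq, mem_stabilizer_iff.mpr (hQ q hq a)⟩
  have hQdvd : 2 ^ k ∣ Nat.card ↥(L ⊓ stabilizer K a) := by
    rw [← hk]; exact Subgroup.card_dvd_of_le hQle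
  have hXcard : Nat.card X = Fintype.card X := Nat.card_eq_fintype_card
  have hodd : Odd (Multiset.card σ.cycleType) := by
    by_contra hcon
    rw [Nat.not_odd_iff_even] at hcon
    obtain ⟨t, ht⟩ := hcon
    apply hL
    rw [hcardL, hXcard, hcs, ht]
    obtain ⟨u, hu⟩ := hQdvd
    rw [hu]
    exact ⟨t * u, by ring⟩
  have hψx : ψ x = -1 := by
    rw [hψ, ← hσ, Equiv.Perm.sign_of_cycleType, Equiv.Perm.sum_cycleType, hsupp, Finset.card_univ, hcs]
    have : Odd (2 * Multiset.card σ.cycleType + Multiset.card σ.cycleType) := by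
      obtain ⟨t, ht⟩ := hodd
      exact ⟨3 * t + 1, by omega⟩
    exact this.neg_one_pow
  have hψQ : ∀ q ∈ Q, ψ q = 1 := by
    intro q hq
    rw [hψ]
    have : (MulAction.toPerm q : Equiv.Perm X) = 1 := by
      ext y
      exact hQ q hq y
    rw [this, Equiv.Perm.sign_one]
  have hpm : ∀ g : K, ψ g ≠ 1 → ψ g = -1 := fun g hg => (Int.units_eq_one_or _).resolve_left hg
  by_cases hA : ∃ y ∈ L, ψ y = 1 ∧ ∃ a₀ : X, y • a₀ ≠ a₀
  · exfalso
    obtain ⟨y₀, hy₀L, hy₀ψ, a₀, hy₀a⟩ := hA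
    obtain ⟨g, hga, hgb⟩ := h2 a₀ (y₀ • a₀) a (x • a) (fun h => hy₀a h.symm) (fun h => hxf a h.symm)
    have hyL : g * y₀ * g⁻¹ ∈ L := hLn.conj_mem y₀ hy₀L g
    have hyψ : ψ (g * y₀ * g⁻¹) = 1 := by
      rw [map_mul, map_mul, map_inv, hy₀ψ, mul_one, mul_inv_cancel]
    have hya : (g * y₀ * g⁻¹) • a = x • a := by
      have : g⁻¹ • a = a₀ := by rw [inv_smul_eq_iff, hga]
      rw [mul_smul, mul_smul, this, hgb]
    set z := (g * y₀ * g⁻¹)⁻¹ * x with hz
    have hzL : z ∈ L := L.mul_mem (L.inv_mem hyL) hxL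
    have hza : z • a = a := by
      rw [hz, mul_smul, inv_smul_eq_iff, hya]
    have hzψ : ψ z ≠ 1 := by
      rw [hz, map_mul, map_inv, hyψ, hψx]
      decide
    have hzB : z ∈ L ⊓ stabilizer K a := ⟨hzL, mem_stabilizer_iff.mpr hza⟩
    have hidx := card_eq_two_mul_card_inf_ker ψ (L ⊓ stabilizer K a) z hzB hzψ
    have hQle' : Q ≤ (L ⊓ stabilizer K a) ⊓ ψ.ker := by
      intro q hq
      exact ⟨hQle hq, MonoidHom.mem_ker.mpr (hψQ q hq)⟩
    have hQdvd' : 2 ^ k ∣ Nat.card ↥((L ⊓ stabilizer K a) ⊓ ψ.ker) := by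
      rw [← hk]; exact Subgroup.card_dvd_of_le hQle'
    apply hst a
    rw [hidx, pow_succ, mul_comm]
    exact Nat.mul_dvd_mul_left 2 hQdvd'
  · push Not at hA
    obtain ⟨l₁, hl₁, hl₁a⟩ := hLt a b
    obtain ⟨l₂, hl₂, hl₂a⟩ := hLt a c
    have h1 : ψ l₁ = -1 := by
      apply hpm
      intro h
      apply hba
      rw [← hl₁a]
      exact hA l₁ hl₁ h a
    have h2' : ψ l₂ = -1 := by
      apply hpm
      intro h
      apply hca
      rw [← hl₂a]
      exact hA l₂ hl₂ h a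
    have h3 : ψ (l₁⁻¹ * l₂) = 1 := by
      rw [map_mul, map_inv, h1, h2']
      decide
    have h4 := hA (l₁⁻¹ * l₂) (L.mul_mem (L.inv_mem hl₁) hl₂) h3 a
    rw [mul_smul, inv_smul_eq_iff] at h4
    rw [← hl₁a, ← hl₂a, h4]

end Abstract


section Concrete

variable {G : Type*} [Group G] {Ω : Type*} [MulAction G Ω]

/-- the fixed points of `Q`, acted on by the normalizer of `Q` -/
def fixSub (Ω : Type*) [MulAction G Ω] (Q : Subgroup G) :
    SubMulAction ↥(Subgroup.normalizer (Q : Set G)) Ω where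
  carrier := {γ | ∀ q ∈ Q, q • γ = γ}
  smul_mem' := by
    intro g γ hγ q hq
    have hg := (Subgroup.mem_normalizer_iff''.mp g.2 q).mp hq
    have h1 := hγ _ hg
    show q • ((g : G) • γ) = (g : G) • γ
    calc q • ((g : G) • γ) = (g : G) • (((g : G)⁻¹ * q * g) • γ) := by
          rw [← mul_smul, ← mul_smul]; congr 1; group
      _ = (g : G) • γ := by rw [h1]

theorem mem_fixSub {Q : Subgroup G} {γ : Ω} : γ ∈ fixSub Ω Q ↔ ∀ q ∈ Q, q • γ = γ := Iff.rfl

theorem fixSub_smul_coe {Q : Subgroup G} (g : ↥(Subgroup.normalizer (Q : Set G))) (a : ↥(fixSub Ω Q)) :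
    ((g • a : ↥(fixSub Ω Q)) : Ω) = (g : G) • (a : Ω) := rfl

/-- an element conjugating `Q` into a subgroup `H ≥ Q` in which `Q` has maximal 2-power order can
be corrected by an element of `H` to normalise `Q` -/
theorem exists_mul_mem_normalizer (Q H : Subgroup G) [Finite H] (g : G) (hQH : Q ≤ H)
    (hgQ : ∀ q ∈ Q, g * q * g⁻¹ ∈ H) (k : ℕ) (hk : Nat.card Q = 2 ^ k)
    (hH : ¬ 2 ^ (k + 1) ∣ Nat.card H) :
    ∃ h ∈ H, h * g ∈ Subgroup.normalizer (Q : Set G) := by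
  have hp : Fact (Nat.Prime 2) := ⟨Nat.prime_two⟩
  have hR : MulAut.conj g • Q ≤ H := by
    intro y hy
    rw [mem_conj_smul] at hy
    have := hgQ _ hy
    have e : g * (g⁻¹ * y * g) * g⁻¹ = y := by group
    rwa [e] at this
  have hkR : Nat.card ↥(MulAut.conj g • Q) = 2 ^ k := by
    rw [← hk]
    exact (Nat.card_congr (Subgroup.equivSMul (MulAut.conj g) Q).toEquiv).symm
  obtain ⟨h, hhH, hh⟩ := exists_conj_of_card_eq (p := 2) H (MulAut.conj g • Q) Q hR hQH k hkR hk hH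
  refine ⟨h, hhH, ?_⟩
  rw [Subgroup.mem_normalizer_iff]
  intro q
  have := hh (g * q * g⁻¹)
  rw [mem_conj_smul] at this
  have e1 : g⁻¹ * (g * q * g⁻¹) * g = q := by group
  have e2 : h * (g * q * g⁻¹) * h⁻¹ = h * g * q * (h * g)⁻¹ := by group
  rw [e1, e2] at this
  exact this

end Concrete


section Concrete2

variable {G : Type*} [Group G] {Ω : Type*} [MulAction G Ω]

theorem fixedPoints_sylow_unique [Finite G] [Finite Ω]
    (h2 : ∀ a b c d : Ω, a ≠ b → c ≠ d → ∃ g : G, g • a = c ∧ g • b = d)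
    (hn : Nat.card Ω % 4 = 2) (N : Subgroup G) [hNn : N.Normal] (hNt : STrans Ω N)
    (α : Ω) (Q : Subgroup G) (hQ : Q ≤ N ⊓ stabilizer G α) (k : ℕ) (hk : Nat.card Q = 2 ^ k)
    (hNα : ¬ 2 ^ (k + 1) ∣ Nat.card ↥(N ⊓ stabilizer G α)) :
    ∀ γ δ : Ω, (∀ q ∈ Q, q • γ = γ) → (∀ q ∈ Q, q • δ = δ) → γ ≠ α → δ ≠ α → γ = δ := by
  classical
  have hcard : ∀ γ : Ω, Nat.card N = Nat.card Ω * Nat.card ↥(N ⊓ stabilizer G γ) :=
    fun γ => card_eq_card_mul_card_inf_stabilizer N hNt γ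
  have hΩpos : 0 < Nat.card Ω := by
    have : Nonempty Ω := ⟨α⟩
    exact Nat.card_pos
  have hstab : ∀ γ : Ω, Nat.card ↥(N ⊓ stabilizer G γ) = Nat.card ↥(N ⊓ stabilizer G α) := by
    intro γ
    have h1 := hcard γ
    rw [hcard α] at h1
    exact (Nat.eq_of_mul_eq_mul_left hΩpos h1).symm
  have hNγ : ∀ γ : Ω, ¬ 2 ^ (k + 1) ∣ Nat.card ↥(N ⊓ stabilizer G γ) := by
    intro γ; rw [hstab]; exact hNα
  have hQN : Q ≤ N := fun q hq => (hQ hq).1
  have hQα : 2 ^ k ∣ Nat.card ↥(N ⊓ stabilizer G α) := by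
    rw [← hk]; exact Subgroup.card_dvd_of_le hQ
  obtain ⟨t, ht⟩ : ∃ t, Nat.card Ω = 2 * (2 * t + 1) := ⟨Nat.card Ω / 4, by omega⟩
  have hN2 : ¬ 2 ^ (k + 2) ∣ Nat.card N := by
    rw [hcard α, ht]
    intro hdvd
    have e : 2 ^ (k + 2) = 2 * 2 ^ (k + 1) := by ring
    rw [e, mul_assoc] at hdvd
    have h3 := Nat.dvd_of_mul_dvd_mul_left (by norm_num) hdvd
    have hcop : Nat.Coprime (2 ^ (k + 1)) (2 * t + 1) := by
      apply Nat.Coprime.pow_left
      rw [Nat.coprime_two_left]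
      exact ⟨t, rfl⟩
    exact hNα (hcop.dvd_of_dvd_mul_left h3)
  have hN1 : 2 ^ (k + 1) ∣ Nat.card N := by
    rw [hcard α, ht]
    obtain ⟨u, hu⟩ := hQα
    rw [hu]
    exact ⟨(2 * t + 1) * u, by ring⟩
  -- the normaliser acting on the fixed points
  set K := Subgroup.normalizer (Q : Set G) with hK
  let a₀ : ↥(fixSub Ω Q) := ⟨α, fun q hq => mem_stabilizer_iff.mp (hQ hq).2⟩
  have h2' : ∀ a b c d : ↥(fixSub Ω Q), a ≠ b → c ≠ d → ∃ g : ↥K, g • a = c ∧ g • b = d := by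
    intro a b c d hab hcd
    obtain ⟨g, hga, hgb⟩ := h2 (a : Ω) b c d (fun h => hab (Subtype.ext h))
      (fun h => hcd (Subtype.ext h))
    have hga' : g⁻¹ • (c : Ω) = a := by rw [inv_smul_eq_iff, hga]
    have hgb' : g⁻¹ • (d : Ω) = b := by rw [inv_smul_eq_iff, hgb]
    have hQH : Q ≤ (N ⊓ stabilizer G (c : Ω)) ⊓ stabilizer G (d : Ω) := by
      intro q hq
      exact ⟨⟨hQN hq, mem_stabilizer_iff.mpr (c.2 q hq)⟩, mem_stabilizer_iff.mpr (d.2 q hq)⟩
    have hgQ : ∀ q ∈ Q, g * q * g⁻¹ ∈ (N ⊓ stabilizer G (c : Ω)) ⊓ stabilizer G (d : Ω) := by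
      intro q hq
      refine ⟨⟨hNn.conj_mem q (hQN hq) g, ?_⟩, ?_⟩
      · show g * q * g⁻¹ ∈ stabilizer G (c : Ω)
        rw [mem_stabilizer_iff, mul_smul, mul_smul, hga', a.2 q hq, hga]
      · show g * q * g⁻¹ ∈ stabilizer G (d : Ω)
        rw [mem_stabilizer_iff, mul_smul, mul_smul, hgb', b.2 q hq, hgb]
    have hH : ¬ 2 ^ (k + 1) ∣ Nat.card ↥((N ⊓ stabilizer G (c : Ω)) ⊓ stabilizer G (d : Ω)) := by
      intro hd
      exact hNγ c (hd.trans (Subgroup.card_dvd_of_le inf_le_left))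
    obtain ⟨h, hhH, hhg⟩ := exists_mul_mem_normalizer Q _ g hQH hgQ k hk hH
    refine ⟨⟨h * g, hhg⟩, Subtype.ext ?_, Subtype.ext ?_⟩
    · show (h * g) • (a : Ω) = c
      rw [mul_smul, hga]
      exact mem_stabilizer_iff.mp hhH.1.2
    · show (h * g) • (b : Ω) = d
      rw [mul_smul, hgb]
      exact mem_stabilizer_iff.mp hhH.2
  have hLt' : ∀ a b : ↥(fixSub Ω Q), ∃ l ∈ N.subgroupOf K, l • a = b := by
    intro a b
    obtain ⟨g, hgN, hgab⟩ := hNt (a : Ω) b
    have hga' : g⁻¹ • (b : Ω) = a := by rw [inv_smul_eq_iff, hgab]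
    have hQH : Q ≤ N ⊓ stabilizer G (b : Ω) := by
      intro q hq
      exact ⟨hQN hq, mem_stabilizer_iff.mpr (b.2 q hq)⟩
    have hgQ : ∀ q ∈ Q, g * q * g⁻¹ ∈ N ⊓ stabilizer G (b : Ω) := by
      intro q hq
      refine ⟨hNn.conj_mem q (hQN hq) g, ?_⟩
      show g * q * g⁻¹ ∈ stabilizer G (b : Ω)
      rw [mem_stabilizer_iff, mul_smul, mul_smul, hga', a.2 q hq, hgab]
    obtain ⟨h, hhH, hhg⟩ := exists_mul_mem_normalizer Q _ g hQH hgQ k hk (hNγ b)
    refine ⟨⟨h * g, hhg⟩, ?_, Subtype.ext ?_⟩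
    · rw [Subgroup.mem_subgroupOf]
      exact N.mul_mem hhH.1 hgN
    · show (h * g) • (a : Ω) = b
      rw [mul_smul, hgab]
      exact mem_stabilizer_iff.mp hhH.2
  -- the 2-element `x`
  have hp : Fact (Nat.Prime 2) := ⟨Nat.prime_two⟩
  have hcQ' : Nat.card ↥(Q.subgroupOf N) = 2 ^ k := by
    rw [← hk]; exact Nat.card_congr (Subgroup.subgroupOfEquivOfLe hQN).toEquiv
  obtain ⟨P, hPcard, hQP⟩ := Sylow.exists_subgroup_card_pow_succ (G := ↥N) (p := 2) (n := k) hN1 hcQ'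
  have hP'card : Nat.card ↥(P.map N.subtype) = 2 ^ (k + 1) := by
    rw [Subgroup.card_map_of_injective N.subtype_injective, hPcard]
  have hQP' : Q ≤ P.map N.subtype := by
    intro q hq
    exact ⟨⟨q, hQN hq⟩, hQP (Subgroup.mem_subgroupOf.mpr hq), rfl⟩
  have hP'N : P.map N.subtype ≤ N := Subgroup.map_subtype_le P
  have hrel : Q.relIndex (P.map N.subtype) = 2 := by
    have := card_mul_relIndex_of_le hQP'
    rw [hk, hP'card, pow_succ] at this
    exact Nat.eq_of_mul_eq_mul_left (by positivity) this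
  obtain ⟨x₀, hx₀P, hx₀⟩ := Subgroup.relIndex_eq_two_iff.mp hrel
  have hx₀Q : x₀ ∉ Q := by
    intro h
    have := hx₀ 1 (Subgroup.one_mem _)
    rw [one_mul] at this
    rcases this with ⟨_, h2⟩ | ⟨_, h2⟩
    · exact h2 (Subgroup.one_mem _)
    · exact h2 h
  have hx₀sq : x₀ * x₀ ∈ Q := by
    rcases hx₀ x₀ hx₀P with ⟨h1, _⟩ | ⟨h1, _⟩
    · exact h1
    · exact absurd h1 hx₀Q
  have hfwd : ∀ q ∈ Q, x₀ * q * x₀⁻¹ ∈ Q := by
    intro q hq
    have hb : x₀ * q ∈ P.map N.subtype := Subgroup.mul_mem _ hx₀P (hQP' hq)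
    have hbQ : x₀ * q ∉ Q := by
      intro h
      apply hx₀Q
      have := Q.mul_mem h (Q.inv_mem hq)
      rwa [mul_inv_cancel_right] at this
    have h3 : x₀ * q * x₀ ∈ Q := by
      rcases hx₀ (x₀ * q) hb with ⟨h1, _⟩ | ⟨h1, _⟩
      · exact h1
      · exact absurd h1 hbQ
    have e : x₀ * q * x₀⁻¹ = (x₀ * q * x₀) * (x₀ * x₀)⁻¹ := by group
    rw [e]
    exact Q.mul_mem h3 (Q.inv_mem hx₀sq)
  have hbwd : ∀ q ∈ Q, x₀⁻¹ * q * x₀ ∈ Q := by
    intro q hq
    have e : x₀⁻¹ * q * x₀ = (x₀ * x₀)⁻¹ * (x₀ * q * x₀⁻¹) * (x₀ * x₀) := by group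
    rw [e]
    exact Q.mul_mem (Q.mul_mem (Q.inv_mem hx₀sq) (hfwd q hq)) hx₀sq
  have hx₀K : x₀ ∈ K := by
    rw [hK, Subgroup.mem_normalizer_iff]
    intro q
    refine ⟨hfwd q, fun h => ?_⟩
    have := hbwd _ h
    have e : x₀⁻¹ * (x₀ * q * x₀⁻¹) * x₀ = q := by group
    rwa [e] at this
  have hxf : ∀ a : ↥(fixSub Ω Q), (⟨x₀, hx₀K⟩ : ↥K) • a ≠ a := by
    intro a hxa
    have hxa' : x₀ • (a : Ω) = a := congrArg Subtype.val hxa
    have hle : P.map N.subtype ≤ N ⊓ stabilizer G (a : Ω) := by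
      intro b hb
      refine ⟨hP'N hb, ?_⟩
      show b ∈ stabilizer G (a : Ω)
      rw [mem_stabilizer_iff]
      by_cases hbQ : b ∈ Q
      · exact a.2 b hbQ
      · have h3 : b * x₀ ∈ Q := by
          rcases hx₀ b hb with ⟨h1, _⟩ | ⟨h1, _⟩
          · exact h1
          · exact absurd h1 hbQ
        have := a.2 _ h3
        rwa [mul_smul, hxa'] at this
    apply hNγ a
    rw [← hP'card]
    exact Subgroup.card_dvd_of_le hle
  have hxx : ∀ a : ↥(fixSub Ω Q), (⟨x₀, hx₀K⟩ : ↥K) • (⟨x₀, hx₀K⟩ : ↥K) • a = a := by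
    intro a
    apply Subtype.ext
    show x₀ • x₀ • (a : Ω) = a
    rw [← mul_smul]
    exact a.2 _ hx₀sq
  have hk' : Nat.card ↥(Q.subgroupOf K) = 2 ^ k := by
    rw [← hk]; exact Nat.card_congr (Subgroup.subgroupOfEquivOfLe Subgroup.le_normalizer).toEquiv
  have hL' : ¬ 2 ^ (k + 2) ∣ Nat.card ↥(N.subgroupOf K) := by
    intro hd
    exact hN2 (hd.trans (Subgroup.card_comap_dvd_of_injective N K.subtype K.subtype_injective))
  have hst' : ∀ a : ↥(fixSub Ω Q), ¬ 2 ^ (k + 1) ∣ Nat.card ↥(N.subgroupOf K ⊓ stabilizer ↥K a) := by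
    intro a hd
    have e : N.subgroupOf K ⊓ stabilizer ↥K a = (N ⊓ stabilizer G (a : Ω)).subgroupOf K := by
      ext l
      simp only [Subgroup.mem_inf, Subgroup.mem_subgroupOf, mem_stabilizer_iff]
      constructor
      · rintro ⟨h1, h2⟩
        exact ⟨h1, congrArg Subtype.val h2⟩
      · rintro ⟨h1, h2⟩
        exact ⟨h1, Subtype.ext h2⟩
    rw [e] at hd
    exact hNγ a (hd.trans (Subgroup.card_comap_dvd_of_injective _ K.subtype K.subtype_injective))
  have hQL' : Q.subgroupOf K ≤ N.subgroupOf K := fun q hq => hQN hq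
  have hQ' : ∀ q ∈ Q.subgroupOf K, ∀ a : ↥(fixSub Ω Q), q • a = a := by
    intro q hq a
    exact Subtype.ext (a.2 q hq)
  have hxL : (⟨x₀, hx₀K⟩ : ↥K) ∈ N.subgroupOf K := hP'N hx₀P
  intro γ δ hγ hδ hγα hδα
  have := subsingleton_of_sylow_data h2' (N.subgroupOf K) (Q.subgroupOf K) hQL' hQ' hLt'
    ⟨x₀, hx₀K⟩ hxL hxf hxx k hk' hL' hst' a₀ ⟨γ, hγ⟩ ⟨δ, hδ⟩
    (fun h => hγα (congrArg Subtype.val h)) (fun h => hδα (congrArg Subtype.val h))
  exact congrArg Subtype.val this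

end Concrete2


section Final

variable {G : Type*} [Group G] {Ω : Type*} [MulAction G Ω]

/-- **Aschbacher.** In a 2-transitive group of degree `n ≡ 2 mod 4`, every non-trivial normal
subgroup is 2-transitive. -/
theorem normal_two_transitive_of_two_mod_four [Finite G] [Finite Ω] [FaithfulSMul G Ω]
    (h2 : IsMultiplyPretransitive G Ω 2) (hn : Nat.card Ω % 4 = 2)
    (N : Subgroup G) [hNn : N.Normal] (hN : N ≠ ⊥) :
    ∀ a b c d : Ω, a ≠ b → c ≠ d → ∃ x ∈ N, x • a = c ∧ x • b = d := by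
  classical
  have h2e : ∀ a b c d : Ω, a ≠ b → c ≠ d → ∃ g : G, g • a = c ∧ g • b = d :=
    fun a b c d hab hcd => (is_two_pretransitive_iff.mp h2) hab hcd
  have hprim : IsPreprimitive G Ω := isPreprimitive_of_is_two_pretransitive h2
  have hNt : STrans Ω N := sTrans_of_normal N hN
  have hp : Fact (Nat.Prime 2) := ⟨Nat.prime_two⟩
  have key : ∀ α β δ : Ω, β ≠ α → δ ≠ α → ∃ x ∈ N, x • α = α ∧ x • β = δ := by
    intro α
    have hpos : Nat.card ↥(N ⊓ stabilizer G α) ≠ 0 := Nat.card_pos.ne'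
    set k := (Nat.card ↥(N ⊓ stabilizer G α)).factorization 2 with hkdef
    have hdvd : 2 ^ k ∣ Nat.card ↥(N ⊓ stabilizer G α) := Nat.ordProj_dvd _ 2
    have hNα : ¬ 2 ^ (k + 1) ∣ Nat.card ↥(N ⊓ stabilizer G α) :=
      Nat.pow_succ_factorization_not_dvd hpos Nat.prime_two
    obtain ⟨Q₀, hQ₀⟩ := Sylow.exists_subgroup_card_pow_prime 2 hdvd
    set Q := Q₀.map (N ⊓ stabilizer G α).subtype with hQdef
    have hk : Nat.card ↥Q = 2 ^ k := by
      rw [hQdef, Subgroup.card_map_of_injective (Subgroup.subtype_injective _), hQ₀]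
    have hQ : Q ≤ N ⊓ stabilizer G α := Subgroup.map_subtype_le Q₀
    have huniq := fixedPoints_sylow_unique h2e hn N hNt α Q hQ k hk hNα
    have hQα : ∀ q ∈ Q, q • α = α := fun q hq => mem_stabilizer_iff.mp (hQ hq).2
    -- a second fixed point
    have hex : ∃ β₀ : Ω, (∀ q ∈ Q, q • β₀ = β₀) ∧ β₀ ≠ α := by
      by_contra hcon
      push Not at hcon
      have hPG : IsPGroup 2 ↥Q := IsPGroup.of_card hk
      have hmod := hPG.card_modEq_card_fixedPoints Ω
      have hfix : fixedPoints ↥Q Ω = {α} := by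
        ext γ
        simp only [mem_fixedPoints, Set.mem_singleton_iff]
        constructor
        · intro h
          exact hcon γ (fun q hq => h ⟨q, hq⟩)
        · rintro rfl q
          exact hQα q q.2
      rw [hfix, Nat.card_coe_set_eq, Set.ncard_singleton] at hmod
      have := hmod.symm
      unfold Nat.ModEq at this
      omega
    obtain ⟨β₀, hβ₀, hβ₀α⟩ := hex
    have step : ∀ δ : Ω, δ ≠ α → ∃ x ∈ N, x • α = α ∧ x • β₀ = δ := by
      intro δ hδ
      obtain ⟨g, hgα, hgβ⟩ := h2e α β₀ α δ hβ₀α.symm hδ.symm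
      have hgα' : g⁻¹ • α = α := by rw [inv_smul_eq_iff, hgα]
      have hgQ : ∀ q ∈ Q, g * q * g⁻¹ ∈ N ⊓ stabilizer G α := by
        intro q hq
        refine ⟨hNn.conj_mem q (hQ hq).1 g, ?_⟩
        show g * q * g⁻¹ ∈ stabilizer G α
        rw [mem_stabilizer_iff, mul_smul, mul_smul, hgα', hQα q hq, hgα]
      obtain ⟨h, hhH, hhg⟩ := exists_mul_mem_normalizer Q _ g hQ hgQ k hk hNα
      have hhα : h • α = α := mem_stabilizer_iff.mp hhH.2
      have hfix : ∀ q ∈ Q, q • (h • δ) = h • δ := by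
        intro q hq
        have hq' := (Subgroup.mem_normalizer_iff''.mp hhg q).mp hq
        have h1 := hβ₀ _ hq'
        have e : h • δ = (h * g) • β₀ := by rw [mul_smul, hgβ]
        rw [e]
        calc q • ((h * g) • β₀) = (h * g) • (((h * g)⁻¹ * q * (h * g)) • β₀) := by
              rw [← mul_smul, ← mul_smul]; congr 1; group
          _ = (h * g) • β₀ := by rw [h1]
      have hne : h • δ ≠ α := by
        intro hh
        apply hδ
        have : δ = h⁻¹ • α := by rw [← hh, inv_smul_smul]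
        rw [this, inv_smul_eq_iff, hhα]
      have heq : h • δ = β₀ := huniq _ _ hfix hβ₀ hne hβ₀α
      refine ⟨h⁻¹, N.inv_mem hhH.1, ?_, ?_⟩
      · rw [inv_smul_eq_iff, hhα]
      · rw [inv_smul_eq_iff, heq]
    intro β δ hβ hδ
    obtain ⟨x₁, hx₁N, hx₁α, hx₁β⟩ := step β hβ
    obtain ⟨x₂, hx₂N, hx₂α, hx₂δ⟩ := step δ hδ
    refine ⟨x₂ * x₁⁻¹, N.mul_mem hx₂N (N.inv_mem hx₁N), ?_, ?_⟩
    · rw [mul_smul]
      have : x₁⁻¹ • α = α := by rw [inv_smul_eq_iff, hx₁α]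
      rw [this, hx₂α]
    · rw [mul_smul]
      have : x₁⁻¹ • β = β₀ := by rw [inv_smul_eq_iff, hx₁β]
      rw [this, hx₂δ]
  intro a b c d hab hcd
  obtain ⟨g, hgN, hgac⟩ := hNt a c
  have hgb : g • b ≠ c := by
    intro h
    apply hab
    rw [← hgac] at h
    exact (smul_left_cancel g h).symm
  obtain ⟨x, hxN, hxc, hxd⟩ := key c (g • b) d hgb hcd.symm
  refine ⟨x * g, N.mul_mem hxN hgN, ?_, ?_⟩
  · rw [mul_smul, hgac, hxc]
  · rw [mul_smul, hxd]

end Final

end Cfsg.Agent.Lib.Helper59
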