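import Mathlib

set_option autoImplicit false

/-!
# Arithmetic for uniform partitions fixed by elements of prime order (helper59)

With `a = r * q + ℓ`, `b = r * t + k`: the intervals `[a u, a u + (b - r u) q]`, `r u ≤ b`,
cover `[1, a b / r]` iff `1 ≤ q`, `ℓ k < r` and (`t = 0` or `ℓ ≤ k q + 1`).
-/

namespace Cfsg.Agent.Lib.Helper59

/-- sufficiency of the arithmetic condition -/
theorem uniform_arith_suff {q ℓ t k r : ℕ} (ha : 0 < r * q + ℓ)
    (hlk : ℓ * k < r) (hgap : t = 0 ∨ ℓ ≤ k * q + 1) (j : ℕ)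
    (hj : j * r ≤ (r * q + ℓ) * (r * t + k)) :
    ∃ u, r * u ≤ r * t + k ∧ (r * q + ℓ) * u ≤ j ∧
      j ≤ (r * q + ℓ) * u + (r * t + k - r * u) * q := by
  rcases le_or_gt t (j / (r * q + ℓ)) with h | h
  · refine ⟨t, Nat.le_add_right _ _, ?_, ?_⟩
    · calc (r * q + ℓ) * t ≤ (r * q + ℓ) * (j / (r * q + ℓ)) := Nat.mul_le_mul_left _ h
        _ ≤ j := Nat.mul_div_le _ _
    · rw [Nat.add_sub_cancel_left]
      by_contra hcon
      rw [not_le] at hcon
      have h1 : (r * q + ℓ) * t + k * q + 1 ≤ j := hcon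
      have h2 := Nat.mul_le_mul_right r h1
      nlinarith [h2, hj, hlk]
  · have hu1 : (r * q + ℓ) * (j / (r * q + ℓ)) ≤ j := Nat.mul_div_le _ _
    have hu2 : j < (r * q + ℓ) * (j / (r * q + ℓ) + 1) := Nat.lt_mul_div_succ _ ha
    generalize j / (r * q + ℓ) = u at h hu1 hu2
    obtain ⟨d, rfl⟩ : ∃ d, t = u + 1 + d := Nat.exists_eq_add_of_le h
    have hl : ℓ ≤ k * q + 1 := by
      rcases hgap with h0 | h0
      · omega
      · exact h0
    refine ⟨u, ?_, hu1, ?_⟩
    · nlinarith [Nat.zero_le (r * d), Nat.zero_le k, Nat.zero_le r]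
    · have h3 : r * (u + 1 + d) + k - r * u = r * (1 + d) + k := by
        apply Nat.sub_eq_of_eq_add
        ring
      rw [h3]
      nlinarith [Nat.zero_le (r * d * q), hu2, hl]

/-- necessity of the arithmetic condition -/
theorem uniform_arith_nec {q ℓ t k r : ℕ} (hr : 2 ≤ r) (ha : 2 ≤ r * q + ℓ)
    (hb : 2 ≤ r * t + k) (hk : k < r) (hrab : r ≤ (r * q + ℓ) * (r * t + k))
    (H : ∀ j, 1 ≤ j → j * r ≤ (r * q + ℓ) * (r * t + k) →
      ∃ u, r * u ≤ r * t + k ∧ (r * q + ℓ) * u ≤ j ∧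
        j ≤ (r * q + ℓ) * u + (r * t + k - r * u) * q) :
    1 ≤ q ∧ ℓ * k < r ∧ (t = 0 ∨ ℓ ≤ k * q + 1) := by
  have hut : ∀ u, r * u ≤ r * t + k → u ≤ t := by
    intro u hu
    have : r * u < r * (t + 1) := by nlinarith
    have := Nat.lt_of_mul_lt_mul_left this
    omega
  refine ⟨?_, ?_, ?_⟩
  · by_contra hq
    have hq0 : q = 0 := by omega
    subst hq0
    obtain ⟨u, _, h2, h3⟩ := H 1 le_rfl (by rw [one_mul]; exact hrab)
    rw [Nat.mul_zero (r * t + k - r * u), Nat.add_zero] at h3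
    have h4 : (r * 0 + ℓ) * u = 1 := le_antisymm h2 h3
    have h5 : r * 0 + ℓ = 1 := Nat.eq_one_of_mul_eq_one_right h4
    omega
  · by_contra hcon
    rw [not_lt] at hcon
    obtain ⟨u, h1, _, h3⟩ := H (r * q * t + q * k + ℓ * t + 1) (Nat.le_add_left _ _)
      (by nlinarith)
    have hu := hut u h1
    obtain ⟨d, rfl⟩ := Nat.exists_eq_add_of_le hu
    have h4 : r * (u + d) + k - r * u = r * d + k := by
      apply Nat.sub_eq_of_eq_add
      ring
    rw [h4] at h3
    nlinarith [Nat.zero_le (ℓ * d)]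
  · by_contra hcon
    rw [not_or, not_le] at hcon
    obtain ⟨ht, hl⟩ := hcon
    have ht1 : 1 ≤ t := Nat.one_le_iff_ne_zero.mpr ht
    have hat : 2 ≤ (r * q + ℓ) * t := by nlinarith
    obtain ⟨u, h1, h2, h3⟩ := H ((r * q + ℓ) * t - 1) (by omega) (by
      have : ((r * q + ℓ) * t - 1) * r ≤ (r * q + ℓ) * t * r :=
        Nat.mul_le_mul_right _ (Nat.sub_le _ _)
      nlinarith [Nat.zero_le ((r * q + ℓ) * k)])
    have hu := hut u h1
    have hu' : u < t := by
      by_contra hc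
      have : u = t := by omega
      subst this
      omega
    obtain ⟨d, rfl⟩ : ∃ d, t = u + 1 + d := Nat.exists_eq_add_of_le hu'
    have h4 : r * (u + 1 + d) + k - r * u = r * (1 + d) + k := by
      apply Nat.sub_eq_of_eq_add
      ring
    rw [h4] at h3
    have h5 : (r * q + ℓ) * (u + 1 + d) ≤ (r * q + ℓ) * u + (r * (1 + d) + k) * q + 1 := by
      omega
    nlinarith [Nat.zero_le (ℓ * d)]

/-- translation to the printed condition -/
theorem uniform_arith_iff {q ℓ t k r : ℕ} (hr : 2 ≤ r) (hb : 2 ≤ r * t + k)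
    (hl : ℓ < r) (hk : k < r) :
    (1 ≤ q ∧ ℓ * k < r ∧ (t = 0 ∨ ℓ ≤ k * q + 1)) ↔
      (r ≤ r * q + ℓ ∧ (ℓ = 0 ∨ (k = 0 ∧ ℓ = 1) ∨
        (ℓ ≠ 0 ∧ k ≠ 0 ∧ k * ℓ < r ∧
          (r * t + k < r ∨ (k + r) * ℓ ≤ k * (r * q + ℓ) + r)))) := by
  constructor
  · rintro ⟨hq, hlk, hgap⟩
    refine ⟨by nlinarith, ?_⟩
    by_cases hl0 : ℓ = 0
    · exact Or.inl hl0
    by_cases hk0 : k = 0
    · right; left
      refine ⟨hk0, ?_⟩
      subst hk0
      rcases hgap with h | h
      · subst h; omega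
      · omega
    · right; right
      refine ⟨hl0, hk0, by rw [mul_comm]; exact hlk, ?_⟩
      rcases hgap with h | h
      · left; subst h; omega
      · right
        nlinarith [Nat.mul_le_mul_left r h]
  · rintro ⟨hra, hcond⟩
    have hq : 1 ≤ q := by
      by_contra hq
      have : q = 0 := by omega
      subst this
      omega
    refine ⟨hq, ?_⟩
    rcases hcond with h | ⟨h1, h2⟩ | ⟨h1, h2, h3, h4⟩
    · subst h
      exact ⟨by omega, Or.inr (Nat.zero_le _)⟩
    · subst h1 h2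
      exact ⟨by omega, Or.inr (by omega)⟩
    · refine ⟨by rw [mul_comm]; exact h3, ?_⟩
      rcases h4 with h | h
      · left
        by_contra ht
        have : 1 ≤ t := Nat.one_le_iff_ne_zero.mpr ht
        nlinarith
      · right
        have h5 : r * ℓ ≤ r * (k * q + 1) := by nlinarith
        exact Nat.le_of_mul_le_mul_left h5 (by omega)

/-- `(a!)^b * b!` divides `(a b)!` -/
theorem factorial_pow_mul_factorial_dvd {a : ℕ} (ha : 0 < a) (b : ℕ) :
    a.factorial ^ b * b.factorial ∣ (a * b).factorial := by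
  induction b with
  | zero => simp
  | succ b ih =>
    have h1 : (a * b + a).choose a * (a * b).factorial * a.factorial = (a * b + a).factorial :=
      Nat.add_choose_mul_factorial_mul_factorial (a * b) a
    have h2 : (b + 1) ∣ (a * b + a).choose a := by
      rw [mul_comm a b, Nat.choose_mul_add (by omega : a ≠ 0)]
      exact Dvd.intro _ rfl
    rw [Nat.mul_succ, ← h1, pow_succ, Nat.factorial_succ]
    obtain ⟨c, hc⟩ := h2
    obtain ⟨e, he⟩ := ih
    rw [hc, he]
    exact ⟨c * e, by ring⟩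

end Cfsg.Agent.Lib.Helper59
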