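import Mathlib
import Cfsg.Agent.Lib.Helper59.PrimePow

set_option autoImplicit false
set_option linter.unusedSectionVars false

/-!
# Elements of prime order fixing a uniform partition (helper59)

A permutation `σ` with `σ ^ r = 1` (`r` prime) and `j` cycles of length `r`, on `a * b` points,
fixes a partition into `b` blocks of size `a` iff for some `u` with `r * u ≤ b`:
`a * u ≤ j ≤ a * u + (b - r * u) * (a / r)`.
-/

namespace Cfsg.Agent.Lib.Helper59

open Equiv

section Nec

variable {α β : Type*} [Fintype α] [DecidableEq α] [Fintype β] [DecidableEq β]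

/-- necessity: the blocks moved by the induced permutation are `r * u` in number, lie in the
support; a fixed block meets the support in a multiple of `r` points -/
theorem uniform_nec {r : ℕ} (hr : r.Prime) {a : ℕ} (ha : 0 < a) (σ : Perm α) (hσ : σ ^ r = 1)
    (f : α → β) (hf : ∀ i, (Finset.univ.filter (fun x => f x = i)).card = a)
    (π : Perm β) (hπ : ∀ x, f (σ x) = π (f x)) :
    ∃ u, r * u ≤ Fintype.card β ∧ a * (r * u) ≤ σ.support.card ∧
      σ.support.card ≤ a * (r * u) + (Fintype.card β - r * u) * (r * (a / r)) := by
  classical
  have hsurj : Function.Surjective f := by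
    intro i
    have h1 : (Finset.univ.filter (fun x => f x = i)).Nonempty := by
      rw [← Finset.card_pos, hf i]; exact ha
    obtain ⟨x, hx⟩ := h1
    exact ⟨x, (Finset.mem_filter.mp hx).2⟩
  have hpow : ∀ (k : ℕ) (x : α), f ((σ ^ k) x) = (π ^ k) (f x) := by
    intro k
    induction k with
    | zero => intro x; simp
    | succ k ih =>
      intro x
      rw [pow_succ', pow_succ', Perm.mul_apply, Perm.mul_apply, hπ, ih]
  have hπr : π ^ r = 1 := by
    ext i
    obtain ⟨x, rfl⟩ := hsurj i
    rw [← hpow, hσ]
    simp
  refine ⟨Multiset.card π.cycleType, ?_, ?_, ?_⟩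
  · rw [← card_support_of_pow_prime hr hπr]
    exact Finset.card_le_univ _
  all_goals rw [← card_support_of_pow_prime hr hπr]
  all_goals
    have hsum : σ.support.card
        = ∑ i ∈ Finset.univ, (σ.support.filter (fun x => f x = i)).card :=
      Finset.card_eq_sum_card_fiberwise (fun x _ => Finset.mem_univ _)
  all_goals
    have hmoved : ∀ i ∈ π.support, (σ.support.filter (fun x => f x = i)).card = a := by
      intro i hi
      rw [← hf i]
      congr 1
      ext x
      simp only [Finset.mem_filter, Finset.mem_univ, true_and, Perm.mem_support]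
      constructor
      · exact fun h => h.2
      · intro h
        refine ⟨fun h2 => ?_, h⟩
        have h3 := hπ x
        rw [h2, h] at h3
        exact (Perm.mem_support.mp hi) h3.symm
  · -- lower bound
    calc a * π.support.card = ∑ i ∈ π.support, (σ.support.filter (fun x => f x = i)).card := by
          rw [Finset.sum_congr rfl hmoved, Finset.sum_const, smul_eq_mul, mul_comm]
      _ ≤ ∑ i ∈ Finset.univ, (σ.support.filter (fun x => f x = i)).card :=
          Finset.sum_le_sum_of_subset (Finset.subset_univ _)
      _ = σ.support.card := hsum.symm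
  · -- upper bound
    have hfixed : ∀ i ∈ π.supportᶜ, (σ.support.filter (fun x => f x = i)).card ≤ r * (a / r) := by
      intro i hi
      have hi' : π i = i := by
        rw [Finset.mem_compl, Perm.mem_support, not_not] at hi
        exact hi
      have hinv : ∀ x, f (σ x) = i ↔ f x = i := by
        intro x
        rw [hπ x]
        constructor
        · intro h
          apply π.injective
          rw [h, hi']
        · intro h
          rw [h, hi']
      obtain ⟨c, hc⟩ := dvd_card_support_filter hr hσ (fun x => f x = i) hinv
      have hle : (σ.support.filter (fun x => f x = i)).card ≤ a := by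
        rw [← hf i]
        exact Finset.card_le_card (Finset.filter_subset_filter _ (Finset.subset_univ _))
      rw [hc] at hle ⊢
      apply Nat.mul_le_mul_left
      rw [Nat.le_div_iff_mul_le hr.pos, mul_comm]
      exact hle
    calc σ.support.card = ∑ i ∈ Finset.univ, (σ.support.filter (fun x => f x = i)).card := hsum
      _ = ∑ i ∈ π.support, (σ.support.filter (fun x => f x = i)).card
          + ∑ i ∈ π.supportᶜ, (σ.support.filter (fun x => f x = i)).card :=
          (Finset.sum_add_sum_compl _ _).symm
      _ ≤ a * π.support.card + (Fintype.card β - π.support.card) * (r * (a / r)) := by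
          apply Nat.add_le_add
          · rw [Finset.sum_congr rfl hmoved, Finset.sum_const, smul_eq_mul, mul_comm]
          · have := Finset.sum_le_card_nsmul _ _ _ hfixed
            rwa [Finset.card_compl, smul_eq_mul] at this

end Nec

section Distribution

/-- distributing `m ≤ #S * q` as a sum of numbers `≤ q` placed on `S` -/
theorem exists_distribution {ι : Type*} [DecidableEq ι] [Fintype ι] (S : Finset ι) (q : ℕ) :
    ∀ m : ℕ, m ≤ S.card * q →
      ∃ c : ι → ℕ, (∀ i, i ∉ S → c i = 0) ∧ (∀ i, c i ≤ q) ∧ ∑ i, c i = m := by
  induction S using Finset.induction_on with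
  | empty =>
    intro m hm
    refine ⟨fun _ => 0, fun _ _ => rfl, fun _ => Nat.zero_le _, ?_⟩
    simp at hm
    simp [hm]
  | insert x S hx ih =>
    intro m hm
    rw [Finset.card_insert_of_notMem hx] at hm
    have hm2 : m - min m q ≤ S.card * q := by
      rcases le_total m q with h | h
      · rw [min_eq_left h]; simp
      · rw [min_eq_right h]
        have : (S.card + 1) * q = S.card * q + q := by ring
        omega
    obtain ⟨c', hc1, hc2, hc3⟩ := ih (m - min m q) hm2
    refine ⟨Function.update c' x (min m q), ?_, ?_, ?_⟩
    · intro i hi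
      rw [Finset.mem_insert, not_or] at hi
      rw [Function.update_of_ne hi.1]
      exact hc1 i hi.2
    · intro i
      by_cases hix : i = x
      · subst hix
        rw [Function.update_self]
        exact min_le_right _ _
      · rw [Function.update_of_ne hix]
        exact hc2 i
    · rw [Finset.sum_update_of_mem (Finset.mem_univ x)]
      have h1 : ∑ i ∈ Finset.univ \ {x}, c' i = m - min m q := by
        rw [← hc3, Finset.sdiff_singleton_eq_erase,
          ← Finset.add_sum_erase Finset.univ c' (Finset.mem_univ x), hc1 x hx, zero_add]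
      rw [h1]
      have : min m q ≤ m := min_le_left _ _
      omega

end Distribution

section Model

variable {α β : Type*} [Fintype α] [DecidableEq α] [Fintype β] [DecidableEq β]

/-- a model: blocks `α × {i}`, `r * u` of them moved by `ρ`, and in the fixed blocks
a total of `m` cycles of length `r` -/
theorem exists_model {r : ℕ} (hr : r.Prime) (u m : ℕ) (hu : r * u ≤ Fintype.card β)
    (hm : m ≤ (Fintype.card β - r * u) * (Fintype.card α / r)) :
    ∃ (ρ : Perm β) (σ₀ : Perm (α × β)), σ₀ ^ r = 1 ∧
      σ₀.support.card = r * (Fintype.card α * u + m) ∧ ∀ p, (σ₀ p).2 = ρ p.2 := by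
  classical
  obtain ⟨ρ, hρ1, hρ2⟩ := exists_pow_prime_card_support (α := β) hr u hu
  have hS : (ρ.supportᶜ).card = Fintype.card β - r * u := by
    rw [Finset.card_compl, hρ2]
  obtain ⟨c, hc1, hc2, hc3⟩ := exists_distribution (ρ.supportᶜ) (Fintype.card α / r) m
    (by rw [hS]; exact hm)
  have hex : ∀ i : β, ∃ τ : Perm α, τ ^ r = 1 ∧ τ.support.card = r * c i := by
    intro i
    apply exists_pow_prime_card_support hr
    calc r * c i ≤ r * (Fintype.card α / r) := Nat.mul_le_mul_left _ (hc2 i)
      _ ≤ Fintype.card α := Nat.mul_div_le _ _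
  choose τ hτ1 hτ2 using hex
  have hτ3 : ∀ i, i ∈ ρ.support → τ i = 1 := by
    intro i hi
    have h0 : c i = 0 := hc1 i (by simpa using hi)
    have := hτ2 i
    rw [h0, mul_zero, Finset.card_eq_zero, Perm.support_eq_empty_iff] at this
    exact this
  have hτ4 : ∀ i, τ (ρ i) = τ i := by
    intro i
    by_cases hi : i ∈ ρ.support
    · rw [hτ3 i hi, hτ3 (ρ i) (Perm.apply_mem_support.mpr hi)]
    · rw [Perm.notMem_support.mp hi]
  let A : Perm (α × β) := Equiv.prodCongr (Equiv.refl α) ρ
  let B : Perm (α × β) := Equiv.prodCongrLeft τ
  have hA : ∀ (k : ℕ) (p : α × β), (A ^ k) p = (p.1, (ρ ^ k) p.2) := by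
    intro k
    induction k with
    | zero => intro p; simp
    | succ k ih =>
      intro p
      rw [pow_succ', Perm.mul_apply, ih, pow_succ', Perm.mul_apply]
      rfl
  have hB : ∀ (k : ℕ) (p : α × β), (B ^ k) p = ((τ p.2 ^ k) p.1, p.2) := by
    intro k
    induction k with
    | zero => intro p; simp
    | succ k ih =>
      intro p
      rw [pow_succ', Perm.mul_apply, ih, pow_succ', Perm.mul_apply]
      rfl
  have hAB : Commute A B := by
    unfold Commute SemiconjBy
    ext p
    · show τ p.2 p.1 = τ (ρ p.2) p.1
      rw [hτ4]
    · rfl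
  have happ : ∀ p : α × β, (A * B) p = (τ p.2 p.1, ρ p.2) := fun p => rfl
  refine ⟨ρ, A * B, ?_, ?_, fun p => by rw [happ]⟩
  · rw [hAB.mul_pow]
    have h1 : A ^ r = 1 := by
      ext p
      · rw [hA]; rfl
      · rw [hA, hρ1]; rfl
    have h2 : B ^ r = 1 := by
      ext p
      · rw [hB, hτ1]; rfl
      · rw [hB]; rfl
    rw [h1, h2, one_mul]
  · have hsum : (A * B).support.card
        = ∑ i ∈ Finset.univ, ((A * B).support.filter (fun p => p.2 = i)).card :=
      Finset.card_eq_sum_card_fiberwise (fun x _ => Finset.mem_univ _)
    have hfib : ∀ i : β, ((A * B).support.filter (fun p => p.2 = i)).card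
        = (if i ∈ ρ.support then Fintype.card α else 0) + r * c i := by
      intro i
      by_cases hi : i ∈ ρ.support
      · rw [if_pos hi, hc1 i (by simpa using hi), mul_zero, add_zero]
        have : (A * B).support.filter (fun p => p.2 = i) = Finset.univ ×ˢ {i} := by
          ext p
          simp only [Finset.mem_filter, Perm.mem_support, Finset.mem_product, Finset.mem_univ,
            Finset.mem_singleton, true_and, and_iff_right_iff_imp]
          intro hp h
          rw [happ] at h
          have h2 := congrArg Prod.snd h
          simp only at h2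
          rw [hp] at h2
          exact (Perm.mem_support.mp hi) h2
        rw [this, Finset.card_product, Finset.card_univ, Finset.card_singleton, mul_one]
      · rw [if_neg hi, zero_add, ← hτ2 i]
        have hi' : ρ i = i := Perm.notMem_support.mp hi
        have : (A * B).support.filter (fun p => p.2 = i) = (τ i).support ×ˢ {i} := by
          ext p
          simp only [Finset.mem_filter, Perm.mem_support, Finset.mem_product,
            Finset.mem_singleton]
          constructor
          · rintro ⟨h, hp⟩
            refine ⟨fun h2 => h ?_, hp⟩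
            rw [happ]
            apply Prod.ext
            · simp only; rw [hp]; exact h2
            · simp only; rw [hp]; exact hi'
          · rintro ⟨h, hp⟩
            refine ⟨fun h2 => h ?_, hp⟩
            rw [happ] at h2
            have h3 := congrArg Prod.fst h2
            simp only at h3
            rw [hp] at h3
            exact h3
        rw [this, Finset.card_product, Finset.card_singleton, mul_one]
    rw [hsum, Finset.sum_congr rfl (fun i _ => hfib i), Finset.sum_add_distrib,
      ← Finset.mul_sum, hc3, Finset.sum_ite_mem, Finset.univ_inter, Finset.sum_const, hρ2,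
      smul_eq_mul]
    ring

end Model

section Suff

/-- sufficiency, on `Fin (a * b)` -/
theorem uniform_suff {a b r : ℕ} (hr : r.Prime) (u m : ℕ) (hu : r * u ≤ b)
    (hm : m ≤ (b - r * u) * (a / r))
    (σ : Perm (Fin (a * b))) (hσ : σ ^ r = 1) (hj : σ.support.card = r * (a * u + m)) :
    ∃ f : Fin (a * b) → Fin b, (∀ i : Fin b, Nat.card {x : Fin (a * b) // f x = i} = a) ∧
      ∃ π : Perm (Fin b), ∀ x : Fin (a * b), f (σ x) = π (f x) := by
  classical
  obtain ⟨ρ, σ₀, h1, h2, h3⟩ := exists_model (α := Fin a) (β := Fin b) hr u m
    (by rw [Fintype.card_fin]; exact hu) (by rw [Fintype.card_fin, Fintype.card_fin]; exact hm)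
  rw [Fintype.card_fin] at h2
  obtain ⟨g, hg⟩ := exists_equiv_of_pow_prime hr (finProdFinEquiv : Fin a × Fin b ≃ Fin (a * b))
    h1 hσ (h2.trans hj.symm)
  refine ⟨fun x => (g x).2, fun i => ?_, ρ, fun x => ?_⟩
  · have e1 : {x : Fin (a * b) // (g x).2 = i} ≃ {p : Fin a × Fin b // p.2 = i} :=
      g.subtypeEquiv (fun x => Iff.rfl)
    rw [Nat.card_congr e1, Nat.card_eq_fintype_card, Fintype.card_subtype]
    have : (Finset.univ.filter (fun p : Fin a × Fin b => p.2 = i)) = Finset.univ ×ˢ {i} := by
      ext ⟨x, y⟩
      simp only [Finset.mem_filter, Finset.mem_univ, true_and, Finset.mem_product,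
        Finset.mem_singleton]
    rw [this, Finset.card_product, Finset.card_univ, Finset.card_singleton, mul_one,
      Fintype.card_fin]
  · show (g (σ x)).2 = ρ (g x).2
    rw [hg, h3]

end Suff

end Cfsg.Agent.Lib.Helper59
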