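import Mathlib
import Cfsg.Agent.Lib.Helper12.ZassDefs
import Cfsg.Agent.S0016
import Cfsg.Agent.S3378

/-!
# Module AT3 of the Zassenhaus theorem `S0690` (helper12's split)

`at3`: a perfect group with the `Free3` properties, order not divisible by 16, in which every
element of order 3 normalises nontrivially a subgroup of order 8, is `SL(2,5)`.
-/

set_option autoImplicit false

namespace Cfsg.Agent.Lib.Helper59.Zass

open Cfsg.Agent.Lib.Helper12.Zass

variable {G : Type*} [Group G]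

/-! ## Generalities -/

/-- A perfect group has only the trivial homomorphic image that is solvable: a normal subgroup
with solvable quotient is everything. -/
theorem eq_top_of_perfect_of_solvable_quotient (hperf : commutator G = ⊤) (M : Subgroup G)
    [M.Normal] [Group.IsSolvable (G ⧸ M)] : M = ⊤ := by
  by_contra hM
  have hnt : Nontrivial (G ⧸ M) := by
    rw [← not_subsingleton_iff_nontrivial]
    intro hs
    exact hM (QuotientGroup.subgroup_eq_top_of_subsingleton M hs)
  have h1 : commutator (G ⧸ M) < ⊤ := Group.IsSolvable.commutator_lt_top_of_nontrivial (G ⧸ M)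
  have h2 : commutator (G ⧸ M) = ⊤ := by
    have hsurj := QuotientGroup.mk'_surjective M
    rw [commutator_def, ← Subgroup.map_top_of_surjective _ hsurj, ← Subgroup.map_commutator,
      ← commutator_def, hperf]
  exact (ne_of_lt h1) h2


/-- In a finite cyclic group, every element killed by `p` lies in the subgroup generated by any
element of order `p`. -/
theorem mem_zpowers_of_pow_eq_one_of_isCyclic {A : Type*} [Group A] [Finite A] [IsCyclic A]
    {p : ℕ} (hp : 0 < p) (c h : A) (hc : orderOf c = p) (hh : h ^ p = 1) :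
    h ∈ Subgroup.zpowers c := by
  classical
  have : Fintype A := Fintype.ofFinite A
  have hS : (Finset.univ.filter (fun a : A => a ^ p = 1)).card ≤ p :=
    IsCyclic.card_pow_eq_one_le hp
  have hT : ((Subgroup.zpowers c : Set A).toFinset) ⊆ Finset.univ.filter (fun a : A => a ^ p = 1) := by
    intro a ha
    simp only [Set.mem_toFinset, SetLike.mem_coe] at ha
    simp only [Finset.mem_filter, Finset.mem_univ, true_and]
    obtain ⟨k, rfl⟩ := Subgroup.mem_zpowers_iff.mp ha
    rw [← zpow_natCast, ← zpow_mul, mul_comm, zpow_mul, zpow_natCast, ← hc, pow_orderOf_eq_one,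
      one_zpow]
  have hTc : ((Subgroup.zpowers c : Set A).toFinset).card = p := by
    rw [Set.toFinset_card]
    rw [← hc]
    exact Fintype.card_zpowers
  have heq := Finset.eq_of_subset_of_card_le hT (by rw [hTc]; exact hS)
  have : h ∈ Finset.univ.filter (fun a : A => a ^ p = 1) := by
    simp only [Finset.mem_filter, Finset.mem_univ, true_and]; exact hh
  rw [← heq] at this
  simpa using this

/-- A finite `p`-group all of whose abelian subgroups are cyclic has at most one subgroup of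
order `p`. -/
theorem unique_order_p_subgroup {P : Type*} [Group P] [Finite P] (p : ℕ) [hp : Fact p.Prime]
    (hP : IsPGroup p P)
    (hcyc : ∀ A : Subgroup P, (∀ a ∈ A, ∀ b ∈ A, a * b = b * a) → IsCyclic A) :
    ∀ H K : Subgroup P, Nat.card H = p → Nat.card K = p → H = K := by
  intro H K hH hK
  -- a central element of order `p`
  have key : ∃ c : P, c ∈ Subgroup.center P ∧ orderOf c = p := by
    have hnt : Nontrivial P := by
      have : Nontrivial H := by
        rw [← Finite.one_lt_card_iff_nontrivial, hH]; exact hp.out.one_lt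
      obtain ⟨a, b, hab⟩ := this
      exact ⟨⟨a.1, b.1, fun h => hab (Subtype.ext h)⟩⟩
    have hZnt : Nontrivial (Subgroup.center P) := hP.center_nontrivial
    have hZp : IsPGroup p (Subgroup.center P) := hP.to_subgroup _
    have hdvd : p ∣ Nat.card (Subgroup.center P) := by
      rcases hZp.card_eq_or_dvd with h | h
      · exfalso
        have := (Finite.one_lt_card_iff_nontrivial (α := Subgroup.center P)).mpr hZnt
        omega
      · exact h
    obtain ⟨c, hc⟩ := exists_prime_orderOf_dvd_card' p hdvd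
    exact ⟨c.1, c.2, by rw [← hc, Subgroup.orderOf_coe]⟩
  · obtain ⟨c, hcZ, hc⟩ := key
    have main : ∀ L : Subgroup P, Nat.card L = p → L = Subgroup.zpowers c := by
      intro L hL
      have hcard : Nat.card (Subgroup.zpowers c) = p := by rw [Nat.card_zpowers, hc]
      refine Subgroup.eq_of_le_of_card_ge ?_ (by rw [hL, hcard])
      intro l hl
      have hlp : l ^ p = 1 := by
        have h1 : (⟨l, hl⟩ : L) ^ Nat.card L = 1 := pow_card_eq_one'
        rw [hL] at h1
        simpa using congrArg Subtype.val h1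
      -- the abelian subgroup `C(C(l))`
      set A : Subgroup P := Subgroup.centralizer (Subgroup.centralizer ({l} : Set P) : Set P)
        with hA
      have hlA : l ∈ A := by
        rw [hA, Subgroup.mem_centralizer_iff]
        intro h hh
        have := (Subgroup.mem_centralizer_iff.mp hh) l (Set.mem_singleton l)
        exact this.symm
      have hcA : c ∈ A := by
        rw [hA, Subgroup.mem_centralizer_iff]
        intro h _
        exact (Subgroup.mem_center_iff.mp hcZ) h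
      have hAcomm : ∀ a ∈ A, ∀ b ∈ A, a * b = b * a := by
        intro a ha b hb
        have haC : a ∈ Subgroup.centralizer ({l} : Set P) := by
          rw [Subgroup.mem_centralizer_iff]
          intro y hy
          rw [Set.mem_singleton_iff] at hy
          subst hy
          have hyC : y ∈ Subgroup.centralizer ({y} : Set P) := by
            rw [Subgroup.mem_centralizer_iff]
            intro z hz
            rw [Set.mem_singleton_iff] at hz
            rw [hz]
          exact (Subgroup.mem_centralizer_iff.mp ha) y hyC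
        exact (Subgroup.mem_centralizer_iff.mp hb) a haC
      have hAcyc : IsCyclic A := hcyc A hAcomm
      have hmem := mem_zpowers_of_pow_eq_one_of_isCyclic (A := A) hp.out.pos ⟨c, hcA⟩ ⟨l, hlA⟩
        (by rw [Subgroup.orderOf_mk]; exact hc)
        (by ext; simpa using hlp)
      obtain ⟨k, hk⟩ := Subgroup.mem_zpowers_iff.mp hmem
      rw [Subgroup.mem_zpowers_iff]
      refine ⟨k, ?_⟩
      simpa using congrArg Subtype.val hk
    rw [main H hH, main K hK]


/-- The cyclicity hypothesis descends to subgroups. -/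
theorem cyc_subgroup (hcyc : ∀ A : Subgroup G, (∀ a ∈ A, ∀ b ∈ A, a * b = b * a) → IsCyclic A)
    (P : Subgroup G) :
    ∀ A : Subgroup P, (∀ a ∈ A, ∀ b ∈ A, a * b = b * a) → IsCyclic A := by
  intro A hA
  have h1 : IsCyclic (A.map P.subtype) := by
    apply hcyc
    rintro _ ⟨a, ha, rfl⟩ _ ⟨b, hb, rfl⟩
    have := hA a ha b hb
    simpa using congrArg Subtype.val this
  exact isCyclic_of_surjective _
    (Subgroup.equivMapOfInjective A P.subtype P.subtype_injective).symm.surjective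

/-- If all abelian subgroups are cyclic, `p`-subgroups for odd `p` are cyclic. -/
theorem isCyclic_of_isPGroup_odd [Finite G]
    (hcyc : ∀ A : Subgroup G, (∀ a ∈ A, ∀ b ∈ A, a * b = b * a) → IsCyclic A)
    (p : ℕ) [Fact p.Prime] (hp2 : p ≠ 2) (P : Subgroup G) (hP : IsPGroup p P) : IsCyclic P := by
  have huniq := unique_order_p_subgroup p hP (cyc_subgroup hcyc P)
  rcases Cfsg.Agent.S0016.result p hP huniq with h | ⟨h, _⟩
  · exact h
  · exact absurd h hp2

/-- If all abelian subgroups are cyclic, the quotient by a normal subgroup of odd index is a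
`Z`-group. -/
theorem isZGroup_quotient_of_odd_index [Finite G]
    (hcyc : ∀ A : Subgroup G, (∀ a ∈ A, ∀ b ∈ A, a * b = b * a) → IsCyclic A)
    (M : Subgroup G) [M.Normal] (hodd : Odd M.index) : IsZGroup (G ⧸ M) := by
  rw [isZGroup_iff]
  intro p hp P
  have := Fact.mk hp
  by_cases hp2 : p = 2
  · subst hp2
    -- a `2`-subgroup of a group of odd order is trivial
    have hcard : Nat.card (G ⧸ M) = M.index := rfl
    obtain ⟨k, hk⟩ := IsPGroup.iff_card.mp P.isPGroup'
    have hdvd : Nat.card P ∣ M.index := hcard ▸ Subgroup.card_subgroup_dvd_card (P : Subgroup (G ⧸ M))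
    have hk0 : k = 0 := by
      by_contra hk0
      have : 2 ∣ M.index := dvd_trans (hk ▸ dvd_pow_self 2 hk0) hdvd
      exact (Nat.not_even_iff_odd.mpr hodd) (even_iff_two_dvd.mpr this)
    rw [hk0, pow_zero] at hk
    have : Subsingleton P := (Nat.card_eq_one_iff_unique.mp hk).1
    exact isCyclic_of_subsingleton
  · obtain ⟨Q, rfl⟩ := Sylow.mapSurjective_surjective (QuotientGroup.mk'_surjective M) p P
    have hQ : IsCyclic Q := isCyclic_of_isPGroup_odd hcyc p hp2 Q Q.isPGroup'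
    exact isCyclic_of_surjective _ ((QuotientGroup.mk' M).subgroupMap_surjective Q)

/-- In a perfect group all of whose abelian subgroups are cyclic, a normal subgroup of odd index
is the whole group. -/
theorem eq_top_of_perfect_of_odd_index [Finite G]
    (hcyc : ∀ A : Subgroup G, (∀ a ∈ A, ∀ b ∈ A, a * b = b * a) → IsCyclic A)
    (hperf : commutator G = ⊤) (M : Subgroup G) [M.Normal] (hodd : Odd M.index) : M = ⊤ := by
  have := isZGroup_quotient_of_odd_index hcyc M hodd
  exact eq_top_of_perfect_of_solvable_quotient hperf M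


/-! ## Sylow `2`-subgroups of order 8 -/

/-- In a finite group, an element conjugating a subgroup into itself normalises it. -/
theorem mem_normalizer_of_conj_mem [Finite G] (Q : Subgroup G) (g : G)
    (hg : ∀ q ∈ Q, g * q * g⁻¹ ∈ Q) : g ∈ Subgroup.normalizer (Q : Set G) := by
  rw [Subgroup.mem_normalizer_iff]
  intro h
  refine ⟨hg h, fun hh => ?_⟩
  let φ : Q → Q := fun q => ⟨g * q.1 * g⁻¹, hg q.1 q.2⟩
  have hinj : Function.Injective φ := by
    intro a b hab
    have : g * a.1 * g⁻¹ = g * b.1 * g⁻¹ := congrArg Subtype.val hab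
    apply Subtype.ext
    simpa using this
  have hsurj : Function.Surjective φ := Finite.injective_iff_surjective.mp hinj
  obtain ⟨q, hq⟩ := hsurj ⟨g * h * g⁻¹, hh⟩
  have : g * q.1 * g⁻¹ = g * h * g⁻¹ := congrArg Subtype.val hq
  have hqh : q.1 = h := by simpa using this
  rw [← hqh]; exact q.2

theorem factorization_two_eq_three [Finite G] (h16 : ¬ 16 ∣ Nat.card G) (Q : Subgroup G)
    (hQ : Nat.card Q = 8) : (Nat.card G).factorization 2 = 3 := by
  have hne : Nat.card G ≠ 0 := Nat.card_pos.ne'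
  have h8 : 2 ^ 3 ∣ Nat.card G := by
    have := Subgroup.card_subgroup_dvd_card Q
    rw [hQ] at this; exact this
  have h1 : 3 ≤ (Nat.card G).factorization 2 :=
    (Nat.Prime.pow_dvd_iff_le_factorization Nat.prime_two hne).mp h8
  have h2 : ¬ 4 ≤ (Nat.card G).factorization 2 := by
    intro h4
    have : 2 ^ 4 ∣ Nat.card G := (Nat.Prime.pow_dvd_iff_le_factorization Nat.prime_two hne).mpr h4
    exact h16 (by norm_num at this; exact this)
  omega

/-- A subgroup of order 8 as a Sylow `2`-subgroup. -/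
noncomputable def sylowOf [Finite G] (h16 : ¬ 16 ∣ Nat.card G) (Q : Subgroup G)
    (hQ : Nat.card Q = 8) : Sylow 2 G :=
  haveI : Fact (Nat.Prime 2) := ⟨Nat.prime_two⟩
  Sylow.ofCard Q (by rw [hQ, factorization_two_eq_three h16 Q hQ]; norm_num)

theorem coe_sylowOf [Finite G] (h16 : ¬ 16 ∣ Nat.card G) (Q : Subgroup G)
    (hQ : Nat.card Q = 8) : ((sylowOf h16 Q hQ : Sylow 2 G) : Subgroup G) = Q := rfl

/-- A `2`-element normalising a Sylow `2`-subgroup of order 8 lies in it. -/
theorem mem_of_two_element_normalizes [Finite G] (h16 : ¬ 16 ∣ Nat.card G) (Q : Subgroup G)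
    (hQ : Nat.card Q = 8) (t : G) (a : ℕ) (ht : t ^ 2 ^ a = 1)
    (hn : ∀ q ∈ Q, t * q * t⁻¹ ∈ Q) : t ∈ Q := by
  have : Fact (Nat.Prime 2) := ⟨Nat.prime_two⟩
  have hdvd : orderOf t ∣ 2 ^ a := orderOf_dvd_of_pow_eq_one ht
  obtain ⟨b, _, hb⟩ := (Nat.dvd_prime_pow Nat.prime_two).mp hdvd
  have hP : IsPGroup 2 (Subgroup.zpowers t) :=
    IsPGroup.of_card (n := b) (by rw [Nat.card_zpowers, hb])
  have h1 := hP.inf_normalizer_sylow (sylowOf h16 Q hQ)
  have h2 : t ∈ Subgroup.zpowers t ⊓ Subgroup.normalizer ((sylowOf h16 Q hQ : Sylow 2 G) : Set G) :=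
    ⟨Subgroup.mem_zpowers t, mem_normalizer_of_conj_mem Q t hn⟩
  rw [h1] at h2
  exact h2.2

/-- A subgroup containing a subgroup of order 8 has odd index. -/
theorem odd_index_of_le [Finite G] (h16 : ¬ 16 ∣ Nat.card G) (Q : Subgroup G)
    (hQ : Nat.card Q = 8) (M : Subgroup G) (hQM : Q ≤ M) : Odd M.index := by
  rw [← Nat.not_even_iff_odd]
  intro he
  obtain ⟨k, hk⟩ := even_iff_two_dvd.mp he
  have h8 : 8 ∣ Nat.card M := by
    have := Subgroup.card_dvd_of_le hQM
    rwa [hQ] at this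
  obtain ⟨j, hj⟩ := h8
  apply h16
  rw [← Subgroup.card_mul_index M, hj, hk]
  exact ⟨j * k, by ring⟩


/-! ## `[Q, x] = Q` -/

/-- A normal subgroup containing the element `x` of order 3 contains every subgroup of order 8
normalised nontrivially by `x` (when there is only one involution). -/
theorem le_of_QSub [Finite G] (hinv : ∀ s t : G, orderOf s = 2 → orderOf t = 2 → s = t)
    (x : G) (hx : orderOf x = 3) (Q : Subgroup G) (hQ : QSub x Q) (L : Subgroup G) [hL : L.Normal]
    (hxL : x ∈ L) : Q ≤ L := by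
  obtain ⟨hcard, hnorm, q₀, hq₀, hq₀x⟩ := hQ
  have hx3 : x ^ 3 = 1 := by rw [← hx]; exact pow_orderOf_eq_one x
  have hxxx : x * x * x = 1 := by rw [← hx3, pow_succ, pow_two]
  have hxinvL : x⁻¹ ∈ L := L.inv_mem hxL
  -- the subgroup `R = L ⊓ Q`
  have hi : ∀ q ∈ Q, x * q * x⁻¹ * q⁻¹ ∈ L ⊓ Q := by
    intro q hq
    refine ⟨?_, Q.mul_mem (hnorm q hq) (Q.inv_mem hq)⟩
    have : q * x⁻¹ * q⁻¹ ∈ L := hL.conj_mem _ hxinvL q
    have h2 := L.mul_mem hxL this
    have e : x * (q * x⁻¹ * q⁻¹) = x * q * x⁻¹ * q⁻¹ := by group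
    rwa [e] at h2
  have hii : ∀ r ∈ L ⊓ Q, x * r * x⁻¹ ∈ L ⊓ Q := by
    intro r hr
    exact ⟨hL.conj_mem _ hr.1 x, hnorm r hr.2⟩
  have hpow8 : ∀ q ∈ Q, q ^ 8 = 1 := by
    intro q hq
    have h1 : (⟨q, hq⟩ : Q) ^ Nat.card Q = 1 := pow_card_eq_one'
    rw [hcard] at h1
    simpa using congrArg Subtype.val h1
  -- some element of `R` is moved by `x`
  have hiii : ∃ r₀ ∈ L ⊓ Q, x * r₀ * x⁻¹ ≠ r₀ := by
    by_contra hall
    push Not at hall
    apply hq₀x
    have hr : x * q₀ * x⁻¹ * q₀⁻¹ ∈ L ⊓ Q := hi q₀ hq₀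
    set r := x * q₀ * x⁻¹ * q₀⁻¹ with hrdef
    have hrx : x * r * x⁻¹ = r := hall r hr
    have e1 : x * q₀ * x⁻¹ = r * q₀ := by rw [hrdef]; group
    have e2 : x * (x * q₀ * x⁻¹) * x⁻¹ = r * r * q₀ := by
      rw [e1]
      calc x * (r * q₀) * x⁻¹ = (x * r * x⁻¹) * (x * q₀ * x⁻¹) := by group
        _ = r * (r * q₀) := by rw [hrx, e1]
        _ = r * r * q₀ := by group
    have e3 : x * (x * (x * q₀ * x⁻¹) * x⁻¹) * x⁻¹ = r * r * r * q₀ := by
      rw [e2]
      calc x * (r * r * q₀) * x⁻¹ = (x * r * x⁻¹) * (x * r * x⁻¹) * (x * q₀ * x⁻¹) := by group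
        _ = r * r * (r * q₀) := by rw [hrx, e1]
        _ = r * r * r * q₀ := by group
    have e4 : x * (x * (x * q₀ * x⁻¹) * x⁻¹) * x⁻¹ = q₀ := by
      calc x * (x * (x * q₀ * x⁻¹) * x⁻¹) * x⁻¹ = (x * x * x) * q₀ * (x * x * x)⁻¹ := by
            simp only [mul_assoc, mul_inv_rev]
        _ = q₀ := by rw [hxxx]; simp
    have hr3 : r ^ 3 = 1 := by
      have : r * r * r * q₀ = q₀ := by rw [← e3, e4]
      have h2 : r * r * r = 1 := by
        have := congrArg (· * q₀⁻¹) this
        simpa using this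
      rw [pow_succ, pow_two]; exact h2
    have hr8 : r ^ 8 = 1 := hpow8 r hr.2
    have hr1 : r = 1 := by
      have h9 : r ^ 9 = 1 := by rw [show 9 = 3 * 3 from rfl, pow_mul, hr3, one_pow]
      have h9' : r ^ 9 = r ^ 8 * r := pow_succ r 8
      rw [hr8, one_mul] at h9'
      rw [← h9', h9]
    rw [e1, hr1, one_mul]
  obtain ⟨r₀, hr₀, hr₀x⟩ := hiii
  by_contra hle
  -- the orbit of `r₀`
  set r₁ := x * r₀ * x⁻¹ with hr₁def
  set r₂ := x * r₁ * x⁻¹ with hr₂def
  have hr₁ : r₁ ∈ L ⊓ Q := hii r₀ hr₀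
  have hr₂ : r₂ ∈ L ⊓ Q := hii r₁ hr₁
  have h20 : x * r₂ * x⁻¹ = r₀ := by
    calc x * r₂ * x⁻¹ = (x * x * x) * r₀ * (x * x * x)⁻¹ := by
          rw [hr₂def, hr₁def]; simp only [mul_assoc, mul_inv_rev]
      _ = r₀ := by rw [hxxx]; simp
  have h01 : r₀ ≠ r₁ := fun h => hr₀x h.symm
  have h12 : r₁ ≠ r₂ := by
    intro h
    apply h01
    have : x * r₀ * x⁻¹ = x * r₁ * x⁻¹ := h
    simpa using this
  have h02 : r₀ ≠ r₂ := by
    intro h
    apply h12
    -- `x r₀ x⁻¹ = x r₂ x⁻¹ = r₀`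
    have : r₁ = r₀ := by rw [hr₁def]; nth_rewrite 1 [h]; exact h20
    exact absurd this.symm h01
  -- an involution in `R`
  have hr₀1 : r₀ ≠ 1 := by
    intro h
    apply hr₀x
    rw [hr₁def, h]; simp
  have h2dvd : 2 ∣ Nat.card (L ⊓ Q : Subgroup G) := by
    have h1 : orderOf r₀ ∣ 2 ^ 3 := orderOf_dvd_of_pow_eq_one (by norm_num; exact hpow8 r₀ hr₀.2)
    obtain ⟨b, _, hb⟩ := (Nat.dvd_prime_pow Nat.prime_two).mp h1
    have hb0 : b ≠ 0 := by
      intro h0
      rw [h0, pow_zero, orderOf_eq_one_iff] at hb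
      exact hr₀1 hb
    have h2 : 2 ∣ orderOf r₀ := by rw [hb]; exact dvd_pow_self 2 hb0
    have h3 : orderOf r₀ ∣ Nat.card (L ⊓ Q : Subgroup G) := by
      have := orderOf_dvd_natCard (⟨r₀, hr₀⟩ : (L ⊓ Q : Subgroup G))
      rwa [Subgroup.orderOf_mk] at this
    exact dvd_trans h2 h3
  have : Fact (Nat.Prime 2) := ⟨Nat.prime_two⟩
  obtain ⟨t', ht'⟩ := exists_prime_orderOf_dvd_card' 2 h2dvd
  set t : G := t'.1 with htdef
  have htR : t ∈ L ⊓ Q := t'.2
  have ht2 : orderOf t = 2 := by rw [htdef, Subgroup.orderOf_coe]; exact ht'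
  have htx : x * t * x⁻¹ = t := by
    apply hinv
    · have : orderOf (x * t * x⁻¹) = orderOf t := by
        have := orderOf_injective (MulAut.conj x).toMonoidHom (MulAut.conj x).injective t
        simpa using this
      rw [this, ht2]
    · exact ht2
  have ht0 : t ≠ r₀ := fun h => hr₀x (by rw [hr₁def, ← h]; exact htx)
  have ht1 : t ≠ r₁ := by
    intro h
    apply h12
    have : x * r₁ * x⁻¹ = r₁ := h ▸ htx
    exact this.symm
  have ht2' : t ≠ r₂ := by
    intro h
    apply h02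
    have : x * r₂ * x⁻¹ = r₂ := h ▸ htx
    rw [h20] at this
    exact this
  have ht1' : t ≠ 1 := by
    intro h
    rw [h, orderOf_one] at ht2
    omega
  have hr₁1 : r₁ ≠ 1 := by
    intro h
    apply hr₀1
    have : x * r₀ * x⁻¹ = 1 := h
    have h2 : r₀ = x⁻¹ * (x * r₀ * x⁻¹) * x := by group
    rw [h2, this]; group
  have hr₂1 : r₂ ≠ 1 := by
    intro h
    apply hr₁1
    have : x * r₁ * x⁻¹ = 1 := h
    have h2 : r₁ = x⁻¹ * (x * r₁ * x⁻¹) * x := by group
    rw [h2, this]; group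
  -- five distinct elements in `R`
  classical
  have hfive : 5 ≤ Nat.card (L ⊓ Q : Subgroup G) := by
    have hsub : (({1, t, r₀, r₁, r₂} : Finset G) : Set G) ⊆ ((L ⊓ Q : Subgroup G) : Set G) := by
      intro a ha
      simp only [Finset.coe_insert, Finset.coe_singleton, Set.mem_insert_iff,
        Set.mem_singleton_iff] at ha
      rcases ha with rfl | rfl | rfl | rfl | rfl
      · exact (L ⊓ Q).one_mem
      · exact htR
      · exact hr₀
      · exact hr₁
      · exact hr₂
    have hc : ({1, t, r₀, r₁, r₂} : Finset G).card = 5 := by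
      rw [Finset.card_insert_of_notMem, Finset.card_insert_of_notMem,
        Finset.card_insert_of_notMem, Finset.card_insert_of_notMem, Finset.card_singleton]
      · simp only [Finset.mem_singleton]; exact h12
      · simp only [Finset.mem_insert, Finset.mem_singleton, not_or]; exact ⟨h01, h02⟩
      · simp only [Finset.mem_insert, Finset.mem_singleton, not_or]; exact ⟨ht0, ht1, ht2'⟩
      · simp only [Finset.mem_insert, Finset.mem_singleton, not_or]
        exact ⟨ht1'.symm, hr₀1.symm, hr₁1.symm, hr₂1.symm⟩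
    have h1 := Set.ncard_le_ncard hsub (Set.toFinite _)
    rw [Set.ncard_coe_finset, hc] at h1
    have h2 : Nat.card (L ⊓ Q : Subgroup G) = ((L ⊓ Q : Subgroup G) : Set G).ncard :=
      Nat.card_coe_set_eq _
    rw [h2]; exact h1
  -- hence `R = Q`
  have hdvd : Nat.card (L ⊓ Q : Subgroup G) ∣ 8 := by
    have := Subgroup.card_dvd_of_le (inf_le_right : L ⊓ Q ≤ Q)
    rwa [hcard] at this
  have h8 : Nat.card (L ⊓ Q : Subgroup G) = 8 := by
    have hle8 := Nat.le_of_dvd (by norm_num) hdvd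
    interval_cases hk : Nat.card (L ⊓ Q : Subgroup G) <;> omega
  have hRQ : L ⊓ Q = Q :=
    Subgroup.eq_of_le_of_card_ge inf_le_right (by rw [h8, hcard])
  exact hle (hRQ ▸ inf_le_left)


/-! ## No element normalising `Q` inverts `x` -/

theorem conj_pow_odd_of_inverts (x w : G) (hw : w * x * w⁻¹ = x⁻¹) (k : ℕ) :
    w ^ (2 * k + 1) * x * (w ^ (2 * k + 1))⁻¹ = x⁻¹ := by
  have hw2 : (w * w) * x * (w * w)⁻¹ = x := by
    calc (w * w) * x * (w * w)⁻¹ = w * (w * x * w⁻¹) * w⁻¹ := by simp only [mul_assoc, mul_inv_rev]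
      _ = w * x⁻¹ * w⁻¹ := by rw [hw]
      _ = (w * x * w⁻¹)⁻¹ := by simp only [mul_assoc, mul_inv_rev, inv_inv]
      _ = x := by rw [hw, inv_inv]
  induction k with
  | zero => simpa using hw
  | succ k ih =>
    have e : w ^ (2 * (k + 1) + 1) = w ^ (2 * k + 1) * (w * w) := by
      rw [show 2 * (k + 1) + 1 = (2 * k + 1) + 2 by ring, pow_add, pow_two]
    rw [e]
    calc w ^ (2 * k + 1) * (w * w) * x * (w ^ (2 * k + 1) * (w * w))⁻¹
        = w ^ (2 * k + 1) * ((w * w) * x * (w * w)⁻¹) * (w ^ (2 * k + 1))⁻¹ := by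
          simp only [mul_assoc, mul_inv_rev]
      _ = x⁻¹ := by rw [hw2, ih]

theorem no_inverting_normalizer [Finite G] (h16 : ¬ 16 ∣ Nat.card G) (Q : Subgroup G)
    (hQ : Nat.card Q = 8) (x w : G) (hx : orderOf x = 3)
    (hxn : ∀ q ∈ Q, x * q * x⁻¹ ∈ Q) (hwn : ∀ q ∈ Q, w * q * w⁻¹ ∈ Q)
    (hw : w * x * w⁻¹ = x⁻¹) : False := by
  have ho : orderOf w ≠ 0 := (orderOf_pos w).ne'
  obtain ⟨a, m, hm, hom⟩ := Nat.exists_eq_two_pow_mul_odd ho
  obtain ⟨k, rfl⟩ := hm
  set t := w ^ (2 * k + 1) with ht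
  have ht2 : t ^ 2 ^ a = 1 := by
    rw [ht, ← pow_mul, mul_comm, ← hom, pow_orderOf_eq_one]
  have htx : t * x * t⁻¹ = x⁻¹ := conj_pow_odd_of_inverts x w hw k
  have hwN : w ∈ Subgroup.normalizer (Q : Set G) := mem_normalizer_of_conj_mem Q w hwn
  have htN : t ∈ Subgroup.normalizer (Q : Set G) := Subgroup.pow_mem _ hwN _
  have htn : ∀ q ∈ Q, t * q * t⁻¹ ∈ Q := fun q hq => (Subgroup.mem_normalizer_iff.mp htN q).mp hq
  have htQ : t ∈ Q := mem_of_two_element_normalizes h16 Q hQ t a ht2 htn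
  have h1 : x * t * x⁻¹ * t⁻¹ ∈ Q := Q.mul_mem (hxn t htQ) (Q.inv_mem htQ)
  have h2 : x * t * x⁻¹ * t⁻¹ = x * x := by
    calc x * t * x⁻¹ * t⁻¹ = x * (t * x * t⁻¹)⁻¹ := by simp only [mul_assoc, mul_inv_rev, inv_inv]
      _ = x * x := by rw [htx, inv_inv]
  rw [h2] at h1
  have h3 : (x * x) ^ 8 = 1 := by
    have h : (⟨x * x, h1⟩ : Q) ^ Nat.card Q = 1 := pow_card_eq_one'
    rw [hQ] at h
    simpa using congrArg Subtype.val h
  have h4 : x ^ 16 = 1 := by
    rw [← h3, ← pow_two, ← pow_mul]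
  have h5 : orderOf x ∣ 16 := orderOf_dvd_of_pow_eq_one h4
  rw [hx] at h5
  omega


/-! ## The main theorem -/

theorem orderOf_conj_eq (g x : G) : orderOf (g * x * g⁻¹) = orderOf x := by
  have := orderOf_injective (MulAut.conj g).toMonoidHom (MulAut.conj g).injective x
  simpa using this

/-- Module AT3 of `S0690`. -/
theorem at3 {G : Type*} [Group G] [Finite G] (h : Free3 G) (hperf : commutator G = ⊤)
    (h16 : ¬ 16 ∣ Nat.card G) (x : G) (hx : orderOf x = 3)
    (hQ : ∀ y : G, orderOf y = 3 → ∃ Q : Subgroup G, QSub y Q) :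
    Nonempty (G ≃* Matrix.SpecialLinearGroup (Fin 2) (ZMod 5)) := by
  obtain ⟨Q₁, hQ₁⟩ := hQ x hx
  have hc₁ : Nat.card Q₁ = 8 := hQ₁.1
  have hx8 : ∀ Q : Subgroup G, Nat.card Q = 8 → x ∉ Q := by
    intro Q hcQ hxQ
    have h1 : (⟨x, hxQ⟩ : Q) ^ Nat.card Q = 1 := pow_card_eq_one'
    rw [hcQ] at h1
    have h2 : x ^ 8 = 1 := by simpa using congrArg Subtype.val h1
    have h3 : orderOf x ∣ 8 := orderOf_dvd_of_pow_eq_one h2
    rw [hx] at h3
    omega
  -- Step 1: a second subgroup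
  have step1 : ∃ Q₂, QSub x Q₂ ∧ Q₂ ≠ Q₁ := by
    by_contra hno
    push Not at hno
    have hxX : x ∈ Subgroup.normalClosure ({x} : Set G) :=
      Subgroup.subset_normalClosure (Set.mem_singleton x)
    have hQX : Q₁ ≤ Subgroup.normalClosure ({x} : Set G) :=
      le_of_QSub h.inv x hx Q₁ hQ₁ _ hxX
    have hXtop : Subgroup.normalClosure ({x} : Set G) = ⊤ :=
      eq_top_of_perfect_of_odd_index h.cyc hperf _ (odd_index_of_le h16 Q₁ hc₁ _ hQX)
    have hXW : Subgroup.normalClosure ({x} : Set G) ≤ Q₁ ⊔ Subgroup.zpowers x := by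
      unfold Subgroup.normalClosure
      rw [Subgroup.closure_le]
      intro y hy
      rw [SetLike.mem_coe]
      rw [Group.mem_conjugatesOfSet_iff] at hy
      obtain ⟨a, ha, hconj⟩ := hy
      rw [Set.mem_singleton_iff] at ha
      subst ha
      obtain ⟨c, hc⟩ := isConj_iff.mp hconj
      have hy3 : orderOf y = 3 := by rw [← hc, orderOf_conj_eq, hx]
      by_cases hyx : y ∈ Subgroup.zpowers a
      · exact (le_sup_right : Subgroup.zpowers a ≤ Q₁ ⊔ Subgroup.zpowers a) hyx
      · have hmem := h.e5 a y hx hy3 hyx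
        refine (Subgroup.closure_le _).mpr ?_ hmem
        rintro g (hg | ⟨Q, hQ', hg⟩)
        · rw [Set.mem_singleton_iff] at hg
          rw [hg]
          exact (le_sup_right : Subgroup.zpowers a ≤ Q₁ ⊔ Subgroup.zpowers a)
            (Subgroup.mem_zpowers a)
        · rw [hno Q hQ'] at hg
          exact (le_sup_left : Q₁ ≤ Q₁ ⊔ Subgroup.zpowers a) hg
    have hnorm : ∀ g : G, ∀ q ∈ Q₁, g * q * g⁻¹ ∈ Q₁ := by
      intro g
      have hg : g ∈ Q₁ ⊔ Subgroup.zpowers x := hXW (hXtop ▸ Subgroup.mem_top g)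
      have hle : Q₁ ⊔ Subgroup.zpowers x ≤ Subgroup.normalizer (Q₁ : Set G) :=
        sup_le Subgroup.le_normalizer
          ((Subgroup.zpowers_le).mpr (mem_normalizer_of_conj_mem Q₁ x hQ₁.2.1))
      intro q hq
      exact (Subgroup.mem_normalizer_iff.mp (hle hg) q).mp hq
    have hQn : Q₁.Normal := ⟨fun q hq g => hnorm g q hq⟩
    have hQtop : Q₁ = ⊤ :=
      eq_top_of_perfect_of_odd_index h.cyc hperf Q₁ (odd_index_of_le h16 Q₁ hc₁ Q₁ le_rfl)
    exact hx8 Q₁ hc₁ (hQtop ▸ Subgroup.mem_top x)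
  obtain ⟨Q₂, hQ₂, hne⟩ := step1
  -- Step 2: no third subgroup
  have step2 : ∀ Q, QSub x Q → Q = Q₁ ∨ Q = Q₂ := by
    intro Q₃ hQ₃
    by_contra hcon
    push Not at hcon
    obtain ⟨_, u12, hu12x, hu12a, hu12b⟩ := h.e8 x Q₁ Q₂ hx hQ₁ hQ₂ hne.symm
    obtain ⟨_, u23, hu23x, hu23a, hu23b⟩ := h.e8 x Q₂ Q₃ hx hQ₂ hQ₃ (Ne.symm hcon.2)
    obtain ⟨_, u31, hu31x, hu31a, hu31b⟩ := h.e8 x Q₃ Q₁ hx hQ₃ hQ₁ hcon.1
    apply no_inverting_normalizer h16 Q₁ hc₁ x (u12 * u23 * u31) hx hQ₁.2.1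
    · intro q hq
      have := hu12b _ (hu23b _ (hu31b q hq))
      have e : u12 * u23 * u31 * q * (u12 * u23 * u31)⁻¹ =
          u12 * (u23 * (u31 * q * u31⁻¹) * u23⁻¹) * u12⁻¹ := by
        simp only [mul_assoc, mul_inv_rev]
      rw [e]; exact this
    · calc u12 * u23 * u31 * x * (u12 * u23 * u31)⁻¹
          = u12 * (u23 * (u31 * x * u31⁻¹) * u23⁻¹) * u12⁻¹ := by
            simp only [mul_assoc, mul_inv_rev]
        _ = u12 * (u23 * x⁻¹ * u23⁻¹) * u12⁻¹ := by rw [hu31x]
        _ = u12 * (u23 * x * u23⁻¹)⁻¹ * u12⁻¹ := by simp only [mul_assoc, mul_inv_rev, inv_inv]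
        _ = u12 * x * u12⁻¹ := by rw [hu23x, inv_inv]
        _ = x⁻¹ := hu12x
  -- Step 3: `G = Q₁ ⊔ Q₂ ⊔ ⟨x⟩` has order 120
  have hH : Nat.card ↥(Q₁ ⊔ Q₂ ⊔ Subgroup.zpowers x) = 120 :=
    (h.e8 x Q₁ Q₂ hx hQ₁ hQ₂ hne.symm).1
  have hxL : x ∈ Subgroup.normalClosure {y : G | orderOf y = 3} :=
    Subgroup.subset_normalClosure hx
  have hLH : Subgroup.normalClosure {y : G | orderOf y = 3} ≤ Q₁ ⊔ Q₂ ⊔ Subgroup.zpowers x := by
    unfold Subgroup.normalClosure
    rw [Subgroup.closure_le]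
    intro y hy
    rw [SetLike.mem_coe]
    rw [Group.mem_conjugatesOfSet_iff] at hy
    obtain ⟨a, ha, hconj⟩ := hy
    obtain ⟨c, hc⟩ := isConj_iff.mp hconj
    have hy3 : orderOf y = 3 := by rw [← hc, orderOf_conj_eq]; exact ha
    by_cases hyx : y ∈ Subgroup.zpowers x
    · exact (le_sup_right : Subgroup.zpowers x ≤ Q₁ ⊔ Q₂ ⊔ Subgroup.zpowers x) hyx
    · have hmem := h.e5 x y hx hy3 hyx
      refine (Subgroup.closure_le _).mpr ?_ hmem
      rintro g (hg | ⟨Q, hQ', hg⟩)
      · rw [Set.mem_singleton_iff] at hg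
        rw [hg]
        exact (le_sup_right : Subgroup.zpowers x ≤ Q₁ ⊔ Q₂ ⊔ Subgroup.zpowers x)
          (Subgroup.mem_zpowers x)
      · rcases step2 Q hQ' with rfl | rfl
        · exact (le_sup_left : Q ⊔ Q₂ ≤ Q ⊔ Q₂ ⊔ Subgroup.zpowers x)
            ((le_sup_left : Q ≤ Q ⊔ Q₂) hg)
        · exact (le_sup_left : Q₁ ⊔ Q ≤ Q₁ ⊔ Q ⊔ Subgroup.zpowers x)
            ((le_sup_right : Q ≤ Q₁ ⊔ Q) hg)
  have hQL : Q₁ ≤ Subgroup.normalClosure {y : G | orderOf y = 3} :=
    le_of_QSub h.inv x hx Q₁ hQ₁ _ hxL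
  have hLtop : Subgroup.normalClosure {y : G | orderOf y = 3} = ⊤ :=
    eq_top_of_perfect_of_odd_index h.cyc hperf _ (odd_index_of_le h16 Q₁ hc₁ _ hQL)
  have hHtop : Q₁ ⊔ Q₂ ⊔ Subgroup.zpowers x = ⊤ := top_le_iff.mp (hLtop ▸ hLH)
  have hcard : Nat.card G = 120 := by
    rw [← hH, hHtop, Subgroup.card_top]
  -- Step 4: recognition
  have hx1 : x ≠ 1 := by
    intro h1
    rw [h1, orderOf_one] at hx
    omega
  have hnt : Nontrivial G := ⟨⟨x, 1, hx1⟩⟩
  have hns : ¬ Group.IsSolvable G := by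
    intro hs
    have := Group.IsSolvable.commutator_lt_top_of_nontrivial G
    exact (ne_of_lt this) hperf
  have hfact : (Nat.card G).factorization 2 = 3 := factorization_two_eq_three h16 Q₁ hc₁
  have : Fact (Nat.Prime 2) := ⟨Nat.prime_two⟩
  refine Cfsg.Agent.S3378.result.1 G hcard hns ?_
  intro P
  have hPcard : Nat.card P = 8 := by
    rw [Sylow.card_eq_multiplicity, hfact]; norm_num
  have huniq := unique_order_p_subgroup 2 P.isPGroup' (cyc_subgroup h.cyc P)
  rcases Cfsg.Agent.S0016.result 2 P.isPGroup' huniq with hcyc | ⟨_, n, ⟨e⟩⟩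
  · -- all Sylow subgroups cyclic: `G` is a `Z`-group, hence solvable
    exfalso
    apply hns
    have hZ : IsZGroup G := by
      rw [isZGroup_iff]
      intro p hp P'
      have := Fact.mk hp
      by_cases hp2 : p = 2
      · subst hp2
        exact isCyclic_of_surjective _ (Sylow.equiv P P').surjective
      · exact isCyclic_of_isPGroup_odd h.cyc p hp2 P' P'.isPGroup'
    infer_instance
  · have hn : 2 ^ n = 2 := by
      have h1 : Nat.card (QuaternionGroup (2 ^ n)) = 8 := by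
        rw [← Nat.card_congr e.toEquiv, hPcard]
      have : NeZero (2 ^ n) := ⟨by positivity⟩
      rw [Nat.card_eq_fintype_card, QuaternionGroup.card] at h1
      omega
    rw [hn] at e
    exact ⟨e⟩

end Cfsg.Agent.Lib.Helper59.Zass
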